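import Cfsg.Agent.Lib.Small.SpinCover.Universal

/-!
A perfect central extension of a group acting on a graph is governed by the stabiliser of a vertex:
if stabilisers of vertices and of edges are perfect and common neighbours are linked, the kernel lies
in the derived group of the preimage of a stabiliser.
-/

set_option autoImplicit false
set_option linter.unusedSectionVars false

namespace Cfsg.Agent.Small.OrthCover

open Cfsg.Agent.Small.SchurLifts MulAction
open scoped commutatorElement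

variable {G X : Type*} [Group G] [MulAction G X]

variable (G) in
/-- A joint stabiliser. -/
def stab₂ (a b : X) : Subgroup G := stabilizer G a ⊓ stabilizer G b

/-- Two common neighbours `w`, `w'` of `a`, `b` with an element of the derived group of their joint
stabiliser taking `a` to `b`. -/
def Step (adj : X → X → Prop) (a b : X) (w w' : X) : Prop :=
  adj w a ∧ adj w b ∧ adj w' a ∧ adj w' b ∧
    ∃ g ∈ ⁅stab₂ G w w', stab₂ G w w'⁆, g • a = b

variable (G X) in
/-- The hypotheses on the graph. -/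
structure Frame where
  adj : X → X → Prop
  symm : ∀ a b, adj a b → adj b a
  inv : ∀ (g : G) a b, adj a b → adj (g • a) (g • b)
  tr : ∀ a b : X, ∃ g : G, g • a = b
  perfect1 : ∀ (a : X), stabilizer G a ≤ ⁅stabilizer G a, stabilizer G a⁆
  perfect2 : ∀ a w, adj a w → stab₂ G a w ≤ ⁅stab₂ G a w, stab₂ G a w⁆
  trans : ∀ w a b, adj w a → adj w b → ∃ g : G, g • w = w ∧ g • a = b
  common : ∀ a b c, ∃ w, adj w a ∧ adj w b ∧ adj w c

namespace Frame

variable (D : Frame G X) {Γ : Type*} [Group Γ] (C : Central Γ G)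

/-- The derived group of the preimage of a stabiliser. -/
def H (_D : Frame G X) (a : X) : Subgroup Γ :=
  ⁅(stabilizer G a).comap C.π, (stabilizer G a).comap C.π⁆

theorem π_mem {a : X} {x : Γ} (hx : x ∈ D.H C a) : C.π x • a = a :=
  Subgroup.commutator_le_self _ hx

theorem lift_sub {S : Subgroup G} {g : G} (hg : g ∈ ⁅S, S⁆) :
    ∃ x, C.π x = g ∧ ∀ a, S ≤ stabilizer G a → x ∈ D.H C a := by
  rw [← Subgroup.map_comap_eq_self_of_surjective C.surj S, ← Subgroup.map_commutator] at hg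
  obtain ⟨x, hx, rfl⟩ := hg
  exact ⟨x, rfl, fun a ha => Subgroup.commutator_mono (Subgroup.comap_mono ha) (Subgroup.comap_mono ha) hx⟩

theorem conj_mem {a : X} {x : Γ} (hx : x ∈ D.H C a) (y : Γ) : y * x * y⁻¹ ∈ D.H C (C.π y • a) := by
  have h : y * x * y⁻¹ ∈ (D.H C a).map (MulAut.conj y).toMonoidHom := ⟨x, hx, rfl⟩
  rw [H, Subgroup.map_commutator] at h
  refine Subgroup.commutator_mono ?_ ?_ h <;>
  · rintro _ ⟨z, hz, rfl⟩
    show C.π (y * z * y⁻¹) • C.π y • a = C.π y • a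
    rw [← mul_smul, ← map_mul, inv_mul_cancel_right, map_mul, mul_smul,
      show C.π z • a = a from hz]

theorem ker_mem {w : X} {x : Γ} (hx : x ∈ D.H C w) (h1 : C.π x = 1) (a : X) : x ∈ D.H C a := by
  obtain ⟨g, hg⟩ := D.tr w a
  obtain ⟨y, rfl⟩ := C.surj g
  have := D.conj_mem C hx y
  rwa [hg, Subgroup.mem_center_iff.1 (C.central h1) y, mul_inv_cancel_right] at this

theorem key {a w : X} (h : D.adj a w) {x : Γ} (hx : x ∈ D.H C w) (ha : C.π x • a = a) : x ∈ D.H C a := by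
  obtain ⟨y, hy, hmem⟩ := D.lift_sub C (D.perfect2 a w h (show C.π x ∈ stab₂ G a w from ⟨ha, D.π_mem C hx⟩))
  have hk : C.π (y⁻¹ * x) = 1 := by rw [map_mul, map_inv, hy, inv_mul_cancel]
  have := mul_mem (hmem a inf_le_left) (D.ker_mem C (mul_mem (inv_mem (hmem w inf_le_right)) hx) hk a)
  rwa [mul_inv_cancel_left] at this

/-- The elements moving `a` to `b` through `w`. -/
def Cset (a b w : X) (y : Γ) : Prop := ∃ x ∈ D.H C w, C.π x • a = b ∧ x⁻¹ * y ∈ D.H C a

/-- The elements moving `a` to `b`. -/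
def R (a b : X) (y : Γ) : Prop := ∃ w, D.adj w a ∧ D.adj w b ∧ D.Cset C a b w y

theorem step_cset {a b w w' : X} (h : Step (G := G) D.adj a b w w') {y : Γ} (hy : D.Cset C a b w y) :
    D.Cset C a b w' y := by
  obtain ⟨hwa, -, -, -, g, hg, hga⟩ := h
  obtain ⟨x₀, hx₀, hmem⟩ := D.lift_sub C hg
  obtain ⟨x, hx, hxa, hxy⟩ := hy
  refine ⟨x₀, hmem w' inf_le_right, by rw [hx₀, hga], ?_⟩
  have hm : x₀⁻¹ * x ∈ D.H C a := D.key C (D.symm _ _ hwa) (mul_mem (inv_mem (hmem w inf_le_left)) hx)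
    (by rw [map_mul, map_inv, mul_smul, hxa, hx₀, inv_smul_eq_iff, hga])
  have := mul_mem hm hxy
  rwa [← mul_assoc, mul_assoc _ x, mul_inv_cancel, mul_one] at this

/-- The cosets do not depend on the common neighbour. -/
def Linked : Prop :=
  ∀ a b w w', D.adj w a → D.adj w b → D.adj w' a → D.adj w' b → ∀ y, D.Cset C a b w y → D.Cset C a b w' y

/-- Chains of steps link. -/
theorem linked_of_link (h : ∀ a b w w', D.adj w a → D.adj w b → D.adj w' a → D.adj w' b →
    Relation.ReflTransGen (Step (G := G) D.adj a b) w w') : D.Linked C := by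
  intro a b w w' h1 h2 h3 h4 y hy
  induction h a b w w' h1 h2 h3 h4 with
  | refl => exact hy
  | tail h hs ih => exact D.step_cset C hs (ih hs.1 hs.2.1)

theorem R_all (hL : D.Linked C) {a b : X} {y : Γ} (hy : D.R C a b y) {w' : X} (h1 : D.adj w' a)
    (h2 : D.adj w' b) : D.Cset C a b w' y := by
  obtain ⟨w, hwa, hwb, hy⟩ := hy
  exact hL a b w w' hwa hwb h1 h2 y hy

theorem R_comp (hL : D.Linked C) {a b c : X} {y y' : Γ} (h : D.R C a b y) (h' : D.R C b c y') : D.R C a c (y' * y) := by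
  obtain ⟨w, ha, hb, hc⟩ := D.common a b c
  obtain ⟨x, hx, hxa, hxy⟩ := D.R_all C hL h ha hb
  obtain ⟨x', hx', hxb, hxy'⟩ := D.R_all C hL h' hb hc
  refine ⟨w, ha, hc, x' * x, mul_mem hx' hx, by rw [map_mul, mul_smul, hxa, hxb], ?_⟩
  have h1 := D.conj_mem C hxy' x⁻¹
  rw [inv_inv, map_inv, inv_smul_eq_iff.2 hxa.symm] at h1
  have := mul_mem h1 hxy
  rw [show (x' * x)⁻¹ * (y' * y) = x⁻¹ * (x'⁻¹ * y') * x * (x⁻¹ * y) by group]
  exact this

theorem R_conj {a b : X} {y : Γ} (h : D.R C a b y) (g : Γ) :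
    D.R C (C.π g • a) (C.π g • b) (g * y * g⁻¹) := by
  obtain ⟨w, ha, hb, x, hx, hxa, hxy⟩ := h
  refine ⟨C.π g • w, D.inv _ _ _ ha, D.inv _ _ _ hb, g * x * g⁻¹, D.conj_mem C hx g, ?_, ?_⟩
  · rw [← mul_smul, ← map_mul, inv_mul_cancel_right, map_mul, mul_smul, hxa]
  · rw [show (g * x * g⁻¹)⁻¹ * (g * y * g⁻¹) = g * (x⁻¹ * y) * g⁻¹ by group]
    exact D.conj_mem C hxy g

theorem R_inv {a b : X} {y : Γ} (h : D.R C a b y) : D.R C b a y⁻¹ := by
  obtain ⟨w, ha, hb, x, hx, hxa, hxy⟩ := h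
  refine ⟨w, hb, ha, x⁻¹, inv_mem hx, by rw [map_inv, inv_smul_eq_iff, hxa], ?_⟩
  have := D.conj_mem C (inv_mem hxy) x
  rw [hxa] at this
  rwa [show x⁻¹⁻¹ * y⁻¹ = x * (x⁻¹ * y)⁻¹ * x⁻¹ by group]

theorem gen (a₀ w₀ : X) (hw : D.adj a₀ w₀) (g : G) :
    g ∈ stabilizer G a₀ ⊔ stabilizer G w₀ := by
  obtain ⟨w, hw1, hw2, -⟩ := D.common a₀ (g • a₀) a₀
  obtain ⟨h, hh1, hh2⟩ := D.trans a₀ w₀ w hw (D.symm _ _ hw1)
  have hw3 : D.adj w₀ (h⁻¹ • g • a₀) := by
    have := D.inv h⁻¹ _ _ hw2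
    rwa [← hh2, inv_smul_smul] at this
  obtain ⟨k, hk1, hk2⟩ := D.trans w₀ a₀ _ (D.symm _ _ hw) hw3
  have h3 : (h * k)⁻¹ * g ∈ stabilizer G a₀ := by
    show ((h * k)⁻¹ * g) • a₀ = a₀
    rw [mul_smul, inv_smul_eq_iff, mul_smul, hk2, smul_inv_smul]
  have := mul_mem (mul_mem (Subgroup.mem_sup_left (show h ∈ stabilizer G a₀ from hh1))
    (Subgroup.mem_sup_right (show k ∈ stabilizer G w₀ from hk1))) (Subgroup.mem_sup_left h3)
  rwa [mul_inv_cancel_left] at this

/-- The kernel lies in the derived group of the preimage of a stabiliser. -/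
theorem ker_le (hL : D.Linked C) (hΓ : commutator Γ = ⊤) (a₀ : X) : C.π.ker ≤ D.H C a₀ := by
  obtain ⟨w₀, hw, -, -⟩ := D.common a₀ a₀ a₀
  let T : Subgroup Γ :=
    { carrier := {γ | D.R C a₀ (C.π γ • a₀) γ}
      one_mem' := by
        show D.R C a₀ (C.π 1 • a₀) 1
        rw [map_one, one_smul]
        exact ⟨w₀, hw, hw, 1, one_mem _, by rw [map_one, one_smul], by simp⟩
      mul_mem' := fun {x y} hx hy => by
        show D.R C a₀ (C.π (x * y) • a₀) (x * y)
        have := D.R_comp C hL hx (D.R_conj C hy x)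
        rw [← mul_smul, ← map_mul, inv_mul_cancel_right] at this
        exact this
      inv_mem' := fun {x} hx => by
        show D.R C a₀ (C.π x⁻¹ • a₀) x⁻¹
        have := D.R_conj C (D.R_inv C hx) x⁻¹
        rw [← mul_smul, ← map_mul, inv_mul_cancel, map_one, one_smul, inv_inv, mul_assoc,
          inv_mul_cancel, mul_one] at this
        exact this }
  have hA : D.H C a₀ ≤ T := fun y hy => by
    show D.R C a₀ (C.π y • a₀) y
    rw [D.π_mem C hy]
    exact ⟨w₀, hw, hw, 1, one_mem _, by rw [map_one, one_smul], by rwa [inv_one, one_mul]⟩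
  have hW : D.H C w₀ ≤ T := fun y hy => by
    refine ⟨w₀, hw, ?_, y, hy, rfl, by rw [inv_mul_cancel]; exact one_mem _⟩
    have := D.inv (C.π y) _ _ hw
    rwa [D.π_mem C hy] at this
  have htop : T = ⊤ := by
    refine SpinCover.cover_top C hΓ T fun q => ?_
    have hq : q ∈ T.map C.π := by
      refine (sup_le ?_ ?_ : stabilizer G a₀ ⊔ stabilizer G w₀ ≤ T.map C.π) (D.gen a₀ w₀ (D.symm _ _ hw) q)
      · intro g hg
        obtain ⟨x, hx, hmem⟩ := D.lift_sub C (D.perfect1 a₀ hg)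
        exact ⟨x, hA (hmem a₀ le_rfl), hx⟩
      · intro g hg
        obtain ⟨x, hx, hmem⟩ := D.lift_sub C (D.perfect1 w₀ hg)
        exact ⟨x, hW (hmem w₀ le_rfl), hx⟩
    obtain ⟨x, hx, e⟩ := hq
    exact ⟨x, hx, e⟩
  intro γ hγ
  have h : D.R C a₀ (C.π γ • a₀) γ := htop.ge (Subgroup.mem_top γ)
  rw [MonoidHom.mem_ker.1 hγ, one_smul] at h
  obtain ⟨w, hwa, -, x, hx, hxa, hxy⟩ := h
  have := mul_mem (D.key C (D.symm _ _ hwa) hx hxa) hxy
  rwa [mul_inv_cancel_left] at this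

end Frame

end Cfsg.Agent.Small.OrthCover
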