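import Cfsg.Agent.Lib.Small.OrthCover.Odd
import Cfsg.Agent.Lib.Solv.SchurSmall

/-!
The double cover in odd dimension, inside the double cover of plus type one dimension up.
-/

set_option autoImplicit false
set_option linter.unusedSectionVars false

namespace Cfsg.Agent.Small.OrthCover

open Module QuadraticMap Matrix Cfsg.Agent.Classical.OCount Cfsg.Agent.Classical.ORefl Cfsg.Agent.Classical.OOmega
open Cfsg.Agent.Small.SchurLifts Cfsg.Agent.Small.SpinCover Cfsg.Agent.Lie.CTA Cfsg.Agent.Small.OmegaPres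
open scoped commutatorElement

variable {F : Type*} [Field F]

theorem omegaEquiv_val {ι : Type} [Fintype ι] [DecidableEq ι] (Q : QuadraticForm F (ι → F))
    {f : (ι → F) → F} (h : ⇑Q = f) (g : ↥(Gr Q)) : (omegaEquiv Q h g).1.1 = (toMat Q g.1).1 := by
  subst h; rfl

theorem isoCongr_rf {V W : Type*} [AddCommGroup V] [Module F V] [AddCommGroup W] [Module F W]
    {P : QuadraticForm F V} {R : QuadraticForm F W} (L : V ≃ₗ[F] W) (h : ∀ x, R (L x) = P x) (v : V) :
    isoCongr L h (rf P v) = rf R (L v) := by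
  refine Subtype.ext (LinearEquiv.ext fun y => ?_)
  obtain ⟨x, rfl⟩ := L.surjective y
  rw [isoCongr_apply]
  show L (refl P v x) = refl R (L v) (L x)
  have hp : polar R (L v) (L x) = polar P v x := by simp only [polar, ← map_add, h]
  rw [refl_apply, refl_apply, map_sub, map_smul, h, hp]

variable {l : ℕ}

section Clifford

variable [Fintype F]

local notation "MM" => Matrix (Fin (l + 2) → Fin 2) (Fin (l + 2) → Fin 2) F

theorem polar_QP (u v : II l → F) : polar (QP F (l + 2)) u v = ∑ z : II l, v z * u z.swap := by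
  simp only [polar, QP_apply, Pi.add_apply, add_mul, mul_add, Finset.sum_add_distrib, Fintype.sum_sum_type,
    Sum.swap_inl, Sum.swap_inr]
  rw [Finset.sum_congr rfl fun i _ => mul_comm (u (Sum.inl i)) (v (Sum.inr i))]
  ring

theorem cv_two (u v : II l → F) :
    cv u * cv v + cv v * cv u = (polar (QP F (l + 2)) u v • 1 : MM) := by
  have e : (cv v : MM) = ∑ z : II l, v z • cl F z := Fintype.linearCombination_apply F (cl F) v
  rw [e, Finset.mul_sum, Finset.sum_mul, ← Finset.sum_add_distrib, polar_QP, Finset.sum_smul]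
  refine Finset.sum_congr rfl fun z _ => ?_
  rw [mul_smul_comm, smul_mul_assoc, ← smul_add, cv_anti, smul_smul]

theorem cv_unit (h2 : (2 : F) ≠ 0) {u : II l → F} (hu : QP F (l + 2) u = 1) : cv u * cv u = (1 : MM) := by
  have h := cv_two u u
  rw [polar_self_two, hu, mul_one, ← two_smul F] at h
  exact smul_right_injective _ h2 h

/-- The unit of a vector of value one. -/
noncomputable def cvu (h2 : (2 : F) ≠ 0) (u : II l → F) (hu : QP F (l + 2) u = 1) : MMˣ :=
  ⟨cv u, cv u, cv_unit h2 hu, cv_unit h2 hu⟩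

theorem cv_refl (h2 : (2 : F) ≠ 0) {u : II l → F} (hu : QP F (l + 2) u = 1) (x : II l → F) :
    cv u * cv x = -(cv (refl (QP F (l + 2)) u x) * cv u : MM) := by
  rw [refl_apply, hu, inv_one, one_mul, map_sub, map_smul, sub_mul, smul_mul_assoc, cv_unit h2 hu, ← cv_two u x]
  abel

theorem commute_cv {M : MM} (hM : ∀ z, Commute M (cl F z)) (v : II l → F) : Commute M (cv v) := by
  rw [show (cv v : MM) = ∑ z : II l, v z • cl F z from Fintype.linearCombination_apply F (cl F) v]
  exact Commute.sum_right _ _ _ fun z _ => (hM z).smul_right _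

theorem commute_spin {M : MMˣ} (hM : ∀ z, Commute (M : MM) (cl F z)) (p : ↥(Spin F l)) : Commute M p.1.1 := by
  suffices H : ∀ q ∈ Spin F l, Commute M q.1 from H _ p.2
  intro q hq
  induction hq using Subgroup.closure_induction with
  | mem q hq =>
    obtain ⟨x, y, t, h, rfl⟩ := hq
    refine Units.ext ?_
    show (M : MM) * eu F x y t = eu F x y t * M
    rw [eu_val h]
    exact (Commute.one_right _).add_right (((hM x).mul_right (hM y)).smul_right t)
  | one => exact Commute.one_right _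
  | mul a b _ _ ha hb => exact ha.mul_right hb
  | inv a _ ha => exact ha.inv_right

/-- A lift of a product of two reflections differs from the product of two vectors by something central. -/
theorem lift_form (h2 : (2 : F) ≠ 0) {A B : II l → F} (hA : QP F (l + 2) A = 1) (hB : QP F (l + 2) B = 1)
    (p : ↥(Spin F l)) (hp : ∀ x, (proj F l p).1 *ᵥ x = refl (QP F (l + 2)) A (refl (QP F (l + 2)) B x)) :
    ∃ M : MMˣ, p.1.1 = cvu h2 A hA * cvu h2 B hB * M ∧ ∀ z, Commute (M : MM) (cl F z) := by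
  set U0 := cvu h2 A hA * cvu h2 B hB with hU0
  have h0 : ∀ x, (U0 : MM) * cv x = cv (refl (QP F (l + 2)) A (refl (QP F (l + 2)) B x)) * U0 := fun x => by
    rw [hU0, Units.val_mul]
    show cv A * cv B * cv x = cv (refl _ A (refl _ B x)) * (cv A * cv B)
    rw [mul_assoc, cv_refl h2 hB, mul_neg, ← mul_assoc, cv_refl h2 hA, neg_mul, neg_neg, mul_assoc]
  refine ⟨U0⁻¹ * p.1.1, by rw [mul_inv_cancel_left], fun z => ?_⟩
  have h1 := spin_agree p.2 (Pi.single z 1)
  have hz : (cl F z : MM) = cv (Pi.single z 1) := by rw [cv_single, one_smul]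
  rw [show p.1.2.1 *ᵥ Pi.single z 1 = _ from hp _] at h1
  show ((U0⁻¹ * p.1.1 : MMˣ) : MM) * cl F z = cl F z * ((U0⁻¹ * p.1.1 : MMˣ) : MM)
  rw [Units.val_mul, hz, mul_assoc, h1, ← mul_assoc, ← mul_assoc]
  congr 1
  rw [← Units.mul_left_inj U0, mul_assoc (cv (Pi.single z 1)), Units.inv_mul, mul_one, mul_assoc, ← h0, Units.inv_mul_cancel_left]

/-- Two products of reflections sharing a vector have lifts that do not commute. -/
theorem lifts_not_commute (h2 : (2 : F) ≠ 0) {A B C : II l → F} (hA : QP F (l + 2) A = 1)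
    (hB : QP F (l + 2) B = 1) (hC : QP F (l + 2) C = 1) (hAB : polar (QP F (l + 2)) A B = 0)
    (hBC : polar (QP F (l + 2)) B C = 0) (hAC : polar (QP F (l + 2)) A C = 0) (p p' : ↥(Spin F l))
    (hp : ∀ x, (proj F l p).1 *ᵥ x = refl (QP F (l + 2)) A (refl (QP F (l + 2)) B x))
    (hp' : ∀ x, (proj F l p').1 *ᵥ x = refl (QP F (l + 2)) B (refl (QP F (l + 2)) C x)) : ⁅p, p'⁆ ≠ 1 := by
  intro hc
  have hcm : p * p' = p' * p := commutatorElement_eq_one_iff_mul_comm.mp hc
  have hU : p.1.1 * p'.1.1 = p'.1.1 * p.1.1 := congrArg (fun q : ↥(Spin F l) => q.1.1) hcm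
  obtain ⟨M, hM, hMc⟩ := lift_form h2 hA hB p hp
  obtain ⟨M', hM', hMc'⟩ := lift_form h2 hB hC p' hp'
  have cM : ∀ {N : MMˣ}, (∀ z, Commute (N : MM) (cl F z)) → ∀ u hu, Commute N (cvu (l := l) h2 u hu) :=
    fun hN u hu => Units.ext (commute_cv hN u).eq
  set U0 := cvu h2 A hA * cvu h2 B hB
  set U1 := cvu h2 B hB * cvu h2 C hC
  have m1 : Commute M U1 := (cM hMc B hB).mul_right (cM hMc C hC)
  have m0 : Commute M' U0 := (cM hMc' A hA).mul_right (cM hMc' B hB)
  have mm : Commute M M' := by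
    have h := commute_spin hMc p'
    rw [hM'] at h
    have := (m1.inv_right).mul_right h
    rwa [inv_mul_cancel_left] at this
  have e : U0 * U1 = U1 * U0 := by
    have h : (U0 * U1) * (M * M') = (U1 * U0) * (M * M') := by
      calc (U0 * U1) * (M * M') = U0 * (U1 * M) * M' := by simp only [mul_assoc]
        _ = (U0 * M) * (U1 * M') := by rw [← m1.eq]; simp only [mul_assoc]
        _ = (U1 * M') * (U0 * M) := by rw [← hM, ← hM']; exact hU
        _ = U1 * (M' * U0) * M := by simp only [mul_assoc]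
        _ = (U1 * U0) * (M * M') := by rw [m0.eq, mm.eq]; simp only [mul_assoc]
    exact mul_right_cancel h
  have anti : ∀ {u v : II l → F}, polar (QP F (l + 2)) u v = 0 → cv v * cv u = -(cv u * cv v : MM) := fun h => by
    exact eq_neg_iff_add_eq_zero.mpr ((add_comm _ _).trans ((cv_two _ _).trans (by rw [h, zero_smul])))
  have e1 : ((U0 * U1 : MMˣ) : MM) = cv A * cv C := by
    show cv A * cv B * (cv B * cv C) = _
    rw [mul_assoc, ← mul_assoc (cv B), cv_unit h2 hB, one_mul]
  have e2 : ((U1 * U0 : MMˣ) : MM) = -(cv A * cv C) := by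
    show cv B * cv C * (cv A * cv B) = _
    rw [mul_assoc, ← mul_assoc (cv C), anti hAC, neg_mul, mul_neg, mul_assoc (cv A), anti hBC, mul_neg, mul_neg,
      neg_neg, ← mul_assoc (cv B), anti hAB, neg_mul, mul_assoc, ← mul_assoc (cv B), cv_unit h2 hB, one_mul]
  rw [e] at e1
  rw [e1] at e2
  have h0 : (cv A * cv C : MM) = 0 := by
    rw [eq_neg_iff_add_eq_zero, ← two_smul F] at e2
    exact (smul_eq_zero.mp e2).resolve_left h2
  have := congrArg (fun X : MM => cv A * X * cv C) h0
  simp only [mul_zero, zero_mul] at this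
  rw [← mul_assoc, cv_unit h2 hA, one_mul, cv_unit h2 hC] at this
  exact SpinCover.one_ne_zero' this

end Clifford

section Embedding

variable [Finite F] {m : ℕ}

variable (F) in
/-- A vector of value minus one. -/
noncomputable def extra (m : ℕ) : Fin (m + 1) ⊕ Fin (m + 1) → F :=
  Pi.single (.inl (Fin.last m)) 1 - Pi.single (.inr (Fin.last m)) 1

theorem extra_val : QP F (m + 1) (extra F m) = -1 := by
  rw [QP_apply, Fin.sum_univ_castSucc]
  simp [extra, (Fin.castSucc_lt_last _).ne]

theorem polar_extra (x : Fin (m + 1) ⊕ Fin (m + 1) → F) :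
    polar (QP F (m + 1)) (extra F m) x = x (.inr (Fin.last m)) - x (.inl (Fin.last m)) := by
  show QP F (m + 1) (extra F m + x) - QP F (m + 1) (extra F m) - QP F (m + 1) x = _
  rw [extra_val, QP_apply, QP_apply, Fin.sum_univ_castSucc, Fin.sum_univ_castSucc]
  simp [extra, (Fin.castSucc_lt_last _).ne]
  ring

theorem mem_extra_perp {x : Fin (m + 1) ⊕ Fin (m + 1) → F} :
    x ∈ perp (QP F (m + 1)) (Submodule.span F {extra F m}) ↔ x (.inr (Fin.last m)) = x (.inl (Fin.last m)) := by
  rw [mem_perp_span]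
  simp [polar_extra, sub_eq_zero]

/-- The odd space inside the space of plus type. -/
noncomputable def oddCoord :
    (Unit ⊕ (Fin m ⊕ Fin m) → F) ≃ₗ[F] perp (QP F (m + 1)) (Submodule.span F {extra F m}) where
  toFun x := ⟨Sum.elim (Fin.snoc (fun i => x (.inr (.inl i))) (x (.inl ())))
    (Fin.snoc (fun i => x (.inr (.inr i))) (x (.inl ()))), mem_extra_perp.mpr (by simp)⟩
  map_add' x y := Subtype.ext (funext fun k => by rcases k with i | i <;> refine Fin.lastCases ?_ ?_ i <;> simp)
  map_smul' c x := Subtype.ext (funext fun k => by rcases k with i | i <;> refine Fin.lastCases ?_ ?_ i <;> simp)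
  invFun y := Sum.elim (fun _ => y.1 (.inl (Fin.last m)))
    (Sum.elim (fun i => y.1 (.inl i.castSucc)) fun i => y.1 (.inr i.castSucc))
  left_inv x := funext fun k => by rcases k with u | i | i <;> simp
  right_inv y := Subtype.ext (funext fun k => by
    have := mem_extra_perp.mp y.2
    rcases k with i | i <;> refine Fin.lastCases ?_ ?_ i <;> simp [this])

theorem oddCoord_value (x : Unit ⊕ (Fin m ⊕ Fin m) → F) :
    sub (QP F (m + 1)) (perp (QP F (m + 1)) (Submodule.span F {extra F m})) (oddCoord x) = QO F m x := by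
  show QP F (m + 1) (oddCoord x).1 = _
  rw [QP_apply, QO_apply, Fin.sum_univ_castSucc]
  simp [oddCoord]
  ring

/-- The isometries in odd dimension as those fixing a vector of value minus one. -/
noncomputable def oddIso :
    ↥(Iso (QO F m)) ≃* ↥(Iso (sub (QP F (m + 1)) (perp (QP F (m + 1)) (Submodule.span F {extra F m})))) :=
  isoCongr oddCoord fun x => oddCoord_value x

variable (h2 : (2 : F) ≠ 0)
include h2

theorem extra_nondeg :
    perp (QP F (m + 1)) (Submodule.span F {extra F m}) ⊓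
      perp (QP F (m + 1)) (perp (QP F (m + 1)) (Submodule.span F {extra F m})) = ⊥ := by
  rw [perp_perp (formOf_pnd pnd_empty), inf_comm]
  exact span_nondeg h2 (by rw [extra_val]; exact neg_ne_zero.mpr one_ne_zero)

/-- The derived group of odd dimension inside that of plus type. -/
noncomputable def oddEmb : ↥(Gr (QO F m)) →* ↥(Gr (QP F (m + 1))) :=
  (emb (formOf_pnd pnd_empty) (extra_nondeg h2)).comp
    (((Gr (QO F m)).equivMapOfInjective _ (oddIso).injective).trans
      (MulEquiv.subgroupCongr (map_commutator_equiv (oddIso (F := F) (m := m))))).toMonoidHom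

theorem oddEmb_val (g : ↥(Gr (QO F m))) :
    (oddEmb h2 g).1 = ext (formOf_pnd pnd_empty) (extra_nondeg h2) (oddIso g.1) := rfl

theorem oddEmb_injective : Function.Injective (oddEmb (F := F) (m := m) h2) := fun g g' e => by
  refine Subtype.ext ((oddIso).injective (Subtype.ext (LinearEquiv.ext fun x => Subtype.ext ?_)))
  have e' := congrArg (fun k : ↥(Gr (QP F (m + 1))) => k.1.1 x.1) e
  simp only [oddEmb_val, ext_mem] at e'
  exact e'

theorem oddEmb_rf (g : ↥(Gr (QO F m))) {a b : Unit ⊕ (Fin m ⊕ Fin m) → F} (h : g.1 = rf (QO F m) a * rf (QO F m) b) :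
    (oddEmb h2 g).1 = rf (QP F (m + 1)) (oddCoord a).1 * rf (QP F (m + 1)) (oddCoord b).1 := by
  rw [oddEmb_val, h, map_mul, map_mul, oddIso, isoCongr_rf, isoCongr_rf, ext_rf, ext_rf]

theorem rf_pair_mem (hm : 1 ≤ m) {a b : Unit ⊕ (Fin m ⊕ Fin m) → F} (ha : QO F m a = 1) (hb : QO F m b = 1) :
    rf (QO F m) a * rf (QO F m) b ∈ Gr (QO F m) := by
  have hn : 2 ≤ finrank F (Unit ⊕ (Fin m ⊕ Fin m) → F) := by rw [finrank_QO]; omega
  show _ ∈ commutator _
  rw [commutator_eq h2 (QO_pnd h2) hn, MonoidHom.mem_ker, map_mul]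
  have e : ∀ x, QO F m x = 1 → both (QO F m) h2 (QO_pnd h2) (rf (QO F m) x) = (-1, 1) := fun x hx =>
    Prod.ext (dsign_rf h2 _ (hx.symm ▸ one_ne_zero))
      ((spinor_rf h2 (QO_pnd h2) hn (hx.symm ▸ one_ne_zero)).mpr (hx.symm ▸ IsSquare.one))
  rw [e a ha, e b hb]; decide

end Embedding

set_option maxHeartbeats 2000000 in
/-- A cover of the derived group in odd dimension with a kernel of two elements. -/
theorem exists_cover [Fintype F] (h2 : (2 : F) ≠ 0) (hl : 2 ≤ l) :
    ∃ (P : Subgroup ↥(Spin F l)) (σ : ↥P →* ↥(Gr (QO F (l + 1)))),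
      Cfsg.IsStemExtension σ ∧ Nat.card ↥σ.ker = 2 := by
  have hexc : l = 2 → Fintype.card F ≠ 2 := fun _ h => h2 (by
    have := FiniteField.cast_card_eq_zero F
    rw [h] at this
    exact_mod_cast this)
  obtain ⟨z, hzz, hz, -, -, hker⟩ := spin_ker (F := F) hl hexc
  let e : ↥(Gr (QP F (l + 2))) ≃* ↥(OM F l) :=
    (omegaEquiv (QP F (l + 2)) (coe_plus (l + 2))).trans (omEquiv F l hl).symm
  have e_val : ∀ g, (e g).1 = (toMat _ g.1).1 := fun g => by
    show ((omEquiv F l hl).symm (omegaEquiv _ (coe_plus (l + 2)) g)).1 = _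
    rw [← omegaEquiv_val (QP F (l + 2)) (coe_plus (l + 2)) g]
    rfl
  let π0 : ↥(Spin F l) →* ↥(Gr (QP F (l + 2))) := e.symm.toMonoidHom.comp (CS F l).π
  let P : Subgroup ↥(Spin F l) := (oddEmb (m := l + 1) h2).range.comap π0
  let f := MonoidHom.ofInjective (oddEmb_injective (F := F) (m := l + 1) h2)
  let σ : ↥P →* ↥(Gr (QO F (l + 1))) :=
    f.symm.toMonoidHom.comp ((π0.comp P.subtype).codRestrict (oddEmb (m := l + 1) h2).range fun x => x.2)
  have σ_spec : ∀ x : ↥P, oddEmb h2 (σ x) = π0 x.1 := fun x =>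
    congrArg Subtype.val (f.apply_symm_apply ((π0.comp P.subtype).codRestrict _ (fun x => x.2) x))
  have hsurj : Function.Surjective σ := fun y => by
    obtain ⟨p, hp⟩ := (CS F l).surj (e (oddEmb h2 y))
    have hp0 : π0 p = oddEmb h2 y := by
      show e.symm ((CS F l).π p) = _
      rw [hp, e.symm_apply_apply]
    exact ⟨⟨p, ⟨y, hp0.symm⟩⟩, oddEmb_injective h2 ((σ_spec _).trans hp0)⟩
  have hproj : ∀ x : ↥P, σ x = 1 → proj F l x.1 = 1 := fun x hx => by
    have h0 : π0 x.1 = 1 := by rw [← σ_spec, hx, map_one]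
    exact congrArg Subtype.val (e.symm.injective (h0.trans (map_one e.symm).symm))
  have hmat : ∀ (x : ↥P) v, (proj F l x.1).1 *ᵥ v = (oddEmb h2 (σ x)).1.1 v := fun x v => by
    rw [σ_spec, ← toMat_apply (π0 x.1).1, ← e_val]
    show _ = ((e (e.symm ((CS F l).π x.1))).1 : Matrix (II l) (II l) F) *ᵥ v
    rw [e.apply_symm_apply]
    rfl
  have hn : 7 ≤ finrank F (Unit ⊕ (Fin (l + 1) ⊕ Fin (l + 1)) → F) := by rw [finrank_QO]; omega
  have hQ := QO_pnd (F := F) (m := l + 1) h2
  obtain ⟨a, ha⟩ : ∃ a, a = base F (l + 1) := ⟨_, rfl⟩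
  obtain ⟨b, hb⟩ := exists_vec h2 hQ (S := Submodule.span F {a.1}) (by
    rw [span_nondeg h2 (a.2.symm ▸ one_ne_zero), finrank_bot, finrank_span_singleton (ne_zero a)]; omega)
  have hab : polar (QO F (l + 1)) a.1 b.1 = 0 := hb _ (Submodule.mem_span_singleton_self _)
  obtain ⟨c, hc⟩ := exists_vec h2 hQ (S := Submodule.span F {a.1, b.1}) (by
    have := pair_dim h2 hQ a b
    rw [pair_nondeg h2 hQ hab, finrank_bot]; omega)
  have hac : polar (QO F (l + 1)) a.1 c.1 = 0 := hc _ (Submodule.subset_span (by simp))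
  have hbc : polar (QO F (l + 1)) b.1 c.1 = 0 := hc _ (Submodule.subset_span (by simp))
  obtain ⟨p, hp⟩ := hsurj ⟨_, rf_pair_mem h2 (by omega) a.2 b.2⟩
  obtain ⟨p', hp'⟩ := hsurj ⟨_, rf_pair_mem h2 (by omega) b.2 c.2⟩
  have hval : ∀ u : Vec (QO F (l + 1)), QP F (l + 2) (oddCoord u.1).1 = 1 := fun u =>
    (oddCoord_value u.1).trans u.2
  have hpol : ∀ u v : Unit ⊕ (Fin (l + 1) ⊕ Fin (l + 1)) → F,
      polar (QP F (l + 2)) (oddCoord u).1 (oddCoord v).1 = polar (QO F (l + 1)) u v := fun u v => by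
    rw [← sub_polar]
    simp only [polar, ← map_add, oddCoord_value]
  have hne : (⁅p, p'⁆ : ↥P) ≠ 1 := fun he => by
    refine lifts_not_commute h2 (hval a) (hval b) (hval c) ((hpol _ _).trans hab) ((hpol _ _).trans hbc)
      ((hpol _ _).trans hac) p.1 p'.1 (fun x => ?_) (fun x => ?_) ?_
    · rw [hmat, hp, oddEmb_rf h2 _ rfl]; rfl
    · rw [hmat, hp', oddEmb_rf h2 _ rfl]; rfl
    · exact (map_commutatorElement P.subtype p p').symm.trans ((congrArg P.subtype he).trans (map_one _))
  have hcomm : Commute (rf (QO F (l + 1)) a.1 * rf (QO F (l + 1)) b.1)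
      (rf (QO F (l + 1)) b.1 * rf (QO F (l + 1)) c.1) := by
    have k : ∀ u v : Vec (QO F (l + 1)), polar (QO F (l + 1)) u.1 v.1 = 0 →
        Commute (rf (QO F (l + 1)) u.1) (rf (QO F (l + 1)) v.1) := fun u v h => by
      show _ = _
      rw [← mul_inv_eq_iff_eq_mul, conj_rf]
      exact congrArg (rf _) (refl_fix h)
    exact ((k a b hab).mul_right (k a c hac)).mul_left
      ((Commute.refl (rf (QO F (l + 1)) b.1)).mul_right (k b c hbc))
  have hσc : σ ⁅p, p'⁆ = 1 := by
    rw [map_commutatorElement, hp, hp', commutatorElement_eq_one_iff_mul_comm]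
    exact Subtype.ext hcomm.eq
  have hcz : (⁅p, p'⁆ : ↥P).1 = z :=
    (hker _ (hproj _ hσc)).resolve_left fun h => hne (Subtype.ext h)
  have hkerσ : ∀ x : ↥P, σ x = 1 → x = 1 ∨ x = ⁅p, p'⁆ := fun x hx =>
    (hker _ (hproj x hx)).imp (fun h => Subtype.ext h) fun h => Subtype.ext (h.trans hcz.symm)
  refine ⟨P, σ, ⟨hsurj, fun x hx => ?_, fun x hx => ?_⟩, ?_⟩
  · rw [Subgroup.mem_center_iff]
    exact fun y => Subtype.ext (Subgroup.mem_center_iff.1 (ker_central (hproj x hx)) y.1)
  · rcases hkerσ x hx with rfl | rfl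
    · exact one_mem _
    · exact Subgroup.commutator_mem_commutator (Subgroup.mem_top _) (Subgroup.mem_top _)
  · rw [Nat.card_eq_two_iff]
    refine ⟨⟨1, one_mem _⟩, ⟨⁅p, p'⁆, hσc⟩, fun h => hne (congrArg Subtype.val h).symm, ?_⟩
    refine Set.eq_univ_of_forall fun x => ?_
    rcases hkerσ x.1 x.2 with h | h
    · exact Or.inl (Subtype.ext h)
    · exact Or.inr (Subtype.ext h)

/-- The centre is trivial in odd dimension. -/
theorem center_bot [Fintype F] (hodd : Odd (Fintype.card F)) {m : ℕ} (hm : 2 ≤ m) :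
    Subgroup.center ↥(Gr (QO F m)) = ⊥ := by
  have h2 := two_ne_of_odd hodd
  have hP := pnd_line (F := F) h2
  have hz := card_center_standard (e := Equiv.sumComm Unit (Fin m ⊕ Fin m)) hP hm (by simp; omega)
  rw [if_neg] at hz
  · exact Subgroup.card_eq_one.mp hz
  · rintro ⟨hn, -⟩
    rw [negI_mem_standard h2 hP (by simp; omega) [fun _ => 1] ?_ (List.pairwise_singleton _ _) ?_] at hn
    · simp [Nat.even_add_one] at hn
    · intro z hz
      rw [List.mem_singleton] at hz
      subst hz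
      change (1 : F) * 1 ≠ 0
      simp
    · intro x hx
      refine hP x fun y => ?_
      have := hx _ List.mem_cons_self
      rw [show y = y () • (fun _ : Unit => (1 : F)) from funext fun r => by simp, polar_smul_right, polar_comm,
        this, smul_zero]

/-- The multiplier in odd dimension. -/
theorem pomega_odd [Fintype F] (hodd : Odd (Fintype.card F)) {m : ℕ} (hm : 3 ≤ m)
    (hq : 5 ≤ Fintype.card F ∨ 4 ≤ m) :
    Cfsg.HasCyclicSchurMultiplier (Cfsg.POmega F (Cfsg.quadFormOdd m F)) 2 := by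
  classical
  have h2 := two_ne_of_odd hodd
  have hc := center_bot (m := m) hodd (by omega)
  let ε : ↥(Gr (QO F m)) ≃* Cfsg.POmega F (Cfsg.quadFormOdd m F) :=
    ((QuotientGroup.quotientBot (G := ↥(Gr (QO F m)))).symm.trans
      (QuotientGroup.quotientMulEquivOfEq hc.symm)).trans (coe_odd (F := F) m ▸ pOmegaEquiv (QO F m))
  obtain ⟨l, rfl⟩ : ∃ l, m = l + 1 := ⟨m - 1, by omega⟩
  refine Solv.hasCyclicSchur_of ?_ fun Γ _ _ σ hσ => ?_
  · obtain ⟨P, σ, ⟨hs, hz, hd⟩, hcard⟩ := exists_cover (F := F) (l := l) h2 (by omega)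
    haveI : Finite ↥(Spin F l) := inferInstance
    have hk : (ε.toMonoidHom.comp σ).ker = σ.ker := by
      ext x; simp [MonoidHom.mem_ker]
    haveI : Fact (Nat.Prime 2) := ⟨Nat.prime_two⟩
    haveI : IsCyclic ↥σ.ker := isCyclic_of_prime_card hcard
    exact ⟨↥P, inferInstance, inferInstance, ε.toMonoidHom.comp σ,
      ⟨ε.surjective.comp hs, hk ▸ hz, hk ▸ hd⟩,
      ⟨(MulEquiv.subgroupCongr hk).trans
        (mulEquivOfCyclicCardEq (by rw [hcard, Nat.card_congr Multiplicative.toAdd, Nat.card_zmod]))⟩⟩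
  · let C : Central Γ ↥(Gr (QO F (l + 1))) :=
      ⟨ε.symm.toMonoidHom.comp σ, ε.symm.surjective.comp hσ.1, fun x hx =>
        hσ.2.1 (ε.symm.injective (hx.trans (map_one ε.symm).symm))⟩
    have hn : 7 ≤ finrank F (Unit ⊕ (Fin (l + 1) ⊕ Fin (l + 1)) → F) := by rw [finrank_QO]; omega
    have hperf : ∀ g : ↥(Gr (QO F (l + 1))), g ∈ commutator ↥(Gr (QO F (l + 1))) := fun g => by
      refine (Subgroup.mem_map_iff_mem (Gr (QO F (l + 1))).subtype_injective).mp ?_
      rw [commutator_def, Subgroup.map_commutator, ← MonoidHom.range_eq_map, Subgroup.range_subtype]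
      exact omega_perfect h2 (QO_pnd h2) (by omega) g.2
    have hΓ : commutator Γ = ⊤ := by
      rw [eq_top_iff]
      intro g _
      obtain ⟨h, hh, hgh⟩ : C.π g ∈ (commutator Γ).map C.π := by
        rw [commutator_def, Subgroup.map_commutator, Subgroup.map_top_of_surjective C.π C.surj, ← commutator_def]
        exact hperf _
      have : h⁻¹ * g ∈ σ.ker := ε.symm.injective (by
        show C.π (h⁻¹ * g) = ε.symm 1
        rw [map_mul, map_inv, hgh, inv_mul_cancel, map_one])
      simpa using mul_mem hh (hσ.2.2 this)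
    obtain ⟨g, hg, hgg, hall⟩ := odd_ker_le_two h2 hm (hq.imp_left fun h => by rwa [Nat.card_eq_fintype_card]) C hΓ
    have hσg : σ g = 1 := by
      have h1 : ε.symm (σ g) = 1 := hg
      exact ε.symm.injective (h1.trans (map_one ε.symm).symm)
    refine ⟨⟨g, hσg⟩, Subtype.ext (by
      show g ^ 2 = 1
      rw [pow_two, hgg]), fun k => ?_⟩
    rcases hall k.1 (show ε.symm (σ k.1) = 1 by rw [show σ k.1 = 1 from k.2, map_one]) with h | h
    · rw [show k = 1 from Subtype.ext h]; exact one_mem _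
    · rw [show k = ⟨g, hσg⟩ from Subtype.ext h]
      exact Subgroup.mem_zpowers _

end Cfsg.Agent.Small.OrthCover
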