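import Cfsg.Agent.Lib.Small.OrthCover.Transfer
import Cfsg.Agent.Lib.Small.OrthCover.OddExist

/-!
Double covers of orthogonal groups inside a group of plus type, and the squares of lifts of involutions.
-/

set_option autoImplicit false
set_option linter.unusedSectionVars false

namespace Cfsg.Agent.Small.OrthCover

open Module QuadraticMap MulAction Matrix Cfsg.Agent.Classical.OCount Cfsg.Agent.Classical.ORefl Cfsg.Agent.Classical.OOmega
open Cfsg.Agent.Small.SchurLifts Cfsg.Agent.Small.SpinCover Cfsg.Agent.Lie.CTA Cfsg.Agent.Small.OmegaPres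
open scoped commutatorElement

universe u

variable {F : Type u} [Field F]

section Pairs

variable {V : Type*} [AddCommGroup V] [Module F V] [FiniteDimensional F V] [Finite F] {Q : QuadraticForm F V}
  (h2 : (2 : F) ≠ 0) (hQ : PND Q) (hn : 2 ≤ finrank F V)
include h2 hQ hn

theorem pair_both (a b : Vec Q) : rf Q a.1 * rf Q b.1 ∈ commutator ↥(Iso Q) := by
  rw [commutator_eq h2 hQ hn, MonoidHom.mem_ker, map_mul]
  have e : ∀ x : Vec Q, both Q h2 hQ (rf Q x.1) = (-1, 1) := fun x =>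
    Prod.ext (dsign_rf h2 _ (x.2.symm ▸ one_ne_zero))
      ((spinor_rf h2 hQ hn (x.2.symm ▸ one_ne_zero)).mpr (x.2.symm ▸ IsSquare.one))
  rw [e a, e b]; decide

/-- The involution of two perpendicular vectors of value one. -/
noncomputable def pairEl (a b : Vec Q) : ↥(Gr Q) := ⟨rf Q a.1 * rf Q b.1, pair_both h2 hQ hn a b⟩

theorem pair_conj (g : ↥(Gr Q)) (a b : Vec Q) :
    g * pairEl h2 hQ hn a b * g⁻¹ = pairEl h2 hQ hn (g • a) (g • b) := by
  refine Subtype.ext ?_
  show g.1 * (rf Q a.1 * rf Q b.1) * g.1⁻¹ = rf Q (g • a).1 * rf Q (g • b).1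
  rw [smul_val, smul_val, ← conj_rf g.1, ← conj_rf g.1]
  group

theorem pair_swap {a b : Vec Q} (h : polar Q a.1 b.1 = 0) : pairEl h2 hQ hn a b = pairEl h2 hQ hn b a := by
  refine Subtype.ext ?_
  show rf Q a.1 * rf Q b.1 = rf Q b.1 * rf Q a.1
  rw [← mul_inv_eq_iff_eq_mul, conj_rf]
  exact congrArg (rf _) (refl_fix h)

theorem pair_trans (a b d : Vec Q) : pairEl h2 hQ hn a d * pairEl h2 hQ hn d b = pairEl h2 hQ hn a b := by
  refine Subtype.ext ?_
  show rf Q a.1 * rf Q d.1 * (rf Q d.1 * rf Q b.1) = rf Q a.1 * rf Q b.1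
  rw [mul_assoc, ← mul_assoc (rf Q d.1), rf_mul_self, one_mul]

theorem pair_comm {a b d : Vec Q} (hab : polar Q a.1 b.1 = 0) (had : polar Q a.1 d.1 = 0) (hbd : polar Q b.1 d.1 = 0) :
    Commute (pairEl h2 hQ hn a b) (pairEl h2 hQ hn b d) := by
  have k : ∀ u v : Vec Q, polar Q u.1 v.1 = 0 → Commute (rf Q u.1) (rf Q v.1) := fun u v h => by
    show _ = _
    rw [← mul_inv_eq_iff_eq_mul, conj_rf]
    exact congrArg (rf _) (refl_fix h)
  refine Subtype.ext (Commute.eq ?_)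
  exact ((k a b hab).mul_right (k a d had)).mul_left ((Commute.refl (rf Q b.1)).mul_right (k b d hbd))

theorem pair_apply {a b : Vec Q} (h : polar Q a.1 b.1 = 0) :
    (pairEl h2 hQ hn a b).1.1 a.1 = -a.1 ∧ (pairEl h2 hQ hn a b).1.1 b.1 = -b.1 ∧
      ∀ x, polar Q a.1 x = 0 → polar Q b.1 x = 0 → (pairEl h2 hQ hn a b).1.1 x = x := by
  refine ⟨?_, ?_, fun x ha hb => ?_⟩
  · show refl Q a.1 (refl Q b.1 a.1) = _
    rw [refl_fix (v := b.1) (x := a.1) (by rw [polar_comm]; exact h), refl_self (a.2.symm ▸ one_ne_zero)]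
  · show refl Q a.1 (refl Q b.1 b.1) = _
    rw [refl_self (b.2.symm ▸ one_ne_zero), map_neg, refl_fix h]
  · show refl Q a.1 (refl Q b.1 x) = _
    rw [refl_fix hb, refl_fix ha]

variable {A : Type*} [Group A] (C : Central A ↥(Gr Q)) (c : A)

/-- Lifts of involutions sharing a vector do not commute. -/
def Anti : Prop :=
  ∀ (a b d : Vec Q) (p p' : A), polar Q a.1 b.1 = 0 → polar Q a.1 d.1 = 0 → polar Q b.1 d.1 = 0 →
    C.π p = pairEl h2 hQ hn a b → C.π p' = pairEl h2 hQ hn b d → ⁅p, p'⁆ = c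

variable (hc : C.π c = 1) (hcc : c * c = 1) (hk : ∀ k, C.π k = 1 → k = 1 ∨ k = c) (hanti : Anti h2 hQ hn C c)
  (h5 : 5 ≤ finrank F V)
include hc hcc hk hanti h5

theorem disjoint_commute {a b u v : Vec Q} (hab : polar Q a.1 b.1 = 0) (hau : polar Q a.1 u.1 = 0)
    (hav : polar Q a.1 v.1 = 0) (hbu : polar Q b.1 u.1 = 0) (hbv : polar Q b.1 v.1 = 0) {p q : A}
    (hp : C.π p = pairEl h2 hQ hn a b) (hq : C.π q = pairEl h2 hQ hn u v) : Commute p q := by
  obtain ⟨q1, h1⟩ := C.surj (pairEl h2 hQ hn u b)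
  obtain ⟨q2, h3⟩ := C.surj (pairEl h2 hQ hn b v)
  have e : C.π q = C.π (q1 * q2) := by rw [map_mul, h1, h3, pair_trans h2 hQ hn, hq]
  refine commutatorElement_eq_one_iff_mul_comm.mp ?_
  rw [C.comm_right p e]
  have c1 := hanti a b u p q1 hab hau hbu hp (h1.trans (pair_swap h2 hQ hn (by rw [polar_comm]; exact hbu)))
  have c2 := hanti a b v p q2 hab hav hbv hp h3
  have hcz := C.central (show c ∈ C.π.ker from hc)
  have h' : ⁅p, q1 * q2⁆ = ⁅p, q1⁆ * (q1 * ⁅p, q2⁆ * q1⁻¹) := by simp only [commutatorElement_def]; group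
  rw [h', c1, c2, Subgroup.mem_center_iff.1 hcz q1, mul_inv_cancel_right, hcc]

/-- The square of a lift is the sign. -/
theorem pair_sq {a b : Vec Q} (hab : polar Q a.1 b.1 = 0) {p : A} (hp : C.π p = pairEl h2 hQ hn a b) :
    p * p = c := by
  obtain ⟨d, hd⟩ := exists_vec h2 hQ (S := Submodule.span F {a.1, b.1}) (by
    have := pair_dim h2 hQ a b
    rw [pair_nondeg h2 hQ hab, finrank_bot]; omega)
  have had : polar Q a.1 d.1 = 0 := hd _ (Submodule.subset_span (by simp))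
  have hbd : polar Q b.1 d.1 = 0 := hd _ (Submodule.subset_span (by simp))
  have hdb : polar Q d.1 b.1 = 0 := by rw [polar_comm]; exact hbd
  obtain ⟨p1, h1⟩ := C.surj (pairEl h2 hQ hn a d)
  obtain ⟨p2, h3⟩ := C.surj (pairEl h2 hQ hn d b)
  have hperp : ∀ x y : Vec Q, polar Q x.1 y.1 = 0 → y.1 ∈ perp Q (Submodule.span F {x.1}) := fun x y e =>
    mem_perp_span.mpr fun v hv => by rw [Set.mem_singleton_iff.mp hv]; exact e
  have same : ∀ {q q' : A}, C.π q = C.π q' → q * q = q' * q' := fun {q q'} e => by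
    have hz : q'⁻¹ * q ∈ C.π.ker := by rw [MonoidHom.mem_ker, map_mul, map_inv, e, inv_mul_cancel]
    have hzc := Subgroup.mem_center_iff.1 (C.central hz)
    have hzz : (q'⁻¹ * q) * (q'⁻¹ * q) = 1 := by
      rcases hk _ hz with e' | e' <;> rw [e']
      · exact one_mul 1
      · exact hcc
    calc q * q = q' * (q'⁻¹ * q) * (q' * (q'⁻¹ * q)) := by group
      _ = q' * q' * ((q'⁻¹ * q) * (q'⁻¹ * q)) := by
        rw [mul_assoc q' (q'⁻¹ * q), ← mul_assoc (q'⁻¹ * q) q', ← hzc q']; group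
      _ = q' * q' := by rw [hzz, mul_one]
  -- squares are the same for all pairs
  have sq : ∀ (x y z : Vec Q) (q q' : A), polar Q x.1 y.1 = 0 → polar Q x.1 z.1 = 0 →
      C.π q = pairEl h2 hQ hn x y → C.π q' = pairEl h2 hQ hn x z → C.π (q * q) = 1 → q * q = q' * q' := by
    intro x y z q q' hxy hxz hq hq' hqq
    obtain ⟨g, hgfix, hg⟩ := exists_move h2 hQ (span_nondeg h2 (x.2.symm ▸ one_ne_zero))
      (by rw [finrank_span_singleton (ne_zero x)]; omega) (hperp x y hxy) (hperp x z hxz)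
    obtain ⟨r, hr⟩ := C.surj g
    have hgx : g • x = x := Subtype.ext (hgfix _ (Submodule.mem_span_singleton_self _))
    have e : C.π (r * q * r⁻¹) = C.π q' := by
      rw [map_mul, map_mul, map_inv, hr, hq, pair_conj h2 hQ hn, hgx, hg, hq']
    rw [← same e, show r * q * r⁻¹ * (r * q * r⁻¹) = r * (q * q) * r⁻¹ by group,
      Subgroup.mem_center_iff.1 (C.central hqq) r, mul_inv_cancel_right]
  have sq1 : ∀ {x y : Vec Q} {q : A}, polar Q x.1 y.1 = 0 → C.π q = pairEl h2 hQ hn x y → C.π (q * q) = 1 := by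
    intro x y q hxy hq
    rw [map_mul, hq]
    refine Subtype.ext ?_
    show rf Q x.1 * rf Q y.1 * (rf Q x.1 * rf Q y.1) = 1
    have e : rf Q x.1 * rf Q y.1 = rf Q y.1 * rf Q x.1 := congrArg Subtype.val (pair_swap h2 hQ hn hxy)
    nth_rw 2 [e]
    rw [mul_assoc, ← mul_assoc (rf Q y.1), rf_mul_self, one_mul, rf_mul_self]
  have e1 : p1 * p1 = p * p := sq a d b p1 p had hab h1 hp (sq1 had h1)
  have e2 : p2 * p2 = p * p := by
    refine sq b d a p2 p hbd (by rw [polar_comm]; exact hab) ?_ ?_ (sq1 hdb h3)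
    · rw [h3, pair_swap h2 hQ hn hdb]
    · rw [hp, pair_swap h2 hQ hn hab]
  have e3 : p * p = (p1 * p2) * (p1 * p2) := same (by rw [map_mul, h1, h3, pair_trans h2 hQ hn, hp])
  have hs : C.π (p * p) = 1 := sq1 hab hp
  have hcz := Subgroup.mem_center_iff.1 (C.central (show c ∈ C.π.ker from hc))
  have hsz := Subgroup.mem_center_iff.1 (C.central (show p * p ∈ C.π.ker from hs))
  have e4 : p1 * p2 = c * (p2 * p1) := by
    rw [← hanti a d b p1 p2 had hab hdb h1 h3, commutatorElement_def]; group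
  have key : p * p = c * (p * p) * (p * p) := by
    calc p * p = (p1 * p2) * (p1 * p2) := e3
      _ = c * (p2 * p1) * (p1 * p2) := by rw [← e4]
      _ = c * (p2 * (p1 * p1) * p2) := by simp only [mul_assoc]
      _ = c * (p * p * (p2 * p2)) := by rw [e1, hsz p2]; simp only [mul_assoc]
      _ = c * (p * p) * (p * p) := by rw [e2]; simp only [mul_assoc]
  have hpp : (p * p) * (p * p) = 1 := by
    rcases hk _ hs with e' | e' <;> rw [e']
    · exact one_mul 1
    · exact hcc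
  rw [mul_assoc, hpp, mul_one] at key
  exact key

end Pairs

variable {l : ℕ}

set_option maxHeartbeats 2000000 in
/-- A double cover of a space embedded isometrically in one of plus type. -/
theorem exists_double_cover [Fintype F] (h2 : (2 : F) ≠ 0) (hl : 2 ≤ l) {ι : Type} [Fintype ι] [DecidableEq ι]
    {Q : QuadraticForm F (ι → F)} (hQ : PND Q) (hn2 : 2 ≤ finrank F (ι → F)) (hn : 5 ≤ finrank F (ι → F))
    (L : (ι → F) →ₗ[F] (II l → F)) (hL : Function.Injective L)
    (hLv : ∀ x, QP F (l + 2) (L x) = Q x) :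
    ∃ (A : Type u) (_ : Group A) (_ : Finite A) (C : Central A ↥(Gr Q)) (c : A),
      commutator A = ⊤ ∧ c ≠ 1 ∧ c * c = 1 ∧ C.π c = 1 ∧ (∀ k, C.π k = 1 → k = 1 ∨ k = c) ∧
        Anti h2 hQ hn2 C c := by
  have hexc : l = 2 → Fintype.card F ≠ 2 := fun _ h => h2 (by
    have := FiniteField.cast_card_eq_zero F
    rw [h] at this
    exact_mod_cast this)
  have hQP : PND (QP F (l + 2)) := formOf_pnd pnd_empty
  obtain ⟨z, hzz, hz, -, hz1, hker⟩ := spin_ker (F := F) hl hexc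
  let e : ↥(Gr (QP F (l + 2))) ≃* ↥(OM F l) :=
    (omegaEquiv (QP F (l + 2)) (coe_plus (l + 2))).trans (omEquiv F l hl).symm
  have e_val : ∀ g, (e g).1 = (toMat _ g.1).1 := fun g => by
    show ((omEquiv F l hl).symm (omegaEquiv _ (coe_plus (l + 2)) g)).1 = _
    rw [← omegaEquiv_val (QP F (l + 2)) (coe_plus (l + 2)) g]
    rfl
  let π0 : ↥(Spin F l) →* ↥(Gr (QP F (l + 2))) := e.symm.toMonoidHom.comp (CS F l).π
  let J := isoEmb hQP hQ L hL hLv
  let P : Subgroup ↥(Spin F l) := J.range.comap π0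
  let f := MonoidHom.ofInjective (isoEmb_injective hQP hQ L hL hLv)
  let σ : ↥P →* ↥(Gr Q) :=
    f.symm.toMonoidHom.comp ((π0.comp P.subtype).codRestrict J.range fun x => x.2)
  have σ_spec : ∀ x : ↥P, J (σ x) = π0 x.1 := fun x =>
    congrArg Subtype.val (f.apply_symm_apply ((π0.comp P.subtype).codRestrict _ (fun x => x.2) x))
  have hsurj : Function.Surjective σ := fun y => by
    obtain ⟨p, hp⟩ := (CS F l).surj (e (J y))
    have hp0 : π0 p = J y := by
      show e.symm ((CS F l).π p) = _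
      rw [hp, e.symm_apply_apply]
    exact ⟨⟨p, ⟨y, hp0.symm⟩⟩, isoEmb_injective hQP hQ L hL hLv ((σ_spec _).trans hp0)⟩
  have hproj : ∀ x : ↥P, σ x = 1 → proj F l x.1 = 1 := fun x hx => by
    have h0 : π0 x.1 = 1 := by rw [← σ_spec, hx, map_one]
    exact congrArg Subtype.val (e.symm.injective (h0.trans (map_one e.symm).symm))
  have hmat : ∀ (x : ↥P) v, (proj F l x.1).1 *ᵥ v = (J (σ x)).1.1 v := fun x v => by
    rw [σ_spec, ← toMat_apply (π0 x.1).1, ← e_val]
    show _ = ((e (e.symm ((CS F l).π x.1))).1 : Matrix (II l) (II l) F) *ᵥ v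
    rw [e.apply_symm_apply]
    rfl
  let C0 : Central ↥P ↥(Gr Q) := ⟨σ, hsurj, fun x hx => by
    rw [Subgroup.mem_center_iff]
    exact fun y => Subtype.ext (Subgroup.mem_center_iff.1 (ker_central (hproj x hx)) y.1)⟩
  have hperf : (⊤ : Subgroup ↥(Gr Q)) ≤ ⁅(⊤ : Subgroup ↥(Gr Q)), (⊤ : Subgroup ↥(Gr Q))⁆ := fun g _ => by
    refine (Subgroup.mem_map_iff_mem (Gr Q).subtype_injective).mp ?_
    rw [Subgroup.map_commutator, ← MonoidHom.range_eq_map, Subgroup.range_subtype]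
    exact omega_perfect h2 hQ hn g.2
  let D := ⁅(⊤ : Subgroup ↥(Gr Q)).comap C0.π, (⊤ : Subgroup ↥(Gr Q)).comap C0.π⁆
  have hDs : ∀ q, ∃ x ∈ D, C0.π x = q := fun q => by
    have h := hperf (Subgroup.mem_top q)
    rw [← Subgroup.map_comap_eq_self_of_surjective C0.surj (⊤ : Subgroup ↥(Gr Q)), ← Subgroup.map_commutator] at h
    obtain ⟨x, hx, ex⟩ := h
    exact ⟨x, hx, ex⟩
  let C : Central ↥D ↥(Gr Q) := ⟨σ.comp D.subtype, fun q => by
    obtain ⟨x, hx, ex⟩ := hDs q
    exact ⟨⟨x, hx⟩, ex⟩, fun x hx => by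
    rw [Subgroup.mem_center_iff]
    exact fun y => Subtype.ext (Subgroup.mem_center_iff.1 (C0.central (show σ x.1 = 1 from hx)) y.1)⟩
  have hval : ∀ u : Vec Q, QP F (l + 2) (L u.1) = 1 := fun u => (hLv u.1).trans u.2
  have hpol : ∀ u v : ι → F, polar (QP F (l + 2)) (L u) (L v) = polar Q u v := fun u v => by
    simp only [polar, ← map_add, hLv]
  have hkerD : ∀ x : ↥D, C.π x = 1 → x.1.1 = 1 ∨ x.1.1 = z := fun x hx => hker _ (hproj _ hx)
  have hanti : ∀ (a b d : Vec Q) (p p' : ↥D), polar Q a.1 b.1 = 0 → polar Q a.1 d.1 = 0 → polar Q b.1 d.1 = 0 →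
      C.π p = pairEl h2 hQ hn2 a b → C.π p' = pairEl h2 hQ hn2 b d → (⁅p, p'⁆ : ↥D).1.1 = z := by
    intro a b d p p' hab had hbd hp hp'
    have hne : (⁅p, p'⁆ : ↥D).1.1 ≠ 1 := fun he => by
      refine lifts_not_commute h2 (hval a) (hval b) (hval d) ((hpol _ _).trans hab) ((hpol _ _).trans hbd)
        ((hpol _ _).trans had) p.1.1 p'.1.1 (fun x => ?_) (fun x => ?_) ?_
      · rw [hmat, show σ p.1 = _ from hp, isoEmb_rf hQP hQ L hL hLv (a := a.1) (b := b.1) rfl]; rfl
      · rw [hmat, show σ p'.1 = _ from hp', isoEmb_rf hQP hQ L hL hLv (a := b.1) (b := d.1) rfl]; rfl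
      · rw [← he]
        exact ((map_commutatorElement (P.subtype.comp D.subtype) p p')).symm
    refine (hkerD _ ?_).resolve_left hne
    rw [map_commutatorElement, hp, hp', commutatorElement_eq_one_iff_mul_comm]
    exact (pair_comm h2 hQ hn2 hab had hbd).eq
  have h5 := hn
  obtain ⟨a, ha⟩ := exists_value h2 hQ hn2 1
  let a' : Vec Q := ⟨a, ha⟩
  obtain ⟨b, hb⟩ := exists_vec h2 hQ (S := Submodule.span F {a'.1}) (by
    rw [span_nondeg h2 (a'.2.symm ▸ one_ne_zero), finrank_bot, finrank_span_singleton (ne_zero a')]; omega)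
  have hab : polar Q a'.1 b.1 = 0 := hb _ (Submodule.mem_span_singleton_self _)
  obtain ⟨d, hd⟩ := exists_vec h2 hQ (S := Submodule.span F {a'.1, b.1}) (by
    have := pair_dim h2 hQ a' b
    rw [pair_nondeg h2 hQ hab, finrank_bot]; omega)
  obtain ⟨p, hp⟩ := C.surj (pairEl h2 hQ hn2 a' b)
  obtain ⟨p', hp'⟩ := C.surj (pairEl h2 hQ hn2 b d)
  have hcz : (⁅p, p'⁆ : ↥D).1.1 = z :=
    hanti a' b d p p' hab (hd _ (Submodule.subset_span (by simp))) (hd _ (Submodule.subset_span (by simp))) hp hp'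
  have hcπ : C.π ⁅p, p'⁆ = 1 := by
    rw [map_commutatorElement, hp, hp', commutatorElement_eq_one_iff_mul_comm]
    exact (pair_comm h2 hQ hn2 hab (hd _ (Submodule.subset_span (by simp)))
      (hd _ (Submodule.subset_span (by simp)))).eq
  haveI : Finite ↥(Spin F l) := inferInstance
  refine ⟨↥D, inferInstance, inferInstance, C, ⁅p, p'⁆, derived_preimage_perfect C0 hperf, fun h => ?_,
    Subtype.ext (Subtype.ext ?_), hcπ, fun k hk => (hkerD k hk).imp (fun h => Subtype.ext (Subtype.ext h))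
      (fun h => Subtype.ext (Subtype.ext (h.trans hcz.symm))), fun u v w q q' h1 h3 h4 hq hq' =>
      Subtype.ext (Subtype.ext ((hanti u v w q q' h1 h3 h4 hq hq').trans hcz.symm))⟩
  · exact hz1 h2 (by rw [← hcz, h]; rfl)
  · rw [Subgroup.coe_mul, Subgroup.coe_mul, hcz, hzz]; rfl

end Cfsg.Agent.Small.OrthCover
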