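import Cfsg.Agent.Lib.Small.OrthCover.Fix
import Cfsg.Agent.Lib.Small.OrthCover.Amalgam

/-!
The vectors of value one of an orthogonal space, joined when perpendicular.
-/

set_option autoImplicit false
set_option linter.unusedSectionVars false

namespace Cfsg.Agent.Small.OrthCover

open Module QuadraticMap MulAction Cfsg.Agent.Classical.OCount Cfsg.Agent.Classical.ORefl Cfsg.Agent.Classical.OOmega
open scoped commutatorElement

variable {F : Type*} [Field F] {V : Type*} [AddCommGroup V] [Module F V] [FiniteDimensional F V]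
  {Q : QuadraticForm F V}

variable (Q) in
/-- The vectors of value one. -/
def Vec : Type _ := {x : V // Q x = 1}

instance vecAction : MulAction ↥(Iso Q) (Vec Q) where
  smul g x := ⟨g.1 x.1, (g.2 x.1).trans x.2⟩
  one_smul x := Subtype.ext rfl
  mul_smul g h x := Subtype.ext rfl

variable (Q) in
/-- The derived group. -/
abbrev Gr : Subgroup ↥(Iso Q) := commutator ↥(Iso Q)

theorem smul_val (g : ↥(Gr Q)) (x : Vec Q) : (g • x).1 = g.1.1 x.1 := rfl

theorem fix_iff (g : ↥(Gr Q)) (a : Vec Q) : g ∈ stabilizer ↥(Gr Q) a ↔ g.1.1 a.1 = a.1 :=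
  ⟨fun h => congrArg Subtype.val h, fun h => Subtype.ext h⟩

theorem ne_zero (a : Vec Q) : a.1 ≠ 0 := fun e => by
  have := a.2
  rw [e, QuadraticMap.map_zero] at this
  exact zero_ne_one this

variable [Finite F] (h2 : (2 : F) ≠ 0) (hQ : PND Q)
include h2 hQ

/-- An element fixing a nonsingular span is in the derived group of the stabiliser of that span. -/
theorem mem_derived {U : Submodule F V} (hU : U ⊓ perp Q U = ⊥) (hn : 5 + finrank F U ≤ finrank F V)
    (S : Subgroup ↥(Gr Q))
    (hS : ∀ g : ↥(Gr Q), (∀ u ∈ U, g.1.1 u = u) → g ∈ S) (g : ↥(Gr Q)) (hg : ∀ u ∈ U, g.1.1 u = u) :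
    g ∈ ⁅S, S⁆ := by
  have hW : perp Q U ⊓ perp Q (perp Q U) = ⊥ := by rw [perp_perp hQ, inf_comm]; exact hU
  have hd := finrank_perp hQ U
  obtain ⟨k, hk, he⟩ := exists_res h2 hQ hW (by omega) g.2 fun u hu => hg u (by rwa [perp_perp hQ] at hu)
  rw [show g = emb hQ hW ⟨k, hk⟩ from Subtype.ext he.symm]
  exact emb_mem_derived h2 hQ hW (by omega) S
    (fun k' => hS _ fun u hu => ext_perp hQ hW _ (by rwa [perp_perp hQ])) _

theorem fix_span {s : Set V} {g : ↥(Gr Q)} (h : ∀ v ∈ s, g.1.1 v = v) : ∀ u ∈ Submodule.span F s, g.1.1 u = u := by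
  intro u hu
  induction hu using Submodule.span_induction with
  | mem v hv => exact h v hv
  | zero => exact map_zero _
  | add u v _ _ hu hv => rw [map_add, hu, hv]
  | smul c v _ hv => rw [map_smul, hv]

theorem pair_nondeg {a w : Vec Q} (h : polar Q a.1 w.1 = 0) :
    Submodule.span F {a.1, w.1} ⊓ perp Q (Submodule.span F {a.1, w.1}) = ⊥ := by
  rw [eq_bot_iff]
  rintro x ⟨hx, hp⟩
  obtain ⟨s, t, rfl⟩ := Submodule.mem_span_pair.mp hx
  have e1 : polar Q a.1 (s • a.1 + t • w.1) = 0 := hp a.1 (Submodule.subset_span (by simp))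
  have e2 : polar Q w.1 (s • a.1 + t • w.1) = 0 := hp w.1 (Submodule.subset_span (by simp))
  rw [polar_add_right, polar_smul_right, polar_smul_right, h, polar_self_two, a.2] at e1
  rw [polar_add_right, polar_smul_right, polar_smul_right, polar_comm Q w.1 a.1, h, polar_self_two, w.2] at e2
  simp only [smul_eq_mul, mul_zero, mul_one, add_zero, zero_add] at e1 e2
  rw [Submodule.mem_bot, (mul_eq_zero.mp e1).resolve_right h2, (mul_eq_zero.mp e2).resolve_right h2]
  simp

theorem pair_dim (a w : Vec Q) : finrank F (Submodule.span F {a.1, w.1}) ≤ 2 := by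
  classical
  refine le_trans (finrank_span_le_card ({a.1, w.1} : Set V)) ?_
  rw [Set.toFinset_insert, Set.toFinset_singleton]
  exact Finset.card_le_two

theorem pair_dim_eq {a w : Vec Q} (h : polar Q a.1 w.1 = 0) :
    finrank F (Submodule.span F {a.1, w.1}) = 2 := by
  refine le_antisymm (pair_dim h2 hQ a w) ?_
  have hlt : Submodule.span F {a.1} < Submodule.span F {a.1, w.1} := by
    refine lt_of_le_of_ne (Submodule.span_mono (by simp)) fun e => ?_
    have hw : w.1 ∈ Submodule.span F {a.1} := e ▸ Submodule.subset_span (by simp)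
    obtain ⟨t, ht⟩ := Submodule.mem_span_singleton.mp hw
    rw [← ht, polar_smul_right, polar_self_two, a.2, smul_eq_mul, mul_one] at h
    have := w.2
    rw [← ht, (mul_eq_zero.mp h).resolve_right h2, zero_smul, QuadraticMap.map_zero] at this
    exact zero_ne_one this
  have := Submodule.finrank_lt_finrank_of_lt hlt
  rw [finrank_span_singleton (ne_zero a)] at this
  omega

/-- The derived group moves one perpendicular vector of value one to another fixing the base. -/
theorem exists_move {U : Submodule F V} (hU : U ⊓ perp Q U = ⊥) (hn : 3 + finrank F U ≤ finrank F V)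
    {a b : Vec Q} (ha : a.1 ∈ perp Q U) (hb : b.1 ∈ perp Q U) :
    ∃ g : ↥(Gr Q), (∀ u ∈ U, g.1.1 u = u) ∧ g • a = b := by
  have hW : perp Q U ⊓ perp Q (perp Q U) = ⊥ := by rw [perp_perp hQ, inf_comm]; exact hU
  have hd := finrank_perp hQ U
  obtain ⟨g, hg, hga⟩ := omega_trans h2 (sub_pnd hW) (by omega) (a := ⟨a.1, ha⟩) (b := ⟨b.1, hb⟩) a.2 b.2
  refine ⟨emb hQ hW ⟨g, hg⟩, fun u hu => ext_perp hQ hW _ (by rwa [perp_perp hQ]), Subtype.ext ?_⟩
  show (ext hQ hW g).1 a.1 = b.1
  have := ext_mem hQ hW g ⟨a.1, ha⟩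
  rw [hga] at this
  exact this

/-- Perpendicular common neighbours are linked. -/
theorem step_of_perp (hn : 7 ≤ finrank F V) (hq : 5 ≤ Nat.card F ∨ 8 ≤ finrank F V) {a b w w' : Vec Q}
    (h : polar Q w.1 w'.1 = 0) (h1 : polar Q w.1 a.1 = 0) (h3 : polar Q w.1 b.1 = 0) (h4 : polar Q w'.1 a.1 = 0)
    (h5 : polar Q w'.1 b.1 = 0) :
    Step (G := ↥(Gr Q)) (fun x y : Vec Q => polar Q x.1 y.1 = 0) a b w w' := by
  have hU := pair_nondeg h2 hQ h
  have hd := pair_dim h2 hQ w w'
  have hm : ∀ c : Vec Q, polar Q w.1 c.1 = 0 → polar Q w'.1 c.1 = 0 → c.1 ∈ perp Q (Submodule.span F {w.1, w'.1}) :=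
    fun c e1 e2 => mem_perp_span.mpr fun v hv => by
      rcases Set.mem_insert_iff.mp hv with rfl | hv
      · exact e1
      · rw [Set.mem_singleton_iff.mp hv]; exact e2
  obtain ⟨g, hg, hga⟩ := exists_move h2 hQ hU (by omega) (hm a h1 h4) (hm b h3 h5)
  refine ⟨h1, h3, h4, h5, g, mem_derived h2 hQ hU (by omega) _ ?_ g hg, hga⟩
  exact fun k hk => ⟨Subtype.ext (hk _ (Submodule.subset_span (by simp))),
    Subtype.ext (hk _ (Submodule.subset_span (by simp)))⟩

omit h2 in
theorem span_dim (l : List V) : finrank F (Submodule.span F {x | x ∈ l}) ≤ l.length := by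
  classical
  rw [show {x | x ∈ l} = (l.toFinset : Set V) from Set.ext fun x => by simp]
  exact (finrank_span_finset_le_card _).trans (List.toFinset_card_le l)

theorem exists_vec {S : Submodule F V} (hS : finrank F S + finrank F ↥(S ⊓ perp Q S) + 2 ≤ finrank F V) :
    ∃ t : Vec Q, ∀ s ∈ S, polar Q s t.1 = 0 := by
  obtain ⟨t, ht, h1⟩ := exists_one_perp h2 hQ S hS
  exact ⟨⟨t, h1⟩, ht⟩

/-- Common neighbours with a small joint span are linked. -/
theorem link_of_small (hn : 7 ≤ finrank F V) (hq : 5 ≤ Nat.card F ∨ 8 ≤ finrank F V) {a b w w' : Vec Q}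
    (h1 : polar Q w.1 a.1 = 0) (h3 : polar Q w.1 b.1 = 0) (h4 : polar Q w'.1 a.1 = 0) (h5 : polar Q w'.1 b.1 = 0)
    (hS : finrank F (Submodule.span F {x | x ∈ [a.1, b.1, w.1, w'.1]}) +
      finrank F ↥(Submodule.span F {x | x ∈ [a.1, b.1, w.1, w'.1]} ⊓
        perp Q (Submodule.span F {x | x ∈ [a.1, b.1, w.1, w'.1]})) + 2 ≤ finrank F V) :
    Relation.ReflTransGen (Step (G := ↥(Gr Q)) (fun x y : Vec Q => polar Q x.1 y.1 = 0) a b) w w' := by
  obtain ⟨t, ht⟩ := exists_vec h2 hQ hS
  have hp : ∀ x ∈ [a.1, b.1, w.1, w'.1], polar Q x t.1 = 0 := fun x hx => ht x (Submodule.subset_span hx)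
  have hta : polar Q t.1 a.1 = 0 := by rw [polar_comm]; exact hp _ (by simp)
  have htb : polar Q t.1 b.1 = 0 := by rw [polar_comm]; exact hp _ (by simp)
  exact (Relation.ReflTransGen.single (step_of_perp h2 hQ hn hq (hp _ (by simp)) h1 h3 hta htb)).tail
    (step_of_perp h2 hQ hn hq (by rw [polar_comm]; exact hp _ (by simp)) hta htb h4 h5)

/-- Common neighbours spanning a nondegenerate space with the base are linked. -/
theorem link_of_angle (hn : 7 ≤ finrank F V) (hq : 5 ≤ Nat.card F ∨ 8 ≤ finrank F V) {a b w w' : Vec Q}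
    (h1 : polar Q w.1 a.1 = 0) (h3 : polar Q w.1 b.1 = 0) (h4 : polar Q w'.1 a.1 = 0) (h5 : polar Q w'.1 b.1 = 0)
    (hp : polar Q w.1 w'.1 * polar Q w.1 w'.1 ≠ 4) :
    Relation.ReflTransGen (Step (G := ↥(Gr Q)) (fun x y : Vec Q => polar Q x.1 y.1 = 0) a b) w w' := by
  refine link_of_small h2 hQ hn hq h1 h3 h4 h5 ?_
  set S := Submodule.span F {x | x ∈ [a.1, b.1, w.1, w'.1]}
  have hd : finrank F S ≤ 4 := span_dim hQ [a.1, b.1, w.1, w'.1]
  set M : Fin 3 → V := ![a.1, w.1, w'.1]
  have key : ∀ c : Fin 3 → F, (∀ i, polar Q (M i) (∑ j, c j • M j) = 0) → c = 0 := by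
    intro c hc
    have e : ∀ i, polar Q (M i) (∑ j, c j • M j) =
        c 0 * polar Q (M i) a.1 + c 1 * polar Q (M i) w.1 + c 2 * polar Q (M i) w'.1 := fun i => by
      simp [M, Fin.sum_univ_three, polar_add_right, polar_smul_right]
    have e0 := hc 0; have e1 := hc 1; have e2 := hc 2
    rw [e] at e0 e1 e2
    simp [M, polar_self_two, a.2, w.2, w'.2, polar_comm Q a.1 w.1, polar_comm Q a.1 w'.1,
      polar_comm Q w'.1 w.1, h1, h4, h2] at e0 e1 e2
    have hz : c 2 = 0 := (mul_eq_zero.mp (show c 2 * (polar Q w.1 w'.1 * polar Q w.1 w'.1 - 4) = 0 by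
      linear_combination polar Q w.1 w'.1 * e1 - 2 * e2)).resolve_right (sub_ne_zero.mpr hp)
    have hy : c 1 = 0 := by
      rw [hz, zero_mul, add_zero] at e1
      exact (mul_eq_zero.mp e1).resolve_right h2
    funext i; fin_cases i <;> simp [e0, hy, hz]
  have hU : Submodule.span F (Set.range M) ⊓ perp Q (Submodule.span F (Set.range M)) = ⊥ := by
    rw [eq_bot_iff]
    rintro x ⟨hx, hpx⟩
    obtain ⟨c, rfl⟩ := (Submodule.mem_span_range_iff_exists_fun F).mp hx
    rw [key c fun i => hpx _ (Submodule.subset_span ⟨i, rfl⟩)]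
    simp
  have h3d : finrank F (Submodule.span F (Set.range M)) = 3 := by
    rw [finrank_span_eq_card, Fintype.card_fin]
    rw [Fintype.linearIndependent_iff]
    exact fun c hc => congrFun (key c fun i => by rw [hc, polar_zero_right])
  have hle : Submodule.span F (Set.range M) ≤ S :=
    Submodule.span_mono (by rintro _ ⟨i, rfl⟩; fin_cases i <;> simp [M])
  have := rad_add_le hle hU
  omega

/-- All common neighbours are linked. -/
theorem link_all (hn : 7 ≤ finrank F V) (hq : 5 ≤ Nat.card F ∨ 8 ≤ finrank F V) {a b w w' : Vec Q}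
    (h1 : polar Q w.1 a.1 = 0) (h3 : polar Q w.1 b.1 = 0) (h4 : polar Q w'.1 a.1 = 0) (h5 : polar Q w'.1 b.1 = 0) :
    Relation.ReflTransGen (Step (G := ↥(Gr Q)) (fun x y : Vec Q => polar Q x.1 y.1 = 0) a b) w w' := by
  classical
  by_cases hp : polar Q w.1 w'.1 * polar Q w.1 w'.1 ≠ 4
  · exact link_of_angle h2 hQ hn hq h1 h3 h4 h5 hp
  push Not at hp
  set S := Submodule.span F {x | x ∈ [a.1, b.1, w.1, w'.1]} with hSdef
  have hd : finrank F S ≤ 4 := span_dim hQ [a.1, b.1, w.1, w'.1]
  have hrad : finrank F ↥(S ⊓ perp Q S) + 1 ≤ finrank F S := by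
    have := rad_add_le (S := S) (U := Submodule.span F {a.1})
      (Submodule.span_mono (by simp)) (span_nondeg h2 (a.2.symm ▸ one_ne_zero))
    rwa [finrank_span_singleton (ne_zero a)] at this
  by_cases h9 : 8 ≤ finrank F V
  · refine link_of_small h2 hQ hn hq h1 h3 h4 h5 ?_
    have := rad_add_le (S := S) (U := Submodule.span F {a.1, w.1})
      (Submodule.span_le.mpr fun x hx => Submodule.subset_span (by
        rcases Set.mem_insert_iff.mp hx with rfl | hx
        · simp
        · rw [Set.mem_singleton_iff.mp hx]; simp)) (pair_nondeg h2 hQ (by rw [polar_comm]; exact h1))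
    have h2d : finrank F (Submodule.span F {a.1, w.1}) = 2 := pair_dim_eq h2 hQ (by rw [polar_comm]; exact h1)
    rw [← hSdef]; omega
  by_cases hdep : w'.1 ∈ Submodule.span F {x | x ∈ [a.1, b.1, w.1]}
  · refine link_of_small h2 hQ hn hq h1 h3 h4 h5 ?_
    have he : S ≤ Submodule.span F {x | x ∈ [a.1, b.1, w.1]} := by
      refine Submodule.span_le.mpr fun x hx => ?_
      simp only [Set.mem_setOf_eq, List.mem_cons, List.not_mem_nil, or_false] at hx
      rcases hx with rfl | rfl | rfl | rfl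
      · exact Submodule.subset_span (by simp)
      · exact Submodule.subset_span (by simp)
      · exact Submodule.subset_span (by simp)
      · exact hdep
    have := (Submodule.finrank_mono he).trans (span_dim hQ [a.1, b.1, w.1])
    simp only [List.length_cons, List.length_nil] at this
    rw [← hSdef]
    omega
  haveI := Fintype.ofFinite F
  obtain ⟨v, hvH, hv⟩ := exists_polar_sep hQ hdep 1
  have hva : polar Q v a.1 = 0 := hvH _ (Submodule.subset_span (by simp))
  have hvb : polar Q v b.1 = 0 := hvH _ (Submodule.subset_span (by simp))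
  have hvw : polar Q v w.1 = 0 := hvH _ (Submodule.subset_span (by simp))
  obtain ⟨p, hpd⟩ : ∃ p, p = polar Q w.1 w'.1 := ⟨_, rfl⟩
  rw [← hpd] at hp
  obtain ⟨α, hα⟩ : ∃ α, α = p / 2 := ⟨_, rfl⟩
  have hα2 : p = 2 * α := by rw [hα, mul_div_cancel₀ _ h2]
  obtain ⟨u, hu⟩ : ∃ u, u = w'.1 - α • w.1 := ⟨_, rfl⟩
  have hua : polar Q u a.1 = 0 := by rw [hu, polar_sub_left, polar_smul_left, h4, h1]; simp
  have hub : polar Q u b.1 = 0 := by rw [hu, polar_sub_left, polar_smul_left, h5, h3]; simp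
  have huw : polar Q u w.1 = 0 := by
    rw [hu, polar_sub_left, polar_smul_left, polar_comm Q w'.1 w.1, ← hpd, polar_self_two, w.2, hα2, smul_eq_mul]
    ring
  have h22 : (2 : F) * 2 ≠ 0 := mul_ne_zero h2 h2
  have hαα : α * α = 1 := mul_left_cancel₀ h22 (by rw [hα2] at hp; linear_combination hp)
  have hQu : Q u = 0 := by
    rw [hu, map_sub_two, QuadraticMap.map_smul, w.2, w'.2, polar_smul_right, polar_comm Q w'.1 w.1, ← hpd, hα2]
    simp only [smul_eq_mul]
    linear_combination -hαα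
  have huw' : polar Q u w'.1 = 0 := by
    rw [hu, polar_sub_left, polar_smul_left, polar_self_two, w'.2, ← hpd, hα2, smul_eq_mul]
    linear_combination -2 * hαα
  have hvu : polar Q v u = 1 := by rw [hu, polar_sub_right, polar_smul_right, hv, hvw]; simp
  obtain ⟨v2, hv2⟩ : ∃ v2, v2 = v - Q v • u := ⟨_, rfl⟩
  have hQv : Q v2 = 0 := by
    rw [hv2, map_sub_two, QuadraticMap.map_smul, hQu, polar_smul_right, hvu]
    simp
  have hv2u : polar Q u v2 = 1 := by
    rw [hv2, polar_sub_right, polar_smul_right, polar_comm Q u v, hvu, polar_self_zero hQu]; simp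
  obtain ⟨c, hc, hc4⟩ : ∃ c : F, c ≠ 0 ∧ c * c ≠ 4 := by
    have hq5 : 5 ≤ Fintype.card F := by rw [← Nat.card_eq_fintype_card]; exact hq.resolve_right h9
    obtain ⟨r, -, hr⟩ := Finset.exists_mem_notMem_of_card_lt_card (s := ({0, 2, -2} : Finset F)) (t := Finset.univ)
      (lt_of_le_of_lt Finset.card_le_three (by rw [Finset.card_univ]; omega))
    simp only [Finset.mem_insert, Finset.mem_singleton, not_or] at hr
    exact ⟨r, hr.1, fun h => (mul_self_eq_mul_self_iff.mp (h.trans (by norm_num : (4 : F) = 2 * 2))).elim hr.2.1 hr.2.2⟩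
  let w1 : Vec Q := ⟨c⁻¹ • u + c • v2, by
    rw [map_two, QuadraticMap.map_smul, QuadraticMap.map_smul, hQu, hQv, polar_smul_left, polar_smul_right, hv2u]
    simp [hc]⟩
  have e1 : ∀ x, polar Q u x = 0 → polar Q v x = 0 → polar Q w1.1 x = 0 := fun x hx hvx => by
    show polar Q (c⁻¹ • u + c • v2) x = 0
    rw [polar_add_left, polar_smul_left, polar_smul_left, hx, hv2, polar_sub_left, polar_smul_left, hvx, hx]
    simp
  have g1 := e1 _ hua hva
  have g3 := e1 _ hub hvb
  have gw : polar Q w.1 w1.1 = 0 := by rw [polar_comm]; exact e1 _ huw hvw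
  have gw' : polar Q w1.1 w'.1 = c := by
    show polar Q (c⁻¹ • u + c • v2) w'.1 = c
    rw [polar_add_left, polar_smul_left, polar_smul_left, huw', hv2, polar_sub_left, polar_smul_left, hv, huw']
    simp
  refine (link_of_angle h2 hQ hn hq h1 h3 g1 g3 ?_).trans (link_of_angle h2 hQ hn hq g1 g3 h4 h5 (by rwa [gw']))
  rw [gw, mul_zero]
  exact fun h => h22 (h.trans (by norm_num) : (0 : F) = 2 * 2).symm

/-- The frame. -/
noncomputable def frame (hn : 7 ≤ finrank F V) (hq : 5 ≤ Nat.card F ∨ 8 ≤ finrank F V) :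
    Frame ↥(Gr Q) (Vec Q) where
  adj x y := polar Q x.1 y.1 = 0
  symm a b h := by rw [polar_comm]; exact h
  inv g a b h := by rw [smul_val, smul_val, polar_iso g.1.2]; exact h
  tr a b := by
    obtain ⟨g, hg, e⟩ := omega_trans h2 hQ (by omega) a.2 b.2
    exact ⟨⟨g, hg⟩, Subtype.ext e⟩
  perfect1 a g hg := by
    have h1 := finrank_span_singleton (K := F) (ne_zero a)
    exact mem_derived h2 hQ (span_nondeg h2 (a.2.symm ▸ one_ne_zero)) (by omega) _
      (fun k hk => (fix_iff k a).mpr (hk _ (Submodule.mem_span_singleton_self _))) g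
      (fix_span h2 hQ fun v hv => by rw [Set.mem_singleton_iff.mp hv]; exact (fix_iff g a).mp hg)
  perfect2 a w h g hg := by
    have := pair_dim h2 hQ a w
    refine mem_derived h2 hQ (pair_nondeg h2 hQ h) (by omega) (stab₂ ↥(Gr Q) a w)
      (fun k hk => ⟨(fix_iff k a).mpr (hk _ (Submodule.subset_span (by simp))),
        (fix_iff k w).mpr (hk _ (Submodule.subset_span (by simp)))⟩) g (fix_span h2 hQ fun v hv => ?_)
    rcases Set.mem_insert_iff.mp hv with rfl | hv
    · exact (fix_iff g a).mp hg.1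
    · rw [Set.mem_singleton_iff.mp hv]; exact (fix_iff g w).mp hg.2
  trans w a b ha hb := by
    have h1 := finrank_span_singleton (K := F) (ne_zero w)
    have hm : ∀ c : Vec Q, polar Q w.1 c.1 = 0 → c.1 ∈ perp Q (Submodule.span F {w.1}) :=
      fun c e => mem_perp_span.mpr fun v hv => by rw [Set.mem_singleton_iff.mp hv]; exact e
    obtain ⟨g, hg, e⟩ := exists_move h2 hQ (span_nondeg h2 (w.2.symm ▸ one_ne_zero)) (by omega) (hm a ha) (hm b hb)
    exact ⟨g, Subtype.ext (hg _ (Submodule.mem_span_singleton_self _)), e⟩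
  common a b c := by
    set S := Submodule.span F {x | x ∈ [a.1, b.1, c.1]}
    have hd : finrank F S ≤ 3 := span_dim hQ [a.1, b.1, c.1]
    have hrad : finrank F ↥(S ⊓ perp Q S) + 1 ≤ finrank F S := by
      have := rad_add_le (S := S) (U := Submodule.span F {a.1})
        (Submodule.span_mono (by simp)) (span_nondeg h2 (a.2.symm ▸ one_ne_zero))
      rwa [finrank_span_singleton (ne_zero a)] at this
    obtain ⟨t, ht⟩ := exists_vec h2 hQ (S := S) (by omega)
    have hp : ∀ x ∈ [a.1, b.1, c.1], polar Q t.1 x = 0 := fun x hx => by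
      rw [polar_comm]; exact ht x (Submodule.subset_span hx)
    exact ⟨t, hp _ (by simp), hp _ (by simp), hp _ (by simp)⟩

/-- The frame is linked. -/
theorem frame_linked (hn : 7 ≤ finrank F V) (hq : 5 ≤ Nat.card F ∨ 8 ≤ finrank F V) {Γ : Type*} [Group Γ]
    (C : Cfsg.Agent.Small.SchurLifts.Central Γ ↥(Gr Q)) : (frame h2 hQ hn hq).Linked C :=
  Frame.linked_of_link _ C fun _ _ _ _ => link_all h2 hQ hn hq

end Cfsg.Agent.Small.OrthCover
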