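import Cfsg.Agent.Lib.Small.OrthCover.Relay
import Cfsg.Agent.Lib.Small.OrthCover.Vectors
import Cfsg.Agent.Lib.Classical.OrthOmegaTwo

/-!
The vectors of value one in characteristic two, joined when their polar value is a fixed nonzero
scalar whose planes have perpendicular spaces of plus type.
-/

set_option autoImplicit false
set_option linter.unusedSectionVars false

namespace Cfsg.Agent.Small.OrthCover

open Module QuadraticMap MulAction Cfsg.Agent.Classical.OCount Cfsg.Agent.Classical.ORefl Cfsg.Agent.Classical.OOmega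
open scoped commutatorElement

variable {F : Type*} [Field F] [CharP F 2] [Finite F] {V : Type*} [AddCommGroup V] [Module F V]
  [FiniteDimensional F V] {Q : QuadraticForm F V}

theorem polar_self_char_two (x : V) : polar Q x x = 0 := by
  rw [polar_self_two, CharTwo.two_eq_zero, zero_mul]

theorem exists_scale {x : V} (hx : Q x ≠ 0) (r : F) : ∃ t : F, Q (t • x) = r := by
  obtain ⟨t, ht⟩ := FiniteField.isSquare_of_char_two (ringChar.eq F 2) (r / Q x)
  exact ⟨t, by rw [QuadraticMap.map_smul, ← ht, smul_eq_mul, div_mul_cancel₀ _ hx]⟩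

theorem vec_eq_of_mem {a b : Vec Q} (h : b.1 ∈ Submodule.span F {a.1}) : b = a := by
  obtain ⟨t, ht⟩ := Submodule.mem_span_singleton.mp h
  have h1 := b.2
  rw [← ht, QuadraticMap.map_smul, a.2, smul_eq_mul, mul_one, ← pow_two] at h1
  have ht1 : t = 1 := CharTwo.sq_inj.mp (h1.trans (one_pow 2).symm)
  exact Subtype.ext (by rw [← ht, ht1, one_smul])

/-- Witt's theorem for families. -/
theorem witt_fin (hQ : PND Q) {k : ℕ} {v v' : Fin k → V} (hv : LinearIndependent F v) (hv' : LinearIndependent F v')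
    (hd : ∀ i, Q (v' i) = Q (v i)) (hp : ∀ i j, polar Q (v' i) (v' j) = polar Q (v i) (v j)) :
    ∃ g : ↥(Iso Q), ∀ i, g.1 (v i) = v' i := by
  classical
  let L := Fintype.linearCombination F v
  let L' := Fintype.linearCombination F v'
  have hL : Function.Injective L := by
    rw [← LinearMap.ker_eq_bot, LinearMap.ker_eq_bot']
    intro x hx
    exact funext (Fintype.linearIndependent_iff.mp hv x hx)
  have hL' : Function.Injective L' := by
    rw [← LinearMap.ker_eq_bot, LinearMap.ker_eq_bot']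
    intro x hx
    exact funext (Fintype.linearIndependent_iff.mp hv' x hx)
  have hs : ∀ i, L (Pi.single i 1) = v i := fun i => by simp [L, Fintype.linearCombination_apply_single]
  have hs' : ∀ i, L' (Pi.single i 1) = v' i := fun i => by simp [L', Fintype.linearCombination_apply_single]
  have hQQ : Q.comp L' = Q.comp L := by
    refine quad_ext (fun i => ?_) fun i j => ?_
    · simp [QuadraticMap.comp_apply, hs, hs', hd]
    · simp only [polar, QuadraticMap.comp_apply, map_add, hs, hs']
      exact hp i j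
  let f : LinearMap.range L →ₗ[F] V := L'.comp (LinearEquiv.ofInjective L hL).symm.toLinearMap
  obtain ⟨g, hg, hgx⟩ := witt hQ (LinearMap.range L) f (hL'.comp (LinearEquiv.ofInjective L hL).symm.injective)
    fun x => by
      obtain ⟨y, rfl⟩ := (LinearEquiv.ofInjective L hL).surjective x
      show Q (L' ((LinearEquiv.ofInjective L hL).symm ((LinearEquiv.ofInjective L hL) y))) = _
      rw [LinearEquiv.symm_apply_apply]
      exact DFunLike.congr_fun hQQ y
  refine ⟨⟨g, hg⟩, fun i => ?_⟩
  have h := hgx ((LinearEquiv.ofInjective L hL) (Pi.single i 1))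
  rw [LinearEquiv.ofInjective_apply, hs] at h
  rw [h]
  show L' ((LinearEquiv.ofInjective L hL).symm _) = _
  rw [LinearEquiv.symm_apply_apply, hs']

/-- A small space has a perpendicular vector of value one. -/
theorem exists_one_perp_two (hQ : PND Q) (S : Submodule F V) (hS : 2 * finrank F S < finrank F V) :
    ∃ t : Vec Q, ∀ s ∈ S, polar Q s t.1 = 0 := by
  obtain ⟨x, hx, hQx⟩ : ∃ x ∈ perp Q S, Q x ≠ 0 := by
    by_contra hc
    push Not at hc
    have hle : perp Q S ≤ perp Q (perp Q S) := fun x hx y hy => by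
      show polar Q y x = 0
      have := hc _ (add_mem hy hx)
      rwa [map_two, hc y hy, hc x hx, zero_add, zero_add] at this
    rw [perp_perp hQ] at hle
    have h1 := Submodule.finrank_mono hle
    rw [finrank_perp hQ] at h1
    omega
  obtain ⟨t, ht⟩ := exists_scale hQx 1
  exact ⟨⟨t • x, ht⟩, fun s hs => by
    show polar Q s (t • x) = 0
    rw [polar_smul_right, show polar Q s x = 0 from hx s hs, smul_zero]⟩

theorem rf_not_mem (hQ : PND Q) {v : V} (hv : Q v ≠ 0) : rf Q v ∉ commutator ↥(Iso Q) := fun hm => by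
  obtain ⟨D, hD⟩ := exists_dickson (Q := Q) hQ
  have := Abelianization.commutator_subset_ker D hm
  rw [MonoidHom.mem_ker, hD v hv, ← ofAdd_zero] at this
  exact one_ne_zero (Multiplicative.ofAdd.injective this)

/-- An isometry may be corrected into the derived group by a reflection in a perpendicular vector. -/
theorem exists_omega_move (hQ : PND Q) (hn : 5 ≤ finrank F V) {k : ℕ} (hk : 2 * k < finrank F V)
    {v v' : Fin k → V} (hv : LinearIndependent F v) (hv' : LinearIndependent F v')
    (hd : ∀ i, Q (v' i) = Q (v i)) (hp : ∀ i j, polar Q (v' i) (v' j) = polar Q (v i) (v j)) :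
    ∃ g : ↥(Gr Q), ∀ i, g.1.1 (v i) = v' i := by
  obtain ⟨g, hg⟩ := witt_fin hQ hv hv' hd hp
  have hidx := index_two hQ (by omega) (Or.inr (by omega : finrank F V ≠ 4))
  by_cases hgm : g ∈ commutator ↥(Iso Q)
  · exact ⟨⟨g, hgm⟩, hg⟩
  obtain ⟨t, ht⟩ := exists_one_perp_two hQ (Submodule.span F (Set.range v)) (by
    rw [finrank_span_eq_card hv, Fintype.card_fin]; exact hk)
  have ht0 : Q t.1 ≠ 0 := t.2.symm ▸ one_ne_zero
  refine ⟨⟨g * rf Q t.1, ?_⟩, fun i => ?_⟩
  · rw [Subgroup.mul_mem_iff_of_index_two hidx]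
    exact iff_of_false hgm (rf_not_mem hQ ht0)
  · show g.1 (refl Q t.1 (v i)) = _
    rw [refl_fix (by rw [polar_comm]; exact ht _ (Submodule.subset_span ⟨i, rfl⟩)), hg]

/-- A hyperbolic pair gives a vector of value one with prescribed polar values. -/
theorem exists_value_one {S : Submodule F V} {e f : V} (he : Q e = 0) (hf : Q f = 0) (hef : polar Q e f = 1)
    (heS : e ∈ perp Q S) (hfS : f ∈ perp Q S) (x : V) :
    ∃ z : Vec Q, (∀ s ∈ S, polar Q z.1 s = polar Q x s) ∧ z.1 ∉ S := by
  obtain ⟨x', hx'⟩ : ∃ x', x' = x - polar Q x e • f - polar Q x f • e := ⟨_, rfl⟩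
  have hfe : polar Q f e = 1 := by rw [polar_comm]; exact hef
  have h1 : polar Q x' e = 0 := by
    rw [hx', polar_sub_left, polar_sub_left, polar_smul_left, polar_smul_left, hfe, polar_self_zero he]; simp
  have h3 : polar Q x' f = 0 := by
    rw [hx', polar_sub_left, polar_sub_left, polar_smul_left, polar_smul_left, hef, polar_self_zero hf]; simp
  refine ⟨⟨x' + (1 - Q x') • e + f, ?_⟩, fun s hs => ?_, fun hz => ?_⟩
  · rw [map_two, map_two, QuadraticMap.map_smul, he, hf, polar_smul_right, h1, polar_add_left, h3, polar_smul_left, hef]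
    simp
  · show polar Q (x' + (1 - Q x') • e + f) s = _
    have se : polar Q e s = 0 := by rw [polar_comm]; exact heS s hs
    have sf : polar Q f s = 0 := by rw [polar_comm]; exact hfS s hs
    rw [polar_add_left, polar_add_left, polar_smul_left, se, sf, hx', polar_sub_left, polar_sub_left,
      polar_smul_left, polar_smul_left, se, sf]
    simp
  · have h := heS _ hz
    change polar Q (x' + (1 - Q x') • e + f) e = 0 at h
    rw [polar_add_left, polar_add_left, polar_smul_left, h1, hfe, polar_self_zero he] at h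
    simp at h

/-- A singular vector off a subspace has a partner. -/
theorem exists_partner (hQ : PND Q) {S : Submodule F V} {e : V} (he : Q e = 0) (heS : e ∈ perp Q S) (hne : e ∉ S) :
    ∃ f, Q f = 0 ∧ polar Q e f = 1 ∧ f ∈ perp Q S := by
  obtain ⟨v, hvS, hve⟩ := exists_polar_sep hQ hne 1
  have hev : polar Q e v = 1 := by rw [polar_comm]; exact hve
  refine ⟨v - Q v • e, ?_, ?_, fun s hs => ?_⟩
  · rw [map_sub_two, QuadraticMap.map_smul, he, polar_smul_right, polar_comm Q v e, hev]; simp
  · rw [polar_sub_right, polar_smul_right, hev, polar_self_zero he]; simp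
  · show polar Q s (v - Q v • e) = 0
    rw [polar_sub_right, polar_smul_right, show polar Q s e = 0 from heS s hs, polar_comm Q s v, hvS s hs]; simp

/-- A totally singular space meets a larger perpendicular space outside the subspace. -/
theorem exists_singular_off (hQ : PND Q) {M S : Submodule F V} (hM : ∀ x ∈ M, Q x = 0)
    (hS : finrank F S < finrank F M) : ∃ e ∈ M, e ∈ perp Q S ∧ e ∉ S := by
  by_contra hc
  push Not at hc
  have hle : M ⊓ perp Q S ≤ M ⊓ S := fun x hx => ⟨hx.1, hc x hx.1 hx.2⟩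
  have hsup : M ⊔ perp Q S ≤ perp Q (M ⊓ S) := by
    refine sup_le (fun x hx s hs => ?_) fun x hx s hs => hx s hs.2
    show polar Q s x = 0
    rw [polar, hM _ (add_mem hs.1 hx), hM _ hs.1, hM _ hx]; simp
  have h1 := Submodule.finrank_sup_add_finrank_inf_eq M (perp Q S)
  have h3 := Submodule.finrank_mono hsup
  have h4 := Submodule.finrank_mono hle
  rw [finrank_perp hQ] at h1 h3
  have := Submodule.finrank_le S
  have := Submodule.finrank_le (M ⊓ S)
  omega

/-- The hypotheses on the scalar. -/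
structure Scalar (Q : QuadraticForm F V) (c : F) : Prop where
  pnd : PND Q
  dim : 8 ≤ finrank F V
  ne : c ≠ 0
  nonempty : ∃ a w : Vec Q, polar Q a.1 w.1 = c
  three : ∀ a w : Vec Q, polar Q a.1 w.1 = c → ∃ P : ThreePairs Q,
    ∀ x ∈ [P.e, P.f, P.w, P.w', P.u, P.z], polar Q a.1 x = 0 ∧ polar Q w.1 x = 0

namespace Scalar

variable {c : F} (K : Scalar Q c)
include K

theorem exists_ts {a w : Vec Q} (h : polar Q a.1 w.1 = c) :
    ∃ M : Submodule F V, (∀ x ∈ M, Q x = 0) ∧ finrank F M = 3 ∧ ∀ x ∈ M, polar Q a.1 x = 0 ∧ polar Q w.1 x = 0 := by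
  obtain ⟨P, hP⟩ := K.three a w h
  refine ⟨Submodule.span F (Set.range ![P.e, P.w, P.u]), fun x hx => ?_, ?_, fun x hx => ?_⟩
  · obtain ⟨k, rfl⟩ := (Submodule.mem_span_range_iff_exists_fun F).mp hx
    simp [Fin.sum_univ_three, map_two, QuadraticMap.map_smul, polar_add_left, polar_smul_left, polar_smul_right,
      show Q P.e = 0 from P.hp.1, show Q P.w = 0 from P.hq.1, show Q P.u = 0 from P.hs.1, P.ew, P.eu, P.wu]
  · rw [finrank_span_eq_card, Fintype.card_fin]
    rw [Fintype.linearIndependent_iff]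
    intro k hk
    have e : ∀ y, polarBilin Q y (∑ i, k i • ![P.e, P.w, P.u] i) = 0 := fun y => by rw [hk, map_zero]
    have e0 := e P.f
    have e1 := e P.w'
    have e2 := e P.z
    simp [Fin.sum_univ_three, polarBilin_apply_apply, polar_add_right, polar_smul_right, polar_comm Q P.f P.e,
      polar_comm Q P.w' P.w, polar_comm Q P.z P.u, polar_comm Q P.w' P.e, polar_comm Q P.z P.e, polar_comm Q P.z P.w,
      show polar Q P.e P.f = 1 from P.hp.2.2, show polar Q P.w P.w' = 1 from P.hq.2.2,
      show polar Q P.u P.z = 1 from P.hs.2.2, P.fw, P.fu, P.ew', P.w'u, P.ez, P.wz] at e0 e1 e2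
    intro i; fin_cases i <;> assumption
  · induction hx using Submodule.span_induction with
    | mem x hx => obtain ⟨i, rfl⟩ := hx; fin_cases i <;> exact hP _ (by simp)
    | zero => simp
    | add x y _ _ hx hy => simp [polar_add_right, hx.1, hx.2, hy.1, hy.2]
    | smul t x _ hx => simp [polar_smul_right, hx.1, hx.2]

theorem ne_of_adj {a b : Vec Q} (h : polar Q a.1 b.1 = c) : a ≠ b := fun e => K.ne (by
  rw [← h, e, polar_self_char_two])

/-- Any two vectors have a common neighbour outside their span. -/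
theorem pair (a b : Vec Q) :
    ∃ w : Vec Q, polar Q w.1 a.1 = c ∧ polar Q w.1 b.1 = c ∧ w.1 ∉ Submodule.span F {a.1, b.1} := by
  obtain ⟨a0, w0, h0⟩ := K.nonempty
  obtain ⟨M, hM, hM3, -⟩ := K.exists_ts h0
  obtain ⟨x, hxa, hxb⟩ : ∃ x, polar Q x a.1 = c ∧ polar Q x b.1 = c := by
    have hnot : a.1 ∉ (⊥ : Submodule F V) := fun e => ne_zero a ((Submodule.mem_bot F).mp e)
    obtain ⟨x0, -, hx0⟩ := exists_polar_sep K.pnd hnot c
    by_cases hab : b = a
    · exact ⟨x0, hx0, hab ▸ hx0⟩
    obtain ⟨v, hv, hvb⟩ := exists_polar_sep K.pnd (H := Submodule.span F {a.1})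
      (fun e => hab (vec_eq_of_mem e)) (c - polar Q x0 b.1)
    refine ⟨x0 + v, ?_, ?_⟩ <;> rw [polar_add_left]
    · rw [hv _ (Submodule.mem_span_singleton_self _), hx0, add_zero]
    · rw [hvb, add_sub_cancel]
  obtain ⟨e, he, heS, hne⟩ := exists_singular_off K.pnd (S := Submodule.span F {a.1, b.1}) hM (by
    have h1 : finrank F (Submodule.span F {a.1, b.1}) ≤ 2 := by
      have := span_dim K.pnd [a.1, b.1]
      rwa [show {x | x ∈ [a.1, b.1]} = ({a.1, b.1} : Set V) from Set.ext fun x => by simp] at this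
    omega)
  obtain ⟨f, hf, hef, hfS⟩ := exists_partner K.pnd (hM e he) heS hne
  obtain ⟨z, hz, hzS⟩ := exists_value_one (hM e he) hf hef heS hfS x
  exact ⟨z, by rw [hz _ (Submodule.subset_span (by simp)), hxa], by rw [hz _ (Submodule.subset_span (by simp)), hxb],
    hzS⟩

/-- Prescribed polar values on a space of dimension at most four with an adjacent pair. -/
theorem plane {S : Submodule F V} {a w : Vec Q} (ha : a.1 ∈ S) (hw : w.1 ∈ S) (h : polar Q a.1 w.1 = c)
    (hS : finrank F S ≤ 4) (x : V) : ∃ z : Vec Q, (∀ s ∈ S, polar Q z.1 s = polar Q x s) ∧ z.1 ∉ S := by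
  obtain ⟨M, hM, hM3, hMp⟩ := K.exists_ts h
  set U := Submodule.span F {a.1, w.1} with hU
  have hUS : U ≤ S := Submodule.span_le.mpr (by simp [Set.insert_subset_iff, ha, hw])
  have hwa : polar Q w.1 a.1 = c := by rw [polar_comm]; exact h
  have hrad : U ⊓ perp Q U = ⊥ := by
    rw [eq_bot_iff]
    rintro y ⟨hy, hp⟩
    obtain ⟨s, t, rfl⟩ := Submodule.mem_span_pair.mp hy
    have e1 : polar Q a.1 (s • a.1 + t • w.1) = 0 := hp a.1 (Submodule.subset_span (by simp))
    have e2 : polar Q w.1 (s • a.1 + t • w.1) = 0 := hp w.1 (Submodule.subset_span (by simp))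
    simp [polar_add_right, polar_smul_right, h, hwa, polar_self_char_two, CharTwo.two_eq_zero, K.ne] at e1 e2
    simp [e1, e2]
  have hU2 : finrank F U = 2 := by
    have hlt : Submodule.span F {a.1} < U := lt_of_le_of_ne (Submodule.span_mono (by simp)) fun e =>
      K.ne_of_adj h (vec_eq_of_mem (e.symm ▸ Submodule.subset_span (by simp) : w.1 ∈ Submodule.span F {a.1})).symm
    have h1 := Submodule.finrank_lt_finrank_of_lt hlt
    rw [finrank_span_singleton (ne_zero a)] at h1
    have h3 := span_dim K.pnd [a.1, w.1]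
    rw [show {x | x ∈ [a.1, w.1]} = ({a.1, w.1} : Set V) from Set.ext fun x => by simp] at h3
    change finrank F U ≤ 2 at h3
    omega
  have hS' : finrank F ↥(S ⊓ perp Q U) < finrank F M := by
    have h1 := Submodule.finrank_sup_add_finrank_inf_eq U (S ⊓ perp Q U)
    rw [show U ⊓ (S ⊓ perp Q U) = ⊥ from eq_bot_iff.mpr fun y hy => hrad.le ⟨hy.1, hy.2.2⟩, finrank_bot] at h1
    have h3 := Submodule.finrank_mono (sup_le hUS inf_le_left : U ⊔ S ⊓ perp Q U ≤ S)
    omega
  obtain ⟨e, he, heS', hne⟩ := exists_singular_off K.pnd hM hS'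
  have heU : e ∈ perp Q U := mem_perp_span.mpr fun v hv => by
    rcases Set.mem_insert_iff.mp hv with rfl | hv
    · exact (hMp e he).1
    · rw [Set.mem_singleton_iff.mp hv]; exact (hMp e he).2
  have heS : e ∈ perp Q S := fun s hs => by
    show polar Q s e = 0
    obtain ⟨u, hud⟩ : ∃ u, u = (polar Q w.1 s / c) • a.1 + (polar Q a.1 s / c) • w.1 := ⟨_, rfl⟩
    have huU : u ∈ U := hud ▸ Submodule.mem_span_pair.mpr ⟨_, _, rfl⟩
    have hm : s - u ∈ S ⊓ perp Q U := ⟨sub_mem hs (hUS huU), mem_perp_span.mpr fun v hv => by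
      rcases Set.mem_insert_iff.mp hv with rfl | hv
      · simp [hud, polar_sub_right, polar_add_right, polar_smul_right, h, polar_self_char_two, CharTwo.two_eq_zero, K.ne]
      · rw [Set.mem_singleton_iff.mp hv]
        simp [hud, polar_sub_right, polar_add_right, polar_smul_right, hwa, polar_self_char_two, CharTwo.two_eq_zero, K.ne]⟩
    have e1 : polar Q (s - u) e = 0 := heS' _ hm
    rwa [polar_sub_left, show polar Q u e = 0 from heU u huU, sub_zero] at e1
  have heS2 : e ∉ S := fun hs => hne ⟨hs, heU⟩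
  obtain ⟨f, hf, hef, hfS⟩ := exists_partner K.pnd (hM e he) heS heS2
  exact exists_value_one (hM e he) hf hef heS hfS x

/-- Adjacency. -/
def adj (_K : Scalar Q c) (a b : Vec Q) : Prop := polar Q a.1 b.1 = c

/-- Admissible common neighbours. -/
def via (_K : Scalar Q c) (a b w : Vec Q) : Prop :=
  polar Q w.1 a.1 = c ∧ polar Q w.1 b.1 = c ∧ w.1 ∉ Submodule.span F {a.1, b.1}

theorem via_swap {a b w : Vec Q} (h : K.via a b w) : K.via b a w := ⟨h.2.1, h.1, by rw [Set.pair_comm]; exact h.2.2⟩

/-- A common neighbour of three vectors, admissible for each two of them. -/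
def Com (a b d : Vec Q) : Prop := ∃ w, K.via a b w ∧ K.via b d w ∧ K.via a d w

theorem Com.swap12 {a b d : Vec Q} (h : K.Com a b d) : K.Com b a d :=
  let ⟨w, h1, h2, h3⟩ := h; ⟨w, K.via_swap h1, h3, h2⟩

theorem Com.swap23 {a b d : Vec Q} (h : K.Com a b d) : K.Com a d b :=
  let ⟨w, h1, h2, h3⟩ := h; ⟨w, h3, K.via_swap h2, h1⟩

theorem com_left_dup (a b : Vec Q) : K.Com a a b := by
  obtain ⟨w, h1, h2, h3⟩ := K.pair a b
  exact ⟨w, ⟨h1, h1, fun e => h3 (Submodule.span_mono (by simp) e)⟩, ⟨h1, h2, h3⟩, ⟨h1, h2, h3⟩⟩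

theorem com_of_adj {p q r : Vec Q} (h : polar Q p.1 q.1 = c) (hr : r.1 ∉ Submodule.span F {p.1, q.1}) :
    K.Com p q r := by
  obtain ⟨x0, hx1, hx2, -⟩ := K.pair p q
  obtain ⟨v, hv, hvr⟩ := exists_polar_sep K.pnd hr (c - polar Q x0.1 r.1)
  obtain ⟨z, hz, hzS⟩ := K.plane (S := Submodule.span F {x | x ∈ [p.1, q.1, r.1]})
    (Submodule.subset_span (by simp)) (Submodule.subset_span (by simp)) h
    ((span_dim K.pnd [p.1, q.1, r.1]).trans (by simp)) (x0.1 + v)
  have zp : polar Q z.1 p.1 = c := by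
    rw [hz _ (Submodule.subset_span (by simp)), polar_add_left, hv _ (Submodule.subset_span (by simp)), hx1, add_zero]
  have zq : polar Q z.1 q.1 = c := by
    rw [hz _ (Submodule.subset_span (by simp)), polar_add_left, hv _ (Submodule.subset_span (by simp)), hx2, add_zero]
  have zr : polar Q z.1 r.1 = c := by
    rw [hz _ (Submodule.subset_span (by simp)), polar_add_left, hvr, add_sub_cancel]
  have hle : ∀ a b : V, a ∈ [p.1, q.1, r.1] → b ∈ [p.1, q.1, r.1] → z.1 ∉ Submodule.span F {a, b} := fun a b ha hb e =>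
    hzS (Submodule.span_mono (s := ({a, b} : Set V)) (fun y hy => by
      rcases Set.mem_insert_iff.mp hy with rfl | hy
      · exact ha
      · rw [Set.mem_singleton_iff.mp hy]; exact hb) e)
  exact ⟨z, ⟨zp, zq, hle _ _ (by simp) (by simp)⟩, ⟨zq, zr, hle _ _ (by simp) (by simp)⟩,
    ⟨zp, zr, hle _ _ (by simp) (by simp)⟩⟩

theorem com_off {d x y : Vec Q} {S : Submodule F V} (hdx : polar Q d.1 x.1 = c) (hx : x.1 ∈ S) (hy : y.1 ∈ S)
    (hd : d.1 ∉ S) : K.Com d x y := by
  by_cases hxy : y = x
  · subst hxy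
    exact Com.swap12 K (Com.swap23 K (K.com_left_dup y d))
  refine K.com_of_adj hdx fun h => ?_
  obtain ⟨s, t, hst⟩ := Submodule.mem_span_pair.mp h
  by_cases hs : s = 0
  · exact hxy (vec_eq_of_mem (Submodule.mem_span_singleton.mpr ⟨t, by rw [← hst, hs, zero_smul, zero_add]⟩))
  · exact hd (by
      rw [show d.1 = s⁻¹ • (y.1 - t • x.1) by rw [← hst, add_sub_cancel_right, inv_smul_smul₀ hs]]
      exact S.smul_mem _ (sub_mem hy (S.smul_mem _ hx)))

theorem tri_adj (a b d : Vec Q) (h : polar Q a.1 b.1 = c ∨ polar Q b.1 d.1 = c ∨ polar Q a.1 d.1 = c) :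
    Tri K.via a b d := by
  have hbase : K.Com a b d → Tri K.via a b d := fun ⟨w, h1, h2, h3⟩ => .base a b d w h1 h2 h3
  have main : ∀ p q r : Vec Q, polar Q p.1 q.1 = c → (K.Com p q r → K.Com a b d) →
      a.1 ∈ Submodule.span F {x | x ∈ [p.1, q.1, r.1]} → b.1 ∈ Submodule.span F {x | x ∈ [p.1, q.1, r.1]} →
      d.1 ∈ Submodule.span F {x | x ∈ [p.1, q.1, r.1]} →
      (a = p ∨ a = q ∨ b = p ∨ b = q) → (b = p ∨ b = q ∨ d = p ∨ d = q) → (a = p ∨ a = q ∨ d = p ∨ d = q) →
      Tri K.via a b d := by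
    intro p q r hpq hperm ha hb hd hab hbd had
    by_cases hr : r.1 ∈ Submodule.span F {p.1, q.1}
    swap
    · exact hbase (hperm (K.com_of_adj hpq hr))
    have hle : Submodule.span F {x | x ∈ [p.1, q.1, r.1]} ≤ Submodule.span F {p.1, q.1} :=
      Submodule.span_le.mpr fun x hx => by
        simp only [Set.mem_setOf_eq, List.mem_cons, List.not_mem_nil, or_false] at hx
        rcases hx with rfl | rfl | rfl
        · exact Submodule.subset_span (by simp)
        · exact Submodule.subset_span (by simp)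
        · exact hr
    obtain ⟨e, hep, heq, heS⟩ := K.pair p q
    have key : ∀ x y : Vec Q, x.1 ∈ Submodule.span F {p.1, q.1} → y.1 ∈ Submodule.span F {p.1, q.1} →
        (x = p ∨ x = q ∨ y = p ∨ y = q) → K.Com e x y := by
      intro x y hx hy hxy
      rcases hxy with rfl | rfl | rfl | rfl
      · exact K.com_off hep hx hy heS
      · exact K.com_off heq hx hy heS
      · exact Com.swap23 K (K.com_off hep hy hx heS)
      · exact Com.swap23 K (K.com_off heq hy hx heS)
    refine .split a b d e ?_ ?_ ?_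
    · obtain ⟨w, h1, h2, h3⟩ := key a b (hle ha) (hle hb) hab; exact .base _ _ _ w h1 h2 h3
    · obtain ⟨w, h1, h2, h3⟩ := key b d (hle hb) (hle hd) hbd; exact .base _ _ _ w h1 h2 h3
    · obtain ⟨w, h1, h2, h3⟩ := Com.swap12 K (key a d (hle ha) (hle hd) had); exact .base _ _ _ w h1 h2 h3
  have mem : ∀ {p q r x : V}, x ∈ [p, q, r] → x ∈ Submodule.span F {y | y ∈ [p, q, r]} := fun h =>
    Submodule.subset_span h
  rcases h with h | h | h
  · exact main a b d h id (mem (by simp)) (mem (by simp)) (mem (by simp)) (by simp) (by simp) (by simp)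
  · exact main b d a h (fun e => Com.swap12 K (Com.swap23 K e)) (mem (by simp)) (mem (by simp)) (mem (by simp))
      (by simp) (by simp) (by simp)
  · exact main a d b h (fun e => Com.swap23 K e) (mem (by simp)) (mem (by simp)) (mem (by simp)) (by simp) (by simp)
      (by simp)

theorem tri (a b d : Vec Q) : Tri K.via a b d := by
  obtain ⟨e, h1, h2, -⟩ := K.pair a b
  exact .split a b d e (K.tri_adj e a b (Or.inl h1)) (K.tri_adj e b d (Or.inl h2))
    (K.tri_adj a e d (Or.inl (by rw [polar_comm]; exact h1)))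

theorem mem_stab₂ {g : ↥(Gr Q)} {v v' : Vec Q} (h : g.1.1 v.1 = v.1) (h' : g.1.1 v'.1 = v'.1) :
    g ∈ stab₂ ↥(Gr Q) v v' := ⟨(fix_iff g v).mpr h, (fix_iff g v').mpr h'⟩

/-- A step of the chain of common neighbours. -/
def Move (a b v v' : Vec Q) : Prop :=
  K.via a b v ∧ K.via a b v' ∧ polar Q v.1 v'.1 = c ∧ v'.1 ∉ Submodule.span F {x | x ∈ [a.1, b.1, v.1]}

theorem exists_move_step {a b v v' : Vec Q} (h : K.Move a b v v') :
    ∃ g : ↥(Gr Q), g ∈ stab₂ ↥(Gr Q) v v' ∧ g • a = b := by
  obtain ⟨hv, hv', -, hn⟩ := h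
  have li : ∀ x : Vec Q, (x = a ∨ x = b) → LinearIndependent F ![v.1, v'.1, x.1] := by
    intro x hx
    rw [Fintype.linearIndependent_iff]
    intro k hk
    simp only [Fin.sum_univ_three, Matrix.cons_val_zero, Matrix.cons_val_one, Matrix.cons_val] at hk
    have hxm : x.1 ∈ Submodule.span F {a.1, b.1} := Submodule.subset_span (by rcases hx with rfl | rfl <;> simp)
    have hsub : Submodule.span F {a.1, b.1} ≤ Submodule.span F {x | x ∈ [a.1, b.1, v.1]} :=
      Submodule.span_mono fun y hy => by rcases Set.mem_insert_iff.mp hy with rfl | hy <;> simp_all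
    have hvm : v.1 ∈ Submodule.span F {x | x ∈ [a.1, b.1, v.1]} := Submodule.subset_span (by simp)
    have k1 : k 1 = 0 := by
      by_contra e
      refine hn ?_
      rw [show v'.1 = (k 1)⁻¹ • -(k 0 • v.1 + k 2 • x.1) by
        rw [eq_inv_smul_iff₀ e, eq_neg_iff_add_eq_zero, ← hk]; abel]
      exact Submodule.smul_mem _ _ (neg_mem (add_mem (Submodule.smul_mem _ _ hvm) (Submodule.smul_mem _ _ (hsub hxm))))
    rw [k1, zero_smul, add_zero] at hk
    have k0 : k 0 = 0 := by
      by_contra e
      refine hv.2.2 ?_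
      rw [show v.1 = (k 0)⁻¹ • -(k 2 • x.1) by rw [eq_inv_smul_iff₀ e, eq_neg_iff_add_eq_zero, ← hk]]
      exact Submodule.smul_mem _ _ (neg_mem (Submodule.smul_mem _ _ hxm))
    rw [k0, zero_smul, zero_add] at hk
    have k2 : k 2 = 0 := (smul_eq_zero.mp hk).resolve_right (ne_zero x)
    intro i; fin_cases i <;> assumption
  obtain ⟨g, hg⟩ := exists_omega_move K.pnd (by have := K.dim; omega) (k := 3) (by have := K.dim; omega)
    (li a (Or.inl rfl)) (li b (Or.inr rfl))
    (fun i => by fin_cases i <;> simp [a.2, b.2]) (fun i j => by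
      fin_cases i <;> fin_cases j <;>
        simp [polar_self_char_two, CharTwo.two_eq_zero, hv.1, hv.2.1, hv'.1, hv'.2.1, polar_comm Q a.1 v.1, polar_comm Q b.1 v.1,
          polar_comm Q a.1 v'.1, polar_comm Q b.1 v'.1])
  exact ⟨g, mem_stab₂ K (hg 0) (hg 1), Subtype.ext (hg 2)⟩

theorem meet {a b w w' : Vec Q} (hw : K.via a b w) (hw' : K.via a b w')
    (hn : w'.1 ∉ Submodule.span F {x | x ∈ [a.1, b.1, w.1]}) : Relation.ReflTransGen (K.Move a b) w w' := by
  obtain ⟨x0, hx0a, hx0b, -⟩ := K.pair a b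
  obtain ⟨v1, h1, h1w⟩ := exists_polar_sep K.pnd hw.2.2 (c - polar Q x0.1 w.1)
  obtain ⟨v2, h2, h2w⟩ := exists_polar_sep K.pnd hn (c - polar Q (x0.1 + v1) w'.1)
  obtain ⟨z, hz, hzS⟩ := K.plane (S := Submodule.span F {x | x ∈ [a.1, b.1, w.1, w'.1]}) (a := a) (w := w)
    (Submodule.subset_span (by simp)) (Submodule.subset_span (by simp)) (by rw [polar_comm]; exact hw.1)
    ((span_dim K.pnd _).trans (by simp)) (x0.1 + v1 + v2)
  have za : polar Q z.1 a.1 = c := by
    rw [hz _ (Submodule.subset_span (by simp)), polar_add_left, polar_add_left, hx0a,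
      h1 _ (Submodule.subset_span (by simp)), h2 _ (Submodule.subset_span (by simp)), add_zero, add_zero]
  have zb : polar Q z.1 b.1 = c := by
    rw [hz _ (Submodule.subset_span (by simp)), polar_add_left, polar_add_left, hx0b,
      h1 _ (Submodule.subset_span (by simp)), h2 _ (Submodule.subset_span (by simp)), add_zero, add_zero]
  have zw : polar Q z.1 w.1 = c := by
    rw [hz _ (Submodule.subset_span (by simp)), polar_add_left, polar_add_left, h1w,
      h2 _ (Submodule.subset_span (by simp)), add_zero, add_sub_cancel]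
  have zw' : polar Q z.1 w'.1 = c := by
    rw [hz _ (Submodule.subset_span (by simp)), polar_add_left, h2w, add_sub_cancel]
  have sub4 : ∀ s : Set V, (∀ y ∈ s, y ∈ [a.1, b.1, w.1, w'.1]) →
      Submodule.span F s ≤ Submodule.span F {x | x ∈ [a.1, b.1, w.1, w'.1]} := fun s hs => Submodule.span_mono hs
  have hzv : K.via a b z := ⟨za, zb, fun e => hzS (sub4 _ (by simp) e)⟩
  refine (Relation.ReflTransGen.single ⟨hw, hzv, by rw [polar_comm]; exact zw, fun e => hzS (sub4 _ (by simp +contextual) e)⟩).tail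
    ⟨hzv, hw', zw', fun e => ?_⟩
  obtain ⟨u, hu, t, ht⟩ : ∃ u ∈ Submodule.span F {a.1, b.1}, ∃ t : F, w'.1 = u + t • z.1 := by
    have hle : Submodule.span F {x | x ∈ [a.1, b.1, z.1]} ≤ Submodule.span F {a.1, b.1} ⊔ Submodule.span F {z.1} :=
      Submodule.span_le.mpr fun y hy => by
        simp only [Set.mem_setOf_eq, List.mem_cons, List.not_mem_nil, or_false] at hy
        rcases hy with rfl | rfl | rfl
        · exact Submodule.mem_sup_left (Submodule.subset_span (by simp))
        · exact Submodule.mem_sup_left (Submodule.subset_span (by simp))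
        · exact Submodule.mem_sup_right (Submodule.mem_span_singleton_self _)
    obtain ⟨u, hu, v, hv, e'⟩ := Submodule.mem_sup.mp (hle e)
    obtain ⟨t, rfl⟩ := Submodule.mem_span_singleton.mp hv
    exact ⟨u, hu, t, e'.symm⟩
  by_cases ht0 : t = 0
  · exact hw'.2.2 (by rw [ht, ht0, zero_smul, add_zero]; exact hu)
  refine hzS ?_
  rw [show z.1 = t⁻¹ • (w'.1 - u) by rw [ht, add_sub_cancel_left, inv_smul_smul₀ ht0]]
  exact Submodule.smul_mem _ _ (sub_mem (Submodule.subset_span (by simp)) (sub4 _ (by simp) hu))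

theorem chain {a b w w' : Vec Q} (hw : K.via a b w) (hw' : K.via a b w') :
    Relation.ReflTransGen (K.Move a b) w w' := by
  by_cases hn : w'.1 ∈ Submodule.span F {x | x ∈ [a.1, b.1, w.1]}
  swap
  · exact K.meet hw hw' hn
  obtain ⟨x0, hx0a, hx0b, -⟩ := K.pair a b
  obtain ⟨v1, h1, h1w⟩ := exists_polar_sep K.pnd hw.2.2 (c - polar Q x0.1 w.1)
  obtain ⟨u, hu, huS⟩ := K.plane (S := Submodule.span F {x | x ∈ [a.1, b.1, w.1]}) (a := a) (w := w)
    (Submodule.subset_span (by simp)) (Submodule.subset_span (by simp)) (by rw [polar_comm]; exact hw.1)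
    ((span_dim K.pnd _).trans (by simp)) (x0.1 + v1)
  have ua : polar Q u.1 a.1 = c := by
    rw [hu _ (Submodule.subset_span (by simp)), polar_add_left, hx0a, h1 _ (Submodule.subset_span (by simp)), add_zero]
  have ub : polar Q u.1 b.1 = c := by
    rw [hu _ (Submodule.subset_span (by simp)), polar_add_left, hx0b, h1 _ (Submodule.subset_span (by simp)), add_zero]
  have hab : Submodule.span F {a.1, b.1} ≤ Submodule.span F {x | x ∈ [a.1, b.1, w.1]} :=
    Submodule.span_mono fun y hy => by rcases Set.mem_insert_iff.mp hy with rfl | hy <;> simp_all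
  have huv : K.via a b u := ⟨ua, ub, fun e => huS (hab e)⟩
  refine (K.meet hw huv huS).trans (K.meet huv hw' fun e => ?_)
  have hle : Submodule.span F {x | x ∈ [a.1, b.1, u.1]} ≤ Submodule.span F {a.1, b.1} ⊔ Submodule.span F {u.1} :=
    Submodule.span_le.mpr fun y hy => by
      simp only [Set.mem_setOf_eq, List.mem_cons, List.not_mem_nil, or_false] at hy
      rcases hy with rfl | rfl | rfl
      · exact Submodule.mem_sup_left (Submodule.subset_span (by simp))
      · exact Submodule.mem_sup_left (Submodule.subset_span (by simp))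
      · exact Submodule.mem_sup_right (Submodule.mem_span_singleton_self _)
  obtain ⟨y, hy, z, hz, e'⟩ := Submodule.mem_sup.mp (hle e)
  obtain ⟨t, rfl⟩ := Submodule.mem_span_singleton.mp hz
  by_cases ht0 : t = 0
  · exact hw'.2.2 (by rw [← e', ht0, zero_smul, add_zero]; exact hy)
  refine huS ?_
  rw [show u.1 = t⁻¹ • (w'.1 - y) by rw [← e', add_sub_cancel_left, inv_smul_smul₀ ht0]]
  exact Submodule.smul_mem _ _ (sub_mem hn (hab hy))

theorem detour {a b w : Vec Q} (ha : polar Q w.1 a.1 = c) (hb : polar Q w.1 b.1 = c) :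
    ∃ g : ↥(Gr Q), g • w = w ∧ K.via a (g • a) w ∧ K.via a (g⁻¹ • b) w := by
  have adj_smul : ∀ (g : ↥(Gr Q)) (x : Vec Q), g • w = w → polar Q w.1 x.1 = c → polar Q w.1 (g • x).1 = c :=
    fun g x hg hx => by
      conv_lhs => rw [← hg]
      rw [smul_val, smul_val, polar_iso g.1.2, hx]
  have bad : ∀ d : Vec Q, polar Q w.1 d.1 = c → d.1 ≠ a.1 + c • w.1 → w.1 ∉ Submodule.span F {a.1, d.1} := by
    intro d hd hne hm
    obtain ⟨s, t, hst⟩ := Submodule.mem_span_pair.mp hm
    have hp := congrArg (fun z => polar Q w.1 z) hst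
    simp only [polar_add_right, polar_smul_right, ha, hd, polar_self_char_two, smul_eq_mul] at hp
    have hst' : t = -s := eq_neg_of_add_eq_zero_right ((mul_eq_zero.mp
      (show (s + t) * c = 0 by linear_combination hp)).resolve_right K.ne)
    have hs : s ≠ 0 := fun e => ne_zero w (by rw [← hst, hst', e, neg_zero, zero_smul, zero_smul, add_zero])
    have hdv : d.1 = a.1 + (-s⁻¹) • w.1 := by
      rw [← hst, hst', smul_add, smul_smul, smul_smul, neg_mul_neg, neg_mul, inv_mul_cancel₀ hs, neg_one_smul,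
        one_smul, add_neg_cancel_left]
    have h1 := d.2
    rw [hdv, map_two, QuadraticMap.map_smul, a.2, w.2, polar_smul_right, polar_comm Q a.1 w.1, ha, smul_eq_mul,
      smul_eq_mul] at h1
    obtain ⟨r, hr⟩ : ∃ r, r = -s⁻¹ := ⟨_, rfl⟩
    rw [← hr] at h1 hdv
    rcases mul_eq_zero.mp (show r * (r + c) = 0 by linear_combination h1) with e | e
    · exact neg_ne_zero.mpr (inv_ne_zero hs) (hr ▸ e)
    · exact hne (by rw [hdv, eq_neg_of_add_eq_zero_left e, CharTwo.neg_eq])
  have hself : a.1 ≠ a.1 + c • w.1 := fun e => ne_zero w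
    ((smul_eq_zero.mp (left_eq_add.mp e)).resolve_left K.ne)
  by_cases hb' : b.1 = a.1 + c • w.1
  swap
  · refine ⟨1, one_smul _ w, ⟨ha, ?_, ?_⟩, ⟨ha, ?_, ?_⟩⟩
    · rwa [one_smul]
    · rw [one_smul]; exact bad a ha hself
    · rwa [inv_one, one_smul]
    · rw [inv_one, one_smul]; exact bad b hb hb'
  obtain ⟨d, hdw, -, hdS⟩ := K.pair w a
  have hwd : polar Q w.1 d.1 = c := by rw [polar_comm]; exact hdw
  have hne2 : ∀ x : Vec Q, polar Q w.1 x.1 = c → LinearIndependent F ![w.1, x.1] := fun x hx => by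
    rw [LinearIndependent.pair_iff]
    intro s t h
    have hp := congrArg (fun z => polar Q w.1 z) h
    simp only [polar_add_right, polar_smul_right, hx, polar_self_char_two, smul_eq_mul, polar_zero_right, mul_zero,
      zero_add] at hp
    have ht := (mul_eq_zero.mp hp).resolve_right K.ne
    rw [ht, zero_smul, add_zero] at h
    exact ⟨(smul_eq_zero.mp h).resolve_right (ne_zero w), ht⟩
  obtain ⟨g, hg⟩ := exists_omega_move K.pnd (by have := K.dim; omega) (k := 2) (by have := K.dim; omega)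
    (hne2 a ha) (hne2 d hwd) (fun i => by fin_cases i <;> simp [a.2, d.2, w.2]) (fun i j => by
      fin_cases i <;> fin_cases j <;> simp [polar_self_char_two, CharTwo.two_eq_zero, ha, hwd, polar_comm Q a.1 w.1, polar_comm Q d.1 w.1])
  have hgw : g • w = w := Subtype.ext (hg 0)
  have hga : g • a = d := Subtype.ext (hg 1)
  have hgw' : g⁻¹ • w = w := by rw [inv_smul_eq_iff, hgw]
  refine ⟨g, hgw, ⟨ha, adj_smul g a hgw ha, ?_⟩, ⟨ha, adj_smul g⁻¹ b hgw' hb, ?_⟩⟩
  · refine bad _ (adj_smul g a hgw ha) fun e => hdS ?_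
    rw [← hga, e]
    exact add_mem (Submodule.subset_span (by simp)) (Submodule.smul_mem _ _ (Submodule.subset_span (by simp)))
  · refine bad _ (adj_smul g⁻¹ b hgw' hb) fun e => ?_
    have e1 : g.1.1 (g⁻¹ • b).1 = b.1 := congrArg Subtype.val (smul_inv_smul g b)
    rw [e, map_add, map_smul, hb'] at e1
    have h0 : g.1.1 w.1 = w.1 := hg 0
    have h1 : g.1.1 a.1 = d.1 := hg 1
    rw [h0, h1] at e1
    exact hdS (by rw [add_right_cancel e1]; exact Submodule.subset_span (by simp))

/-- The amalgam. -/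
noncomputable def relay (p1 : ∀ a : Vec Q, stabilizer ↥(Gr Q) a ≤ ⁅stabilizer ↥(Gr Q) a, stabilizer ↥(Gr Q) a⁆)
    (p2 : ∀ a w : Vec Q, polar Q a.1 w.1 = c → stab₂ ↥(Gr Q) a w ≤ ⁅stab₂ ↥(Gr Q) a w, stab₂ ↥(Gr Q) a w⁆) :
    Relay ↥(Gr Q) (Vec Q) where
  adj := K.adj
  via := K.via
  symm a b h := by show polar Q b.1 a.1 = c; rw [polar_comm]; exact h
  via_adj a b w h := ⟨h.1, h.2.1⟩
  via_swap a b w h := K.via_swap h
  via_inv g a b w h := by
    refine ⟨?_, ?_, fun e => h.2.2 ?_⟩
    · rw [smul_val, smul_val, polar_iso g.1.2]; exact h.1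
    · rw [smul_val, smul_val, polar_iso g.1.2]; exact h.2.1
    · obtain ⟨s, t, hst⟩ := Submodule.mem_span_pair.mp e
      refine Submodule.mem_span_pair.mpr ⟨s, t, g.1.1.injective ?_⟩
      rw [map_add, map_smul, map_smul]
      exact hst
  inv g a b h := by show polar Q (g • a).1 (g • b).1 = c; rw [smul_val, smul_val, polar_iso g.1.2]; exact h
  tr a b := by
    obtain ⟨g, hg⟩ := exists_omega_move K.pnd (by have := K.dim; omega) (k := 1) (by have := K.dim; omega)
      (v := ![a.1]) (v' := ![b.1]) (linearIndependent_unique_iff.mpr (ne_zero a)) (linearIndependent_unique_iff.mpr (ne_zero b))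
      (fun i => by fin_cases i; simp [a.2, b.2]) (fun i j => by fin_cases i; fin_cases j; simp [polar_self_char_two, CharTwo.two_eq_zero])
    exact ⟨g, Subtype.ext (hg 0)⟩
  perfect1 := p1
  perfect2 := p2
  trans w a b ha hb := by
    have li : ∀ x : Vec Q, polar Q w.1 x.1 = c → LinearIndependent F ![w.1, x.1] := fun x hx => by
      rw [LinearIndependent.pair_iff]
      intro s t h
      have hp := congrArg (fun z => polar Q w.1 z) h
      simp only [polar_add_right, polar_smul_right, hx, polar_self_char_two, smul_eq_mul, polar_zero_right, mul_zero,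
        zero_add] at hp
      have ht := (mul_eq_zero.mp hp).resolve_right K.ne
      rw [ht, zero_smul, add_zero] at h
      exact ⟨(smul_eq_zero.mp h).resolve_right (ne_zero w), ht⟩
    have ha' : polar Q w.1 a.1 = c := ha
    have hb' : polar Q w.1 b.1 = c := hb
    obtain ⟨g, hg⟩ := exists_omega_move K.pnd (by have := K.dim; omega) (k := 2) (by have := K.dim; omega)
      (li a ha') (li b hb') (fun i => by fin_cases i <;> simp [a.2, b.2, w.2]) (fun i j => by
        fin_cases i <;> fin_cases j <;> simp [polar_self_char_two, CharTwo.two_eq_zero, ha', hb', polar_comm Q a.1 w.1, polar_comm Q b.1 w.1])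
    exact ⟨g, Subtype.ext (hg 0), Subtype.ext (hg 1)⟩
  pair a b := K.pair a b
  detour _ _ _ ha hb := K.detour ha hb
  tri := K.tri
  link a b w w' h h' := by
    induction K.chain h h' with
    | refl => exact Relation.ReflTransGen.refl
    | @tail v v' _ hm ih =>
      obtain ⟨g, hg, hga⟩ := K.exists_move_step hm
      exact (ih hm.1).tail ⟨hm.1, hm.2.1, g, p2 v v' hm.2.2.1 hg, hga⟩

end Scalar

end Cfsg.Agent.Small.OrthCover
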