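import Cfsg.Agent.Lib.Small.OrthCover.EvenModel
import Cfsg.Agent.Lib.Small.SpCover.Main
import Cfsg.Agent.Lib.Small.SpCover.Three
import Cfsg.Agent.Lib.Solv.SchurSmall

/-!
The orthogonal groups of minus type in characteristic two have no proper stem extension.
-/

set_option autoImplicit false
set_option linter.unusedSectionVars false

namespace Cfsg.Agent.Small.OrthCover

open Module QuadraticMap MulAction Cfsg.Agent.Classical.OCount Cfsg.Agent.Classical.ORefl Cfsg.Agent.Classical.OOmega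
open Cfsg.Agent.Small.SchurLifts Cfsg.Agent.Small.SpCover Cfsg.Agent.Lie.SpAmalgam
open scoped commutatorElement

universe u

variable {F : Type u} [Field F] [Fintype F] [CharP F 2]

/-- A Siegel transformation in the derived group. -/
noncomputable def elGr {V : Type*} [AddCommGroup V] [Module F V] [FiniteDimensional F V] {Q : QuadraticForm F V}
    (hQ : PND Q) (hn : 5 ≤ finrank F V) {e v : V} (he : Q e = 0) (hv : polar Q e v = 0) : ↥(Gr Q) :=
  ⟨el he hv, siegel_mem_commutator hQ (Or.inr (by omega)) he hv⟩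

variable {m : ℕ} {a b : F} (hab : ∀ z₁ z₂ : F, z₁ ^ 2 + a * z₁ * z₂ + b * z₂ ^ 2 = 0 → z₁ = 0 ∧ z₂ = 0)
  (hm : 3 ≤ m)

variable (m a b) in
/-- A singular coordinate vector. -/
def sv (i : Fin m ⊕ Fin m) : (Fin m ⊕ Fin m) ⊕ Fin 2 → F := Pi.single (.inl i) 1

theorem sv_value (i : Fin m ⊕ Fin m) : QM F m a b (sv m i) = 0 := by
  rw [QM_apply]
  rcases i with i | i <;> simp [sv]

theorem sv_polar (i : Fin m ⊕ Fin m) (x : (Fin m ⊕ Fin m) ⊕ Fin 2 → F) :
    polar (QM F m a b) (sv m i) x = x (.inl i.swap) := by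
  rw [polar_QM]
  rcases i with i | i <;> simp [sv, Cfsg.Agent.Classical.OrthTwo.bil, Pi.single_apply]

include hab hm

theorem qm_dim : 5 ≤ finrank F ((Fin m ⊕ Fin m) ⊕ Fin 2 → F) := by rw [finrank_QM]; omega

omit hab hm in
theorem elim_inl (x : Fin m ⊕ Fin m → F) (i : Fin m ⊕ Fin m) :
    (Sum.elim x (![0, 0] : Fin 2 → F) : (Fin m ⊕ Fin m) ⊕ Fin 2 → F) (.inl i) = x i := rfl

/-- The image of a long root element. -/
theorem stabSp_QT (i : Fin m) (g : ↥(stabilizer ↥(Gr (QM F m a b)) (baseM m a b)))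
    (he : QM F m a b (sv m (.inl i)) = 0) (hv : polar (QM F m a b) (sv m (.inl i)) (baseM m a b).1 = 0)
    (hg : g.1.1 = el he hv) : stabSp hab hm g = QT i 1 := by
  refine ext_act fun x => funext fun k => ?_
  rw [act, stabSp_act, hg, QT, act_T, el_apply, sv_polar, polar_QM, (baseM m a b).2]
  rcases k with k | k <;> simp [baseM, Cfsg.Agent.Classical.OrthTwo.bil, bil_e, sv, Pi.single_apply, CharTwo.sub_eq_add]

/-- The image of a short root element. -/
theorem stabSp_QX (j k : Fin m) (g : ↥(stabilizer ↥(Gr (QM F m a b)) (baseM m a b)))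
    (he : QM F m a b (sv m (.inl j)) = 0) (hv : polar (QM F m a b) (sv m (.inl j)) (sv m (.inl k)) = 0)
    (hg : g.1.1 = el he hv) : stabSp hab hm g = QX j k 1 := by
  refine ext_act fun x => funext fun l => ?_
  rw [act, stabSp_act, hg, QX, act_E (bil_ee j k 1), el_apply, sv_polar, sv_polar, sv_value]
  rcases l with l | l <;> simp [bil_smul_left, bil_e, sv, Pi.single_apply, CharTwo.sub_eq_add]

variable {Γ : Type u} [Group Γ] (C : Central Γ ↥(Gr (QM F m a b)))

/-- Over two elements the lifts of a long and a disjoint short root element commute. -/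
theorem pairing_two (h2 : Fintype.card F = 2) {i j k : Fin m} (hij : i ≠ j) (hik : i ≠ k) (gx gy : ↥(Gr (QM F m a b)))
    {e1 : QM F m a b (sv m (.inl i)) = 0} {v1 : polar (QM F m a b) (sv m (.inl i)) (baseM m a b).1 = 0}
    (hgx : gx.1 = el e1 v1)
    {e2 : QM F m a b (sv m (.inl j)) = 0} {v2 : polar (QM F m a b) (sv m (.inl j)) (sv m (.inl k)) = 0}
    (hgy : gy.1 = el e2 v2) : Commute (C.L gx) (C.L gy) := by
  classical
  have hR : PND (QM F m a b) := formOf_pnd (pnd_plane hab)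
  have hn := qm_dim hab hm
  obtain ⟨w, t, ht, hw⟩ := exists_second hab (m := m)
  have ht1 : t = 1 := (two_field h2 t).resolve_left ht
  have ha1 : a = 1 := (two_field h2 a).resolve_left (a_ne_zero hab)
  obtain ⟨z0, hz0⟩ : ∃ z0, z0 = (baseM m a b).1 := ⟨_, rfl⟩
  have hz0w : polar (QM F m a b) z0 w.1 = 1 := by
    rw [hz0, polar_QM, hw, ht1, ha1]; simp [baseM, Cfsg.Agent.Classical.OrthTwo.bil]
  have hev : ∀ (l : Fin m), polar (QM F m a b) (sv m (.inl l)) z0 = 0 ∧ polar (QM F m a b) (sv m (.inl l)) w.1 = 0 :=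
    fun l => ⟨by rw [sv_polar, hz0]; simp [baseM], by rw [sv_polar, hw]; simp⟩
  let g : ∀ z, polar (QM F m a b) (sv m (.inl i)) z = 0 → ↥(Gr (QM F m a b)) := fun z hz => elGr hR hn e1 hz
  have hfix : ∀ z (hz : polar (QM F m a b) (sv m (.inl i)) z = 0), polar (QM F m a b) (sv m (.inl j)) z = 0 →
      polar (QM F m a b) (sv m (.inl k)) z = 0 → Commute gy (g z hz) := fun z hz hjz hkz => by
    show _ = _
    rw [← mul_inv_eq_iff_eq_mul]
    refine Subtype.ext ?_
    show gy.1 * el e1 hz * gy.1⁻¹ = el e1 hz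
    rw [el_conj]
    refine el_congr _ _ _ _ ?_ ?_
    · rw [hgy, el_apply, sv_polar, sv_polar]; simp [sv, hij, hik]
    · rw [hgy, el_apply, hjz, hkz]; simp
  let f : ∀ z, polar (QM F m a b) (sv m (.inl i)) z = 0 → Γ := fun z hz => ⁅C.L gy, C.L (g z hz)⁆
  have hadd : ∀ z z' (hz : polar (QM F m a b) (sv m (.inl i)) z = 0) (hz' : polar (QM F m a b) (sv m (.inl i)) z' = 0)
      (hzz : polar (QM F m a b) (sv m (.inl i)) (z + z') = 0), Commute gy (g z' hz') →
      f (z + z') hzz = f z hz * f z' hz' := by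
    intro z z' hz hz' hzz hc
    have e : C.π (C.L (g (z + z') hzz)) = C.π (C.L (g z hz) * C.L (g z' hz')) := by
      rw [map_mul, C.π_L, C.π_L, C.π_L]
      exact Subtype.ext (el_mul e1 hz hz').symm
    have hz2 : ⁅C.L gy, C.L (g z' hz')⁆ ∈ Subgroup.center Γ := C.comm_central (by rw [C.π_L, C.π_L]; exact hc)
    show ⁅_, C.L (g (z + z') hzz)⁆ = _
    rw [C.comm_right _ e, show ⁅C.L gy, C.L (g z hz) * C.L (g z' hz')⁆ =
      ⁅C.L gy, C.L (g z hz)⁆ * (C.L (g z hz) * ⁅C.L gy, C.L (g z' hz')⁆ * (C.L (g z hz))⁻¹) by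
        simp only [commutatorElement_def]; group, Subgroup.mem_center_iff.1 hz2, mul_inv_cancel_right]
  have hz0one : QM F m a b z0 = 1 := hz0 ▸ (baseM m a b).2
  have hidx := index_two hR (by omega) (Or.inr (by omega : finrank F ((Fin m ⊕ Fin m) ⊕ Fin 2 → F) ≠ 4))
  obtain ⟨r, hr⟩ : ∃ r : ↥(Gr (QM F m a b)), r.1 = rf (QM F m a b) z0 * rf (QM F m a b) w.1 :=
    ⟨⟨_, (Subgroup.mul_mem_iff_of_index_two hidx).mpr (iff_of_false
      (rf_not_mem hR (hz0one.symm ▸ one_ne_zero)) (rf_not_mem hR (w.2.symm ▸ one_ne_zero)))⟩, rfl⟩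
  have hrx : ∀ x, r.1.1 x = refl (QM F m a b) z0 (refl (QM F m a b) w.1 x) := fun x => by rw [hr]; rfl
  have hre : ∀ l, r.1.1 (sv m (.inl l)) = sv m (.inl l) := fun l => by
    rw [hrx, refl_fix (v := w.1) (x := sv m (.inl l)) (by rw [polar_comm]; exact (hev l).2),
      refl_fix (by rw [polar_comm]; exact (hev l).1)]
  have neg_self : ∀ v : (Fin m ⊕ Fin m) ⊕ Fin 2 → F, -v = v := fun v => funext fun _ => CharTwo.neg_eq _
  have rw1 : r.1.1 w.1 = z0 + w.1 := by
    rw [hrx, refl_self (w.2.symm ▸ one_ne_zero), neg_self, refl_apply, hz0one, hz0w, inv_one, one_mul, one_smul,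
      sub_eq_add_neg, neg_self, add_comm]
  have rz : r.1.1 z0 = w.1 := by
    have e1 : refl (QM F m a b) w.1 z0 = z0 + w.1 := by
      rw [refl_apply, w.2, polar_comm (QM F m a b) w.1 z0, hz0w, inv_one, one_mul, one_smul, sub_eq_add_neg, neg_self]
    rw [hrx, e1, map_add, refl_self (hz0one.symm ▸ one_ne_zero), refl_apply, hz0one, hz0w, inv_one, one_mul, one_smul]
    abel_nf
    try rw [neg_one_zsmul, neg_self]
    try rw [two_zsmul, ← sub_eq_zero]
    try simp [neg_self]
    try exact funext fun x => by simp [CharTwo.two_eq_zero]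
  have hinv : ∀ z z' (hz : polar (QM F m a b) (sv m (.inl i)) z = 0) (hz' : polar (QM F m a b) (sv m (.inl i)) z' = 0),
      Commute gy (g z hz) → r.1.1 z = z' → f z hz = f z' hz' := by
    intro z z' hz hz' hc hzz
    have h1 : C.L r * f z hz * (C.L r)⁻¹ = f z' hz' := by
      refine C.conj_comm ?_ ?_
      · rw [map_mul, map_mul, map_inv, C.π_L, C.π_L]
        refine Subtype.ext ?_
        show r.1 * gy.1 * r.1⁻¹ = gy.1
        rw [hgy, el_conj]
        exact el_congr _ _ _ _ (hre j) (hre k)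
      · rw [map_mul, map_mul, map_inv, C.π_L, C.π_L, C.π_L]
        refine Subtype.ext ?_
        show r.1 * el e1 hz * r.1⁻¹ = el e1 hz'
        rw [el_conj]
        exact el_congr _ _ _ _ (hre i) hzz
    rwa [Subgroup.mem_center_iff.1 (C.comm_central (by rw [C.π_L, C.π_L]; exact hc) :
      f z hz ∈ Subgroup.center Γ) (C.L r), mul_inv_cancel_right] at h1
  have hzw : polar (QM F m a b) (sv m (.inl i)) (z0 + w.1) = 0 := by
    rw [polar_add_right, (hev i).1, (hev i).2, add_zero]
  have cz := hfix z0 (hev i).1 (hev j).1 (hev k).1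
  have cw := hfix w.1 (hev i).2 (hev j).2 (hev k).2
  have i1 := hinv z0 w.1 (hev i).1 (hev i).2 cz rz
  have i2 := hinv w.1 (z0 + w.1) (hev i).2 hzw cw rw1
  rw [hadd z0 w.1 (hev i).1 (hev i).2 hzw cw] at i2
  have h0 : f z0 (hev i).1 = 1 := mul_eq_right.mp i2.symm
  have hgxz : gx = g z0 (hev i).1 := Subtype.ext (hgx.trans (el_congr _ _ _ _ rfl hz0.symm))
  rw [hgxz]
  exact (commutatorElement_eq_one_iff_mul_comm.mp h0).symm

/-- Perfect central extensions are trivial. -/
theorem even_bound (hΓ : commutator Γ = ⊤) : C.π.ker = ⊥ := by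
  classical
  obtain ⟨c, K⟩ := exists_scalar hab hm
  have hn := qm_dim hab hm
  let e := stabSp hab hm
  have hperf : commutator (Matrix.symplecticGroup (Fin m) F) = ⊤ :=
    PSpn.sp_commutator_eq_top (by omega) fun h => by omega
  have pbase : stabilizer ↥(Gr (QM F m a b)) (baseM m a b) ≤
      ⁅stabilizer ↥(Gr (QM F m a b)) (baseM m a b), stabilizer ↥(Gr (QM F m a b)) (baseM m a b)⁆ := by
    intro g hg
    have h1 : (⟨g, hg⟩ : ↥(stabilizer ↥(Gr (QM F m a b)) (baseM m a b))) ∈
        (commutator (Matrix.symplecticGroup (Fin m) F)).map e.symm.toMonoidHom := by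
      rw [hperf, Subgroup.map_top_of_surjective _ e.symm.surjective]; exact Subgroup.mem_top _
    rw [commutator_def, Subgroup.map_commutator] at h1
    have h3 := Subgroup.mem_map_of_mem (stabilizer ↥(Gr (QM F m a b)) (baseM m a b)).subtype h1
    rw [Subgroup.map_commutator] at h3
    refine Subgroup.commutator_mono ?_ ?_ h3 <;> exact Subgroup.map_subtype_le _
  have p1 : ∀ x : Vec (QM F m a b), stabilizer ↥(Gr (QM F m a b)) x ≤
      ⁅stabilizer ↥(Gr (QM F m a b)) x, stabilizer ↥(Gr (QM F m a b)) x⁆ := by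
    intro x g hg
    obtain ⟨h, hh⟩ := exists_omega_move K.pnd hn (k := 1) (by omega)
      (v := ![(baseM m a b).1]) (v' := ![x.1]) (linearIndependent_unique_iff.mpr (ne_zero _))
      (linearIndependent_unique_iff.mpr (ne_zero x))
      (fun i => by fin_cases i; simp [(baseM m a b).2, x.2])
      (fun i j => by fin_cases i; fin_cases j; simp [polar_self_char_two, CharTwo.two_eq_zero])
    have hx : h • baseM m a b = x := Subtype.ext (hh 0)
    rw [← hx, MulAction.stabilizer_smul_eq_stabilizer_map_conj] at hg ⊢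
    rw [← Subgroup.map_commutator]
    exact Subgroup.map_mono pbase hg
  let D := K.relay p1 K.perfect2
  have hle := D.ker_le C hΓ (baseM m a b)
  let σ : ↥(D.H C (baseM m a b)) →* ↥(stabilizer ↥(Gr (QM F m a b)) (baseM m a b)) :=
    (C.π.comp (D.H C (baseM m a b)).subtype).codRestrict _ fun x => D.π_mem C x.2
  let C' : Central ↥(D.H C (baseM m a b)) (Matrix.symplecticGroup (Fin m) F) :=
    ⟨e.toMonoidHom.comp σ, e.surjective.comp fun y => by
      obtain ⟨x, hx, hxy⟩ := D.exists_lift C (show y.1 • baseM m a b = baseM m a b from y.2)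
      exact ⟨⟨x, hx⟩, Subtype.ext hxy⟩,
    fun x hx => by
      rw [Subgroup.mem_center_iff]
      have h1 : C.π x.1 = 1 := congrArg Subtype.val (e.injective (hx.trans (map_one e).symm))
      exact fun y => Subtype.ext (Subgroup.mem_center_iff.1 (C.central h1) y.1)⟩
  have hH : commutator ↥(D.H C (baseM m a b)) = ⊤ := derived_preimage_perfect C (p1 _)
  have hsplit : ∃ Φ : Matrix.symplecticGroup (Fin m) F →* ↥(D.H C (baseM m a b)), ∀ g, C'.π (Φ g) = g := by
    by_cases h : 3 ≤ Fintype.card F ∨ 4 ≤ m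
    · exact exists_splitting (by omega) h C'
    have h2 : Fintype.card F = 2 := by
      have := Fintype.one_lt_card (α := F)
      omega
    refine exists_splitting_three C' h2 (by omega) fun i j k hij hik hjk b' c' => ?_
    refine two_root C' h2 (QX_add j k) (two_root C' h2 (QT_add i) ?_ b').symm c'
    obtain ⟨X, hX⟩ := C'.surj (QT i 1)
    obtain ⟨Y, hY⟩ := C'.surj (QX j k 1)
    refine (Cl.of_lift hY hX ?_ : Cl C' _ _)
    have hv1 : polar (QM F m a b) (sv m (.inl i)) (baseM m a b).1 = 0 := by rw [sv_polar]; simp [baseM]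
    have hv2 : polar (QM F m a b) (sv m (.inl j)) (sv m (.inl k)) = 0 := by rw [sv_polar]; simp [sv]
    have hvb : polar (QM F m a b) (sv m (.inl k)) (baseM m a b).1 = 0 := by rw [sv_polar]; simp [baseM]
    have hvj : polar (QM F m a b) (sv m (.inl j)) (baseM m a b).1 = 0 := by rw [sv_polar]; simp [baseM]
    let gx := elGr K.pnd hn (sv_value (a := a) (b := b) (.inl i)) hv1
    let gy := elGr K.pnd hn (sv_value (a := a) (b := b) (.inl j)) hv2
    have sx : gx ∈ stabilizer ↥(Gr (QM F m a b)) (baseM m a b) := by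
      rw [fix_iff]
      show (el _ hv1).1 _ = _
      rw [el_apply, hv1, polar_self_two]
      simp [CharTwo.two_eq_zero]
    have sy : gy ∈ stabilizer ↥(Gr (QM F m a b)) (baseM m a b) := by
      rw [fix_iff]
      show (el _ hv2).1 _ = _
      rw [el_apply, hvb, hvj]
      simp
    have eX : C.π X.1 = gx := congrArg Subtype.val (e.injective (hX.trans (stabSp_QT hab hm i ⟨gx, sx⟩ _ hv1 rfl).symm))
    have eY : C.π Y.1 = gy := congrArg Subtype.val (e.injective (hY.trans (stabSp_QX hab hm j k ⟨gy, sy⟩ _ hv2 rfl).symm))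
    have hc := C.commute_indep (eX.trans (C.π_L gx).symm) (eY.trans (C.π_L gy).symm)
      (pairing_two hab hm C h2 hij hik gx gy rfl rfl)
    exact Subtype.ext hc.eq.symm
  obtain ⟨Φ, hΦ⟩ := hsplit
  have htop : Φ.range = ⊤ := SpinCover.cover_top C' hH _ fun g => ⟨Φ g, ⟨g, rfl⟩, hΦ g⟩
  rw [Subgroup.eq_bot_iff_forall]
  intro k hk
  obtain ⟨g, hg⟩ := htop.ge (Subgroup.mem_top ⟨k, hle hk⟩)
  have h1 : g = 1 := by
    rw [← hΦ g, hg]
    show e (σ ⟨k, hle hk⟩) = 1
    rw [show σ ⟨k, hle hk⟩ = 1 from Subtype.ext hk, map_one]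
  rw [h1, map_one] at hg
  exact (congrArg Subtype.val hg).symm

omit hab hm in
/-- The multiplier in minus type in characteristic two. -/
theorem pomega_minus_even {a b : F} (hab : ∀ z₁ z₂ : F, z₁ ^ 2 + a * z₁ * z₂ + b * z₂ ^ 2 = 0 → z₁ = 0 ∧ z₂ = 0)
    {m : ℕ} (hm : 3 ≤ m) :
    Cfsg.HasCyclicSchurMultiplier (Cfsg.POmega F (Cfsg.quadFormMinus m F a b))
      (Nat.gcd 4 (Fintype.card F ^ (m + 1) + 1)) := by
  classical
  have hev : Fintype.card F % 2 = 0 := FiniteField.even_card_of_char_two (ringChar.eq F 2)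
  have hgcd : Nat.gcd 4 (Fintype.card F ^ (m + 1) + 1) = 1 := by
    have hp : (Fintype.card F ^ (m + 1) + 1) % 2 = 1 := by
      rw [Nat.add_mod, Nat.pow_mod, hev, zero_pow (by omega)]; rfl
    rcases (show (Fintype.card F ^ (m + 1) + 1) % 4 = 1 ∨ (Fintype.card F ^ (m + 1) + 1) % 4 = 3 by omega) with h | h <;>
      (rw [Nat.gcd_rec, h]; rfl)
  rw [hgcd]
  have hP := pnd_plane hab
  let Z := Subgroup.center ↥(Gr (QM F m a b))
  have hZ : Z = ⊥ := by
    refine Subgroup.card_eq_one.mp ?_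
    refine (card_center_standard (e := Equiv.refl ((Fin m ⊕ Fin m) ⊕ Fin 2)) hP (by omega) (by simp; omega)).trans ?_
    rw [if_neg fun h => h.2 CharTwo.two_eq_zero]
  let ε : (↥(Gr (QM F m a b)) ⧸ Z) ≃* Cfsg.POmega F (Cfsg.quadFormMinus m F a b) :=
    coe_minus (F := F) m a b ▸ pOmegaEquiv (QM F m a b)
  let mk : ↥(Gr (QM F m a b)) →* Cfsg.POmega F (Cfsg.quadFormMinus m F a b) :=
    ε.toMonoidHom.comp (QuotientGroup.mk' Z)
  let η : ↥(Gr (QM F m a b)) ≃* Cfsg.POmega F (Cfsg.quadFormMinus m F a b) :=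
    MulEquiv.ofBijective mk ⟨(injective_iff_map_eq_one mk).mpr fun g hg => by
      have : QuotientGroup.mk' Z g = 1 := ε.injective (hg.trans (map_one ε).symm)
      rwa [QuotientGroup.mk'_apply, QuotientGroup.eq_one_iff, hZ, Subgroup.mem_bot] at this,
      ε.surjective.comp (QuotientGroup.mk'_surjective Z)⟩
  haveI : Finite (Cfsg.POmega F (Cfsg.quadFormMinus m F a b)) := Finite.of_surjective _ (QuotientGroup.mk'_surjective _)
  refine Solv.hasCyclicSchur_one_of fun Γ _ _ σ hσ => ?_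
  let C : Central Γ ↥(Gr (QM F m a b)) :=
    ⟨η.symm.toMonoidHom.comp σ, η.symm.surjective.comp hσ.1, fun x hx => hσ.2.1 (η.symm.injective
      ((show η.symm (σ x) = 1 from hx).trans (map_one η.symm).symm))⟩
  have hperf : commutator ↥(Gr (QM F m a b)) = ⊤ := by
    have hR : PND (QM F m a b) := formOf_pnd hP
    apply Subgroup.map_injective (Gr (QM F m a b)).subtype_injective
    rw [Subgroup.map_subtype_commutator, commutator_perfect hR (stdPairs _ _ hm), ← MonoidHom.range_eq_map,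
      Subgroup.range_subtype]
  have hΓ : commutator Γ = ⊤ := by
    rw [eq_top_iff]
    intro g _
    obtain ⟨h, hh, hgh⟩ : C.π g ∈ (commutator Γ).map C.π := by
      rw [commutator_def, Subgroup.map_commutator, Subgroup.map_top_of_surjective C.π C.surj, ← commutator_def, hperf]
      exact Subgroup.mem_top _
    have : h⁻¹ * g ∈ σ.ker := η.symm.injective ((show η.symm (σ (h⁻¹ * g)) = 1 by
      show C.π (h⁻¹ * g) = 1
      rw [map_mul, map_inv, hgh, inv_mul_cancel]).trans (map_one η.symm).symm)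
    simpa using mul_mem hh (hσ.2.2 this)
  intro k hk
  have : k ∈ C.π.ker := by
    show η.symm (σ k) = 1
    rw [show σ k = 1 from hk, map_one]
  rwa [even_bound hab hm C hΓ, Subgroup.mem_bot] at this

end Cfsg.Agent.Small.OrthCover
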