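import Cfsg.Agent.Lib.Small.OrthCover.Cover

/-!
The Schur multipliers of the orthogonal groups of minus type in odd characteristic, from the bound.
-/

set_option autoImplicit false
set_option linter.unusedSectionVars false

namespace Cfsg.Agent.Small.OrthCover

open Module QuadraticMap MulAction Cfsg.Agent.Classical.OCount Cfsg.Agent.Classical.ORefl Cfsg.Agent.Classical.OOmega
open Cfsg.Agent.Small.SchurLifts
open scoped commutatorElement

universe u

section Chains

variable {F : Type u} [Field F] {V : Type*} [AddCommGroup V] [Module F V] [FiniteDimensional F V] [Finite F]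
  {Q : QuadraticForm F V} (h2 : (2 : F) ≠ 0) (hQ : PND Q)
include h2 hQ

omit [FiniteDimensional F V] [Finite F] hQ in
/-- Orthogonal vectors of value one span a nondegenerate space. -/
theorem orth_nondeg {k : ℕ} (v : Fin k → Vec Q) (hv : Pairwise fun i j => polar Q (v i).1 (v j).1 = 0) :
    Submodule.span F (Set.range fun i => (v i).1) ⊓ perp Q (Submodule.span F (Set.range fun i => (v i).1)) = ⊥ := by
  classical
  rw [eq_bot_iff]
  rintro x ⟨hx, hp⟩
  obtain ⟨c, rfl⟩ := (Submodule.mem_span_range_iff_exists_fun F).mp hx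
  have hc : ∀ i, c i = 0 := fun i => by
    have h : polarBilin Q (v i).1 (∑ j, c j • (v j).1) = 0 := hp _ (Submodule.subset_span ⟨i, rfl⟩)
    rw [map_sum, Finset.sum_eq_single i (fun j _ hj => by
      rw [map_smul, polarBilin_apply_apply, hv hj.symm, smul_zero]) (fun h => absurd (Finset.mem_univ i) h),
      map_smul, polarBilin_apply_apply, polar_self_two, (v i).2, smul_eq_mul, mul_one] at h
    exact (mul_eq_zero.mp h).resolve_right h2
  simp [hc]

/-- The vectors of a list of pairs. -/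
def flat : List (Vec Q × Vec Q) → List (Vec Q)
  | [] => []
  | p :: L => p.1 :: p.2 :: flat L

omit h2 hQ [FiniteDimensional F V] [Finite F] in
theorem flat_length (L : List (Vec Q × Vec Q)) : (flat L).length = 2 * L.length := by
  induction L with
  | nil => rfl
  | cons p L ih => simp only [flat, List.length_cons, ih]; omega

/-- The orthogonality of a list. -/
def Orth (l : List (Vec Q)) : Prop := l.Pairwise fun a b => polar Q a.1 b.1 = 0

theorem exists_perp_vec {l : List (Vec Q)} (hl : Orth l) (hn : l.length + 2 ≤ finrank F V) :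
    ∃ t : Vec Q, ∀ s ∈ l, polar Q t.1 s.1 = 0 := by
  have hv : Pairwise fun i j => polar Q (l.get i).1 (l.get j).1 = 0 := fun i j hij => by
    rcases lt_or_gt_of_ne hij with h | h
    · exact List.pairwise_iff_get.mp hl i j h
    · rw [polar_comm]; exact List.pairwise_iff_get.mp hl j i h
  have hd : finrank F (Submodule.span F (Set.range fun i => (l.get i).1)) ≤ l.length :=
    (finrank_range_le_card _).trans (le_of_eq (Fintype.card_fin _))
  obtain ⟨t, ht⟩ := exists_vec h2 hQ (S := Submodule.span F (Set.range fun i => (l.get i).1)) (by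
    rw [orth_nondeg h2 _ hv, finrank_bot]; omega)
  refine ⟨t, fun s hs => ?_⟩
  obtain ⟨i, rfl⟩ := List.mem_iff_get.mp hs
  rw [polar_comm]
  exact ht _ (Submodule.subset_span ⟨i, rfl⟩)

theorem orth_cons {l : List (Vec Q)} (hl : Orth l) {t : Vec Q} (ht : ∀ s ∈ l, polar Q t.1 s.1 = 0) :
    Orth (t :: l) := List.pairwise_cons.mpr ⟨ht, hl⟩

theorem exists_pairs (n : ℕ) (hn : 2 * n + 1 ≤ finrank F V) :
    ∃ L : List (Vec Q × Vec Q), L.length = n ∧ Orth (flat L) := by
  induction n with
  | zero => exact ⟨[], rfl, List.Pairwise.nil⟩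
  | succ n ih =>
    obtain ⟨L, hlen, hL⟩ := ih (by omega)
    obtain ⟨b, hb⟩ := exists_perp_vec h2 hQ hL (by rw [flat_length, hlen]; omega)
    have hbL := orth_cons h2 hQ hL hb
    obtain ⟨a, ha⟩ := exists_perp_vec h2 hQ hbL (by rw [List.length_cons, flat_length, hlen]; omega)
    exact ⟨(a, b) :: L, by simp [hlen], orth_cons h2 hQ hbL ha⟩

variable (hn : 2 ≤ finrank F V)

/-- The product of the involutions of a list of pairs. -/
noncomputable def pairsEl (L : List (Vec Q × Vec Q)) : ↥(Gr Q) :=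
  (L.map fun p => pairEl h2 hQ hn p.1 p.2).prod

include hn

theorem pairsEl_val (L : List (Vec Q × Vec Q)) :
    (pairsEl h2 hQ hn L).1 = (((flat L).map fun v => v.1).map (rf Q)).prod := by
  induction L with
  | nil => rfl
  | cons p L ih =>
    simp only [pairsEl, List.map_cons, List.prod_cons, flat] at ih ⊢
    rw [Subgroup.coe_mul, ih, ← mul_assoc]
    rfl

variable {A : Type*} [Group A] (C : Central A ↥(Gr Q)) (c : A) (hc : C.π c = 1) (hcc : c * c = 1)
  (hk : ∀ k, C.π k = 1 → k = 1 ∨ k = c) (hanti : Anti h2 hQ hn C c) (h5 : 5 ≤ finrank F V)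
include hc hcc hk hanti h5

theorem exists_lift (L : List (Vec Q × Vec Q)) (hL : Orth (flat L)) :
    ∃ p : A, C.π p = pairsEl h2 hQ hn L ∧ p * p = c ^ L.length ∧
      ∀ (a b : Vec Q) (q : A), polar Q a.1 b.1 = 0 → (∀ s ∈ flat L, polar Q a.1 s.1 = 0 ∧ polar Q b.1 s.1 = 0) →
        C.π q = pairEl h2 hQ hn a b → Commute q p := by
  induction L with
  | nil => exact ⟨1, map_one _, by simp, fun a b q _ _ _ => Commute.one_right q⟩
  | cons x L ih =>
    obtain ⟨hx1, hrest⟩ := List.pairwise_cons.mp hL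
    obtain ⟨hx2, hL'⟩ := List.pairwise_cons.mp hrest
    obtain ⟨p, hp, hpp, hcomm⟩ := ih hL'
    obtain ⟨r, hr⟩ := C.surj (pairEl h2 hQ hn x.1 x.2)
    have hx : polar Q x.1.1 x.2.1 = 0 := hx1 _ List.mem_cons_self
    have hrr := pair_sq h2 hQ hn C c hc hcc hk hanti h5 hx hr
    have hrp : Commute r p :=
      hcomm x.1 x.2 r hx (fun s hs => ⟨hx1 s (List.mem_cons_of_mem _ hs), hx2 s hs⟩) hr
    refine ⟨r * p, ?_, ?_, fun a b q hab hperp hq => ?_⟩
    · rw [map_mul, hr, hp]; simp [pairsEl]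
    · rw [show r * p * (r * p) = (r * r) * (p * p) by rw [mul_assoc, ← mul_assoc p, ← hrp.eq]; simp only [mul_assoc],
        hrr, hpp, List.length_cons, pow_succ']
    · have h1 := hperp x.1 List.mem_cons_self
      have h3 := hperp x.2 (List.mem_cons_of_mem _ List.mem_cons_self)
      exact (disjoint_commute h2 hQ hn C c hc hcc hk hanti h5 hab h1.1 h3.1 h1.2 h3.2 hq hr).mul_right
        (hcomm a b q hab (fun s hs => hperp s (List.mem_cons_of_mem _ (List.mem_cons_of_mem _ hs))) hq)

/-- A lift of `-1` squares to the sign when there is an odd number of pairs. -/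
theorem exists_neg_lift (n : ℕ) (hd : finrank F V = 2 * (n + 1)) (hodd : Odd (n + 1))
    (hneg : negI Q ∈ commutator ↥(Iso Q)) :
    ∃ p : A, (C.π p).1 = negI Q ∧ p * p = c := by
  classical
  haveI := Fintype.ofFinite F
  obtain ⟨L, hlen, hL⟩ := exists_pairs h2 hQ n (by omega)
  obtain ⟨b, hb⟩ := exists_perp_vec h2 hQ hL (by rw [flat_length, hlen]; omega)
  have hbL := orth_cons h2 hQ hL hb
  set l := b :: flat L with hldef
  have hllen : l.length = 2 * n + 1 := by rw [hldef, List.length_cons, flat_length, hlen]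
  have hv : Pairwise fun i j => polar Q (l.get i).1 (l.get j).1 = 0 := fun i j hij => by
    rcases lt_or_gt_of_ne hij with h | h
    · exact List.pairwise_iff_get.mp hbL i j h
    · rw [polar_comm]; exact List.pairwise_iff_get.mp hbL j i h
  set S := Submodule.span F (Set.range fun i => (l.get i).1) with hSdef
  have hS := orth_nondeg h2 _ hv
  rw [← hSdef] at hS
  have hdS : finrank F S ≤ 2 * n + 1 := (finrank_range_le_card _).trans (by rw [Fintype.card_fin, hllen])
  obtain ⟨d, hdmem, hdne⟩ : ∃ d ∈ perp Q S, Q d ≠ 0 := by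
    by_contra hcon
    push Not at hcon
    have hpos : 0 < finrank F (perp Q S) := by rw [finrank_perp hQ]; omega
    obtain ⟨x, hx⟩ := Module.finrank_pos_iff_exists_ne_zero.mp hpos
    refine hx (Subtype.ext ?_)
    have hmem : (x : V) ∈ perp Q S ⊓ perp Q (perp Q S) := ⟨x.2, fun y hy => by
      show polar Q y (x : V) = 0
      have := hcon _ (add_mem hy x.2)
      rwa [map_two, hcon y hy, hcon x x.2, zero_add, zero_add] at this⟩
    rw [perp_perp hQ, inf_comm, hS, Submodule.mem_bot] at hmem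
    exact hmem
  have hdl : ∀ s ∈ l, polar Q d s.1 = 0 := fun s hs => by
    obtain ⟨i, rfl⟩ := List.mem_iff_get.mp hs
    rw [polar_comm]; exact hdmem _ (Submodule.subset_span ⟨i, rfl⟩)
  have htop : ∀ w : V, Q w ≠ 0 → (∀ s ∈ l, polar Q w s.1 = 0) → ∀ x,
      (∀ v ∈ w :: l.map (fun v => v.1), polar Q v x = 0) → x = 0 := fun w hw hwl x hx => by
    have hxS : x ∈ perp Q S := mem_perp_span.mpr fun v ⟨i, e⟩ => e ▸
      hx _ (List.mem_cons_of_mem _ (List.mem_map.mpr ⟨_, List.get_mem l i, rfl⟩))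
    have hwS : w ∈ perp Q S := mem_perp_span.mpr fun v ⟨i, e⟩ => e ▸ by
      rw [polar_comm]; exact hwl _ (List.get_mem l i)
    have hdim : finrank F (perp Q S) = 1 := by
      have h1 := finrank_perp hQ S
      have hle : Submodule.span F {w} ≤ perp Q S := Submodule.span_le.mpr (by simpa using hwS)
      have hli : LinearIndependent F fun i => (l.get i).1 := by
        rw [Fintype.linearIndependent_iff]
        intro g hg i
        have h := congrArg (polarBilin Q (l.get i).1) hg
        rw [map_sum, map_zero, Finset.sum_eq_single i (fun j _ hj => by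
          rw [map_smul, polarBilin_apply_apply, hv hj.symm, smul_zero]) (fun h => absurd (Finset.mem_univ i) h),
          map_smul, polarBilin_apply_apply, polar_self_two, (l.get i).2, smul_eq_mul, mul_one] at h
        exact (mul_eq_zero.mp h).resolve_right h2
      have h3 : finrank F S = 2 * n + 1 := (finrank_span_eq_card hli).trans (by rw [Fintype.card_fin, hllen])
      omega
    have hw0 : (⟨w, hwS⟩ : perp Q S) ≠ 0 := fun e => hw (by
      rw [show w = 0 from congrArg Subtype.val e, QuadraticMap.map_zero])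
    obtain ⟨t, ht⟩ := (finrank_eq_one_iff_of_nonzero' _ hw0).mp hdim ⟨x, hxS⟩
    have hxt : t • w = x := congrArg Subtype.val ht
    have h0 := hx w List.mem_cons_self
    rw [← hxt, polar_smul_right, polar_self_two, smul_eq_mul] at h0
    rw [← hxt, (mul_eq_zero.mp h0).resolve_right (mul_ne_zero h2 hw), zero_smul]
  have hpw : ∀ w : V, (∀ s ∈ l, polar Q w s.1 = 0) →
      (w :: l.map (fun v => v.1)).Pairwise fun v v' => polar Q v v' = 0 := fun w hw =>
    List.pairwise_cons.mpr ⟨fun v hv => by obtain ⟨s, hs, rfl⟩ := List.mem_map.mp hv; exact hw s hs,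
      List.pairwise_map.mpr hbL⟩
  have hns : ∀ w : V, Q w ≠ 0 → ∀ v ∈ w :: l.map (fun v => v.1), Q v ≠ 0 := fun w hw v hv => by
    rcases List.mem_cons.mp hv with rfl | hv
    · exact hw
    · obtain ⟨s, -, rfl⟩ := List.mem_map.mp hv
      exact s.2.symm ▸ one_ne_zero
  obtain ⟨-, hsq⟩ := (negI_mem_iff h2 hQ hn _ (hns d hdne) (hpw d hdl) (htop d hdne hdl)).mp hneg
  have hone : (((l.map fun v => v.1)).map fun w => Q w).prod = 1 := by
    refine List.prod_eq_one fun y hy => ?_
    obtain ⟨v, hv, rfl⟩ := List.mem_map.mp hy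
    obtain ⟨s, -, rfl⟩ := List.mem_map.mp hv
    exact s.2
  rw [List.map_cons, List.prod_cons, hone, mul_one] at hsq
  obtain ⟨r, hr⟩ := hsq
  have hr0 : r ≠ 0 := fun e => hdne (by rw [hr, e, mul_zero])
  let a : Vec Q := ⟨r⁻¹ • d, by rw [QuadraticMap.map_smul, hr, smul_eq_mul]; field_simp⟩
  have hal : ∀ s ∈ l, polar Q a.1 s.1 = 0 := fun s hs => by
    show polar Q (r⁻¹ • d) s.1 = 0
    rw [polar_smul_left, hdl s hs, smul_zero]
  have hL2 : Orth (flat ((a, b) :: L)) := orth_cons h2 hQ hbL hal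
  obtain ⟨p, hp, hpp, -⟩ := exists_lift h2 hQ hn C c hc hcc hk hanti h5 _ hL2
  refine ⟨p, ?_, ?_⟩
  · rw [hp, pairsEl_val]
    have ha0 : Q a.1 ≠ 0 := a.2.symm ▸ one_ne_zero
    exact prod_rf_eq_neg h2 _ (hns a.1 ha0) (hpw a.1 hal) (htop a.1 ha0 hal)
  · rw [hpp, List.length_cons, hlen]
    obtain ⟨k, hk'⟩ := hodd
    rw [hk', pow_succ, pow_mul, pow_two, hcc, one_pow, one_mul]

end Chains

variable {F : Type u} [Field F] {m : ℕ}

variable (F) in
/-- The form of minus type. -/
noncomputable abbrev QM (m : ℕ) (a b : F) : QuadraticForm F ((Fin m ⊕ Fin m) ⊕ Fin 2 → F) :=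
  formOf m (Equiv.refl ((Fin m ⊕ Fin m) ⊕ Fin 2)) (planeForm a b)

theorem QM_apply [Fintype F] (a b : F) (v : (Fin m ⊕ Fin m) ⊕ Fin 2 → F) :
    QM F m a b v = (∑ i : Fin m, v (.inl (.inl i)) * v (.inl (.inr i))) +
      (v (.inr 0) ^ 2 + a * v (.inr 0) * v (.inr 1) + b * v (.inr 1) ^ 2) :=
  congrFun (coe_minus m a b) v

theorem finrank_QM : finrank F ((Fin m ⊕ Fin m) ⊕ Fin 2 → F) = 2 * (m + 1) := by
  rw [Module.finrank_fintype_fun_eq_card]; simp; omega

/-- The base vector. -/
noncomputable def baseM [Fintype F] (m : ℕ) (a b : F) : Vec (QM F m a b) :=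
  ⟨Pi.single (.inr 0) 1, by rw [QM_apply]; simp⟩

theorem polar_baseM [Fintype F] (a b : F) (x : (Fin m ⊕ Fin m) ⊕ Fin 2 → F) :
    polar (QM F m a b) (baseM m a b).1 x = 2 * x (.inr 0) + a * x (.inr 1) := by
  show QM F m a b ((baseM m a b).1 + x) - QM F m a b (baseM m a b).1 - QM F m a b x = _
  rw [(baseM m a b).2, QM_apply, QM_apply]
  simp [baseM]
  ring

theorem mem_baseM_perp [Fintype F] (a b : F) {x : (Fin m ⊕ Fin m) ⊕ Fin 2 → F} :
    x ∈ perp (QM F m a b) (Submodule.span F {(baseM m a b).1}) ↔ 2 * x (.inr 0) + a * x (.inr 1) = 0 := by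
  rw [mem_perp_span]
  simp [polar_baseM]

/-- The perpendicular space of the base vector is similar to the odd space. -/
noncomputable def minusCoord [Fintype F] (h2 : (2 : F) ≠ 0) (a b : F) {d : F} (hd : d ≠ 0) :
    (Unit ⊕ (Fin m ⊕ Fin m) → F) ≃ₗ[F] perp (QM F m a b) (Submodule.span F {(baseM m a b).1}) where
  toFun x := ⟨Sum.elim (Sum.elim (fun i => d * x (.inr (.inl i))) fun i => x (.inr (.inr i)))
    ![-(a / 2) * x (.inl ()), x (.inl ())], (mem_baseM_perp a b).mpr (by simp; field_simp; ring)⟩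
  map_add' x y := Subtype.ext (funext fun k => by rcases k with (i | i) | j <;> [skip; skip; fin_cases j] <;> simp <;> ring)
  map_smul' c x := Subtype.ext (funext fun k => by rcases k with (i | i) | j <;> [skip; skip; fin_cases j] <;> simp <;> ring)
  invFun y := Sum.elim (fun _ => y.1 (.inr 1))
    (Sum.elim (fun i => d⁻¹ * y.1 (.inl (.inl i))) fun i => y.1 (.inl (.inr i)))
  left_inv x := funext fun k => by rcases k with u | i | i <;> simp [hd]
  right_inv y := Subtype.ext (funext fun k => by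
    have h := (mem_baseM_perp a b).mp y.2
    rcases k with (i | i) | j
    · simp [hd]
    · simp
    · fin_cases j
      · simp
        field_simp
        linear_combination -h
      · simp)

theorem disc_ne [Fintype F] (h2 : (2 : F) ≠ 0) {a b : F}
    (hab : ∀ z₁ z₂ : F, z₁ ^ 2 + a * z₁ * z₂ + b * z₂ ^ 2 = 0 → z₁ = 0 ∧ z₂ = 0) : b - a ^ 2 / 4 ≠ 0 := by
  intro h
  have h4 : (4 : F) ≠ 0 := by rw [show (4 : F) = 2 * 2 by norm_num]; exact mul_ne_zero h2 h2
  refine one_ne_zero (hab (-(a / 2)) 1 ?_).2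
  field_simp at h ⊢
  linear_combination h

variable (a b : F) in
/-- The minus space inside a space of plus type. -/
noncomputable def minusIncl : ((Fin m ⊕ Fin m) ⊕ Fin 2 → F) →ₗ[F] (Fin (m + 2) ⊕ Fin (m + 2) → F) where
  toFun x := Sum.elim (Fin.snoc (Fin.snoc (fun i => x (.inl (.inl i))) (x (.inr 0))) (x (.inr 1)))
    (Fin.snoc (Fin.snoc (fun i => x (.inl (.inr i))) (x (.inr 0) + a * x (.inr 1))) (b * x (.inr 1)))
  map_add' x y := funext fun k => by
    rcases k with i | i <;> (refine Fin.lastCases ?_ (fun j => Fin.lastCases ?_ (fun j' => ?_) j) i) <;>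
      simp <;> ring
  map_smul' c x := funext fun k => by
    rcases k with i | i <;> (refine Fin.lastCases ?_ (fun j => Fin.lastCases ?_ (fun j' => ?_) j) i) <;>
      simp <;> ring

theorem minusIncl_val [Fintype F] (a b : F) (x : (Fin m ⊕ Fin m) ⊕ Fin 2 → F) :
    QP F (m + 2) (minusIncl a b x) = QM F m a b x := by
  rw [QP_apply, QM_apply, Fin.sum_univ_castSucc, Fin.sum_univ_castSucc]
  simp [minusIncl]
  ring

theorem minusIncl_injective (a b : F) : Function.Injective (minusIncl (m := m) a b) := fun x y h => by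
  have hl : ∀ i, minusIncl a b x (.inl i) = minusIncl a b y (.inl i) := fun i => congrFun h _
  have hr : ∀ i, minusIncl a b x (.inr i) = minusIncl a b y (.inr i) := fun i => congrFun h _
  funext k
  rcases k with (i | i) | j
  · simpa [minusIncl] using hl i.castSucc.castSucc
  · simpa [minusIncl] using hr i.castSucc.castSucc
  · fin_cases j
    · simpa [minusIncl] using hl (Fin.last m).castSucc
    · simpa [minusIncl] using hl (Fin.last (m + 1))

/-- The bound in minus type apart from the smallest case. -/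
theorem minus_bound [Fintype F] (h2 : (2 : F) ≠ 0) {a b : F}
    (hab : ∀ z₁ z₂ : F, z₁ ^ 2 + a * z₁ * z₂ + b * z₂ ^ 2 = 0 → z₁ = 0 ∧ z₂ = 0) (hm : 3 ≤ m)
    (hq : 5 ≤ Nat.card F ∨ 4 ≤ m) {Γ : Type u} [Group Γ] (C : Central Γ ↥(Gr (QM F m a b)))
    (hΓ : commutator Γ = ⊤) :
    ∃ g ∈ C.π.ker, g * g = 1 ∧ ∀ k ∈ C.π.ker, k = 1 ∨ k = g := by
  have hd := disc_ne h2 hab
  have hR : PND (QM F m a b) := formOf_pnd (pnd_plane hab)
  have hn : 7 ≤ finrank F ((Fin m ⊕ Fin m) ⊕ Fin 2 → F) := by rw [finrank_QM]; omega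
  let e := stabEquiv h2 hR (baseM m a b) (by omega) (minusCoord h2 a b hd) hd (P := QO F m) (fun x => by
    rw [QM_apply, QO_apply]
    simp [minusCoord, Finset.mul_sum, mul_add]
    have h4 : (4 : F) ≠ 0 := by rw [show (4 : F) = 2 * 2 by norm_num]; exact mul_ne_zero h2 h2
    rw [add_comm]
    congr 1
    · field_simp; ring
    · exact Finset.sum_congr rfl fun i _ => by ring)
  exact ker_le_of_stab h2 hR (baseM m a b) hn (Or.inr (by rw [finrank_QM]; omega)) e
    (fun C' hC' => odd_ker_le_two h2 hm hq C' hC') C hΓ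

set_option maxHeartbeats 1000000 in
/-- The multiplier in minus type from the bound. -/
theorem pomega_minus_odd [Fintype F] (hodd : Odd (Fintype.card F)) {a b : F}
    (hab : ∀ z₁ z₂ : F, z₁ ^ 2 + a * z₁ * z₂ + b * z₂ ^ 2 = 0 → z₁ = 0 ∧ z₂ = 0) (hm : 3 ≤ m)
    (bound : ∀ {Γ : Type u} [Group Γ] (C : Central Γ ↥(Gr (QM F m a b))), commutator Γ = ⊤ →
      ∃ g ∈ C.π.ker, g * g = 1 ∧ ∀ k ∈ C.π.ker, k = 1 ∨ k = g) :
    Cfsg.HasCyclicSchurMultiplier (Cfsg.POmega F (Cfsg.quadFormMinus m F a b))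
      (Nat.gcd 4 (Fintype.card F ^ (m + 1) + 1)) := by
  classical
  have h2 := two_ne_of_odd hodd
  have hP := pnd_plane hab
  have hQ : PND (QM F m a b) := formOf_pnd hP
  have hn5 : 5 ≤ finrank F ((Fin m ⊕ Fin m) ⊕ Fin 2 → F) := by rw [finrank_QM]; omega
  have hn2 : 2 ≤ finrank F ((Fin m ⊕ Fin m) ⊕ Fin 2 → F) := by omega
  obtain ⟨A, _, _, C, c, hA, hc1, hcc, hc, hk, hanti⟩ :=
    exists_double_cover (l := m) h2 (by omega) hQ hn2 hn5 (minusIncl a b)
      (minusIncl_injective a b) (minusIncl_val a b)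
  let Z := Subgroup.center ↥(Gr (QM F m a b))
  let ε : (↥(Gr (QM F m a b)) ⧸ Z) ≃* Cfsg.POmega F (Cfsg.quadFormMinus m F a b) :=
    coe_minus (F := F) m a b ▸ pOmegaEquiv (QM F m a b)
  let mk : ↥(Gr (QM F m a b)) →* Cfsg.POmega F (Cfsg.quadFormMinus m F a b) :=
    ε.toMonoidHom.comp (QuotientGroup.mk' Z)
  have hmk : Function.Surjective mk := ε.surjective.comp (QuotientGroup.mk'_surjective Z)
  have hmker : ∀ g, mk g = 1 ↔ g ∈ Z := fun g => by
    show ε (QuotientGroup.mk' Z g) = 1 ↔ _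
    rw [map_eq_one_iff _ ε.injective, QuotientGroup.mk'_apply, QuotientGroup.eq_one_iff]
  let κ := mk.comp C.π
  have hκ : Function.Surjective κ := hmk.comp C.surj
  have hκc : κ.ker ≤ Subgroup.center A := by
    intro x hx
    have hxZ : C.π x ∈ Z := (hmker _).mp hx
    rw [Subgroup.mem_center_iff]
    intro y
    refine commutatorElement_eq_one_iff_mul_comm.mp ?_
    have hy : y ∈ commutator A := hA.symm ▸ Subgroup.mem_top y
    rw [commutator_eq_closure] at hy
    induction hy using Subgroup.closure_induction with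
    | mem w hw =>
      obtain ⟨s, t, rfl⟩ := hw
      refine commutatorElement_eq_one_iff_mul_comm.mpr (C.commute_comm ?_ ?_).eq.symm <;>
        exact ((Subgroup.mem_center_iff.1 hxZ) _).symm
    | one => exact commutatorElement_one_left _
    | mul s t _ _ hs ht =>
      rw [commutatorElement_eq_one_iff_mul_comm] at hs ht ⊢
      exact (show Commute s x from hs).mul_left ht
    | inv s _ hs =>
      rw [commutatorElement_eq_one_iff_mul_comm] at hs ⊢
      exact (show Commute s x from hs).inv_left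
  set n := Nat.gcd 4 (Fintype.card F ^ (m + 1) + 1) with hndef
  have hqodd := Nat.odd_iff.mp (hodd.pow (n := m + 1))
  have hneg : negI (QM F m a b) ∈ commutator ↥(Iso (QM F m a b)) ↔ Fintype.card F ^ (m + 1) % 4 = 3 :=
    negI_minus hodd (m := m + 1) (by omega) a b hab
  have hZ : Nat.card ↥Z = if Fintype.card F ^ (m + 1) % 4 = 3 then 2 else 1 := by
    refine (card_center_standard (e := Equiv.refl ((Fin m ⊕ Fin m) ⊕ Fin 2)) hP (by omega)
      (by simp; omega)).trans ?_
    exact if_congr (by rw [hneg]; exact ⟨fun h => h.1, fun h => ⟨h, h2⟩⟩) rfl rfl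
  have hn : n = if Fintype.card F ^ (m + 1) % 4 = 3 then 4 else 2 := by
    split_ifs with h
    · rw [hndef, Nat.gcd_eq_left]; omega
    · rw [hndef, Nat.gcd_rec, show (Fintype.card F ^ (m + 1) + 1) % 4 = 2 by omega]; rfl
  have hkcard : Nat.card ↥C.π.ker = 2 := by
    rw [Nat.card_eq_two_iff]
    refine ⟨⟨1, one_mem _⟩, ⟨c, hc⟩, fun h => hc1 (congrArg Subtype.val h).symm, Set.eq_univ_of_forall fun x => ?_⟩
    rcases hk x.1 x.2 with h | h
    · exact Or.inl (Subtype.ext h)
    · exact Or.inr (Subtype.ext h)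
  have hcard : Nat.card ↥κ.ker = n := by
    have hmap : κ.ker.map C.π = Z := by
      ext g
      refine ⟨fun ⟨x, hx, e⟩ => e ▸ (hmker _).mp hx, fun hg => ?_⟩
      obtain ⟨x, rfl⟩ := C.surj g
      exact ⟨x, (hmker _).mpr hg, rfl⟩
    let res : ↥κ.ker →* ↥Z := (C.π.comp κ.ker.subtype).codRestrict Z fun x => (hmker _).mp x.2
    have hres : Function.Surjective res := fun g => by
      obtain ⟨x, hx, e⟩ := hmap.ge g.2
      exact ⟨⟨x, hx⟩, Subtype.ext e⟩
    have hresk : Nat.card ↥res.ker = 2 := by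
      refine Eq.trans (Nat.card_congr
        { toFun := fun x => ⟨x.1.1, congrArg Subtype.val (show res x.1 = 1 from x.2)⟩
          invFun := fun x => ⟨⟨x.1, (hmker _).mpr (by rw [show C.π x.1 = 1 from x.2]; exact one_mem _)⟩, Subtype.ext x.2⟩
          left_inv := fun _ => rfl
          right_inv := fun _ => rfl }) hkcard
    have h := Subgroup.card_mul_index res.ker
    rw [Subgroup.index_ker, MonoidHom.range_eq_top.mpr hres, Subgroup.card_top, hresk, hZ] at h
    rw [← h, hn]
    split_ifs <;> rfl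
  have hcyc : IsCyclic ↥κ.ker := by
    by_cases h : Fintype.card F ^ (m + 1) % 4 = 3
    · rw [if_pos h] at hn
      have hmodd : Odd (m + 1) := by
        by_contra he
        rw [Nat.not_odd_iff_even] at he
        obtain ⟨k, hk'⟩ := he
        rw [hk', ← two_mul, pow_mul] at h
        have : Fintype.card F ^ 2 % 4 = 1 := by
          rw [Nat.pow_mod]
          rcases (show Fintype.card F % 4 = 1 ∨ Fintype.card F % 4 = 3 by
            have := Nat.odd_iff.mp hodd; omega) with e | e <;> rw [e]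
        rw [Nat.pow_mod, this, one_pow] at h
        norm_num at h
      obtain ⟨p, hp, hpp⟩ := exists_neg_lift h2 hQ hn2 C c hc hcc hk hanti hn5 m finrank_QM hmodd (hneg.mpr h)
      have hpk : p ∈ κ.ker := by
        refine (hmker _).mpr ?_
        rw [Subgroup.mem_center_iff]
        intro g
        refine Subtype.ext (Subtype.ext (LinearEquiv.ext fun x => ?_))
        show g.1.1 ((C.π p).1.1 x) = (C.π p).1.1 (g.1.1 x)
        rw [hp, negI_apply, negI_apply, map_neg]
      haveI : Finite ↥κ.ker := inferInstance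
      refine isCyclic_of_orderOf_eq_card ⟨p, hpk⟩ ?_
      rw [hcard, hn, show (4 : ℕ) = 2 ^ (1 + 1) by norm_num]
      refine orderOf_eq_prime_pow (fun e => hc1 ?_) ?_
      · rw [← hpp]; simpa [pow_two] using congrArg Subtype.val e
      · have := pow_card_eq_one' (G := ↥κ.ker) (x := ⟨p, hpk⟩)
        rw [hcard, hn] at this
        exact this
    · rw [if_neg h] at hn
      haveI : Fact (Nat.Prime 2) := ⟨Nat.prime_two⟩
      exact isCyclic_of_prime_card (hcard.trans hn)
  have hperf : commutator (Cfsg.POmega F (Cfsg.quadFormMinus m F a b)) = ⊤ := by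
    rw [← top_le_iff, ← Subgroup.map_top_of_surjective κ hκ, ← hA, commutator_def, commutator_def,
      Subgroup.map_commutator]
    exact Subgroup.commutator_mono le_top le_top
  haveI := hcyc
  let eA : ↥κ.ker ≃* Multiplicative (ZMod n) :=
    mulEquivOfCyclicCardEq (by rw [hcard, Nat.card_congr Multiplicative.toAdd, Nat.card_zmod])
  refine ⟨⟨A, inferInstance, inferInstance, κ, ⟨hκ, hκc, hA.symm ▸ le_top⟩, ⟨eA⟩⟩, fun Γ _ _ σ hσ => ?_⟩
  let E0 : Subgroup (Γ × ↥(Gr (QM F m a b))) := (σ.comp (MonoidHom.fst _ _)).eqLocus (mk.comp (MonoidHom.snd _ _))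
  let CP : Central ↥E0 ↥(Gr (QM F m a b)) :=
  { π := (MonoidHom.snd _ _).comp E0.subtype
    surj := fun g => by
      obtain ⟨x, hx⟩ := hσ.1 (mk g)
      exact ⟨⟨(x, g), hx⟩, rfl⟩
    central := fun x hx => by
      have h1 : x.1.2 = 1 := hx
      have h3 : σ x.1.1 = 1 := by rw [show σ x.1.1 = mk x.1.2 from x.2, h1, map_one]
      rw [Subgroup.mem_center_iff]
      exact fun y => Subtype.ext (Prod.ext (Subgroup.mem_center_iff.1 (hσ.2.1 h3) _)
        (by show y.1.2 * x.1.2 = x.1.2 * y.1.2; rw [h1, mul_one, one_mul])) }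
  obtain ⟨ρ, hρ⟩ := cover_universal C hA c hc hc1 bound CP
  let f : A →* Γ := ((MonoidHom.fst _ _).comp E0.subtype).comp ρ
  have hf : ∀ x, σ (f x) = κ x := fun x =>
    ((ρ x).2 : σ (ρ x).1.1 = mk (ρ x).1.2).trans (congrArg mk (DFunLike.congr_fun hρ x))
  have hΓ : commutator Γ = ⊤ := by
    rw [eq_top_iff]
    intro g _
    obtain ⟨h, hh, hgh⟩ : σ g ∈ (commutator Γ).map σ := by
      rw [commutator_def, Subgroup.map_commutator, Subgroup.map_top_of_surjective σ hσ.1, ← commutator_def, hperf]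
      exact Subgroup.mem_top _
    have : h⁻¹ * g ∈ σ.ker := by rw [MonoidHom.mem_ker, map_mul, map_inv, hgh, inv_mul_cancel]
    simpa using mul_mem hh (hσ.2.2 this)
  have hfs : Function.Surjective f := by
    rw [← MonoidHom.range_eq_top, eq_top_iff, ← hΓ]
    exact SchurSLFinal.commutator_le_range ⟨σ, hσ.1, hσ.2.1⟩ κ hκ f (MonoidHom.ext hf)
  let g : ↥κ.ker →* ↥σ.ker :=
    (f.comp κ.ker.subtype).codRestrict _ fun x => by
      rw [MonoidHom.mem_ker]
      exact (hf x.1).trans x.2
  refine ⟨g.comp eA.symm.toMonoidHom, fun k => ?_⟩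
  obtain ⟨s, hs⟩ := hfs k.1
  have hs' : s ∈ κ.ker := by rw [MonoidHom.mem_ker, ← hf, hs]; exact k.2
  refine ⟨eA ⟨s, hs'⟩, Subtype.ext ?_⟩
  show f ((eA.symm (eA ⟨s, hs'⟩)).1) = k.1
  rw [eA.symm_apply_apply]
  exact hs

end Cfsg.Agent.Small.OrthCover
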