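import Cfsg.Agent.Lib.Small.OrthCover.EvenStab
import Cfsg.Agent.Lib.Small.OrthCover.Minus
import Cfsg.Agent.Lib.Classical.OrthCharTwoSp
import Cfsg.Agent.Lib.Small.SpPres.Model

/-!
The minus form in characteristic two: its scalar, and the stabiliser of the base vector as a symplectic group.
-/

set_option autoImplicit false
set_option linter.unusedSectionVars false

namespace Cfsg.Agent.Small.OrthCover

open Module QuadraticMap MulAction Cfsg.Agent.Classical.OCount Cfsg.Agent.Classical.ORefl Cfsg.Agent.Classical.OOmega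
open scoped commutatorElement

universe u

variable {F : Type u} [Field F] [Fintype F] [CharP F 2] {m : ℕ} {a b : F}
  (hab : ∀ z₁ z₂ : F, z₁ ^ 2 + a * z₁ * z₂ + b * z₂ ^ 2 = 0 → z₁ = 0 ∧ z₂ = 0)
include hab

theorem a_ne_zero : a ≠ 0 := fun h => by
  obtain ⟨s, hs⟩ := FiniteField.isSquare_of_char_two (ringChar.eq F 2) b
  exact one_ne_zero (hab s 1 (by
    rw [h]
    linear_combination hs + s * s * (CharTwo.two_eq_zero (R := F)))).2

theorem b_ne_zero : b ≠ 0 := fun h => one_ne_zero (hab 0 1 (by rw [h]; ring)).2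

omit hab in
theorem polar_QM (x y : (Fin m ⊕ Fin m) ⊕ Fin 2 → F) :
    polar (QM F m a b) x y =
      Cfsg.Agent.Classical.OrthTwo.bil (fun i => x (.inl i)) (fun i => y (.inl i)) +
        a * (x (.inr 0) * y (.inr 1) + x (.inr 1) * y (.inr 0)) := by
  simp only [polar, QM_apply, Pi.add_apply, Cfsg.Agent.Classical.OrthTwo.bil, add_mul, mul_add, Finset.sum_add_distrib,
    CharTwo.sub_eq_add, CharTwo.add_sq]
  rw [Finset.sum_congr rfl fun i _ => mul_comm (x (.inl (.inr i))) (y (.inl (.inl i)))]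
  ring_nf
  simp [CharTwo.two_eq_zero]

/-- The second vector of the base pair. -/
theorem exists_second : ∃ w : Vec (QM F m a b), ∃ t, t ≠ 0 ∧ w.1 = Pi.single (.inr 1) t := by
  obtain ⟨t, ht⟩ := FiniteField.isSquare_of_char_two (ringChar.eq F 2) b⁻¹
  have hb := b_ne_zero hab
  have ht0 : t ≠ 0 := fun e => inv_ne_zero hb (by rw [ht, e, mul_zero])
  refine ⟨⟨Pi.single (.inr 1) t, ?_⟩, t, ht0, rfl⟩
  rw [QM_apply]
  simp [pow_two, ← ht, mul_inv_cancel₀ hb]

/-- The scalar. -/
theorem exists_scalar (hm : 3 ≤ m) : ∃ c, Scalar (QM F m a b) c := by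
  obtain ⟨w, t, ht, hw⟩ := exists_second hab (m := m)
  have hR : PND (QM F m a b) := formOf_pnd (pnd_plane hab)
  have ha := a_ne_zero hab
  have hc : polar (QM F m a b) (baseM m a b).1 w.1 = a * t := by
    rw [polar_QM, hw]; simp [baseM, Cfsg.Agent.Classical.OrthTwo.bil]
  refine ⟨a * t, hR, by rw [finrank_QM]; omega, mul_ne_zero ha ht, ⟨_, _, hc⟩, fun x y hxy => ?_⟩
  have li : ∀ p q : Vec (QM F m a b), polar (QM F m a b) p.1 q.1 = a * t → LinearIndependent F ![p.1, q.1] := by
    intro p q hpq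
    rw [LinearIndependent.pair_iff]
    intro s r h
    have hp := congrArg (fun z => polar (QM F m a b) p.1 z) h
    simp only [polar_add_right, polar_smul_right, hpq, polar_self_char_two, smul_eq_mul, polar_zero_right, mul_zero,
      zero_add] at hp
    have hr := (mul_eq_zero.mp hp).resolve_right (mul_ne_zero ha ht)
    rw [hr, zero_smul, add_zero] at h
    exact ⟨(smul_eq_zero.mp h).resolve_right (ne_zero p), hr⟩
  obtain ⟨g, hg⟩ := witt_fin hR (li _ _ hc) (li _ _ hxy)
    (fun i => by fin_cases i <;> simp [(baseM m a b).2, w.2, x.2, y.2]) (fun i j => by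
      fin_cases i <;> fin_cases j <;>
        simp [polar_self_char_two, CharTwo.two_eq_zero, hc, hxy, polar_comm (QM F m a b) y.1 x.1,
          polar_comm (QM F m a b) w.1 (baseM m a b).1])
  have hx : g.1 (baseM m a b).1 = x.1 := hg 0
  have hy : g.1 w.1 = y.1 := hg 1
  let P := stdPairs (Equiv.refl ((Fin m ⊕ Fin m) ⊕ Fin 2)) (planeForm a b) hm
  have hP : ∀ v ∈ [P.e, P.f, P.w, P.w', P.u, P.z],
      polar (QM F m a b) (baseM m a b).1 v = 0 ∧ polar (QM F m a b) w.1 v = 0 := by
    intro v hv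
    simp only [List.mem_cons, List.not_mem_nil, or_false] at hv
    rcases hv with rfl | rfl | rfl | rfl | rfl | rfl <;>
      (rw [polar_QM, polar_QM, hw]; simp [P, stdPairs, bv, baseM, Cfsg.Agent.Classical.OrthTwo.bil])
  have pi := polar_iso (Q := QM F m a b) g.2
  refine ⟨{ e := g.1 P.e, f := g.1 P.f, w := g.1 P.w, w' := g.1 P.w', u := g.1 P.u, z := g.1 P.z
            hp := ⟨(g.2 _).trans P.hp.1, (g.2 _).trans P.hp.2.1, (pi _ _).trans P.hp.2.2⟩
            hq := ⟨(g.2 _).trans P.hq.1, (g.2 _).trans P.hq.2.1, (pi _ _).trans P.hq.2.2⟩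
            hs := ⟨(g.2 _).trans P.hs.1, (g.2 _).trans P.hs.2.1, (pi _ _).trans P.hs.2.2⟩
            ew := (pi _ _).trans P.ew, ew' := (pi _ _).trans P.ew', fw := (pi _ _).trans P.fw,
            fw' := (pi _ _).trans P.fw', eu := (pi _ _).trans P.eu, ez := (pi _ _).trans P.ez,
            fu := (pi _ _).trans P.fu, fz := (pi _ _).trans P.fz, wu := (pi _ _).trans P.wu,
            wz := (pi _ _).trans P.wz, w'u := (pi _ _).trans P.w'u, w'z := (pi _ _).trans P.w'z }, fun v hv => ?_⟩
  rw [← hx, ← hy]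
  simp only [List.mem_cons, List.not_mem_nil, or_false] at hv
  rcases hv with rfl | rfl | rfl | rfl | rfl | rfl <;>
    exact ⟨(pi _ _).trans (hP _ (by simp)).1, (pi _ _).trans (hP _ (by simp)).2⟩

omit hab in
/-- The hyperplane of the base vector as a symplectic space with a radical line. -/
theorem mem_base_perp_two {a' : F} (ha : a' ≠ 0) {b' : F} {x : (Fin m ⊕ Fin m) ⊕ Fin 2 → F} :
    x ∈ perp (QM F m a' b') (Submodule.span F {(baseM m a' b').1}) ↔ x (.inr 1) = 0 := by
  rw [mem_baseM_perp, CharTwo.two_eq_zero, zero_mul, zero_add, mul_eq_zero]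
  exact ⟨fun h => h.resolve_left ha, Or.inr⟩

/-- Coordinates on the hyperplane. -/
noncomputable def hypCoord :
    (Unit ⊕ (Fin m ⊕ Fin m) → F) ≃ₗ[F] perp (QM F m a b) (Submodule.span F {(baseM m a b).1}) where
  toFun x := ⟨Sum.elim (fun i => x (.inr i)) ![x (.inl ()), 0],
    (mem_base_perp_two (a_ne_zero hab)).mpr (by simp)⟩
  map_add' x y := Subtype.ext (funext fun k => by rcases k with i | j <;> [skip; fin_cases j] <;> simp)
  map_smul' c x := Subtype.ext (funext fun k => by rcases k with i | j <;> [skip; fin_cases j] <;> simp)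
  invFun y := Sum.elim (fun _ => y.1 (.inr 0)) fun i => y.1 (.inl i)
  left_inv x := funext fun k => by rcases k with u | i <;> simp
  right_inv y := Subtype.ext (funext fun k => by
    have h := (mem_base_perp_two (a_ne_zero hab)).mp y.2
    rcases k with i | j
    · simp
    · fin_cases j
      · simp
      · simp [h])

theorem hypCoord_apply (x : Unit ⊕ (Fin m ⊕ Fin m) → F) :
    ((hypCoord hab x).1 : (Fin m ⊕ Fin m) ⊕ Fin 2 → F) = Sum.elim (fun i => x (.inr i)) ![x (.inl ()), 0] := rfl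

theorem hypCoord_value (x : Unit ⊕ (Fin m ⊕ Fin m) → F) :
    sub (QM F m a b) (perp (QM F m a b) (Submodule.span F {(baseM m a b).1})) (hypCoord hab x) =
      1 * Cfsg.Agent.Classical.OrthTwo.Qo F m x := by
  show QM F m a b (hypCoord hab x).1 = _
  rw [hypCoord_apply, QM_apply, one_mul, congrFun (coe_odd (F := F) m)]
  simp [Cfsg.quadFormOdd]
  ring

omit hab in
theorem base_mem_perp : (baseM m a b).1 ∈ perp (QM F m a b) (Submodule.span F {(baseM m a b).1}) := by
  rw [mem_perp_span]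
  simp [polar_self_two, CharTwo.two_eq_zero]

omit hab in
theorem stab_maps {g : ↥(Iso (QM F m a b))} (hg : g.1 (baseM m a b).1 = (baseM m a b).1)
    {x : (Fin m ⊕ Fin m) ⊕ Fin 2 → F} (hx : x ∈ perp (QM F m a b) (Submodule.span F {(baseM m a b).1})) :
    g.1 x ∈ perp (QM F m a b) (Submodule.span F {(baseM m a b).1}) := by
  rw [mem_perp_span] at hx ⊢
  intro v hv
  rw [Set.mem_singleton_iff.mp hv, ← hg, polar_iso g.2]
  exact hx _ rfl

omit hab in
variable (m a b) in
/-- The restriction to the hyperplane. -/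
noncomputable def restr : ↥(stabilizer ↥(Gr (QM F m a b)) (baseM m a b)) →*
    ↥(Iso (sub (QM F m a b) (perp (QM F m a b) (Submodule.span F {(baseM m a b).1})))) where
  toFun g := ⟨LinearEquiv.ofLinear
      ((g.1.1.1 : _ ≃ₗ[F] _).toLinearMap.restrict fun x hx => stab_maps ((fix_iff g.1 _).mp g.2) hx)
      (((g⁻¹).1.1.1 : _ ≃ₗ[F] _).toLinearMap.restrict fun x hx => stab_maps ((fix_iff (g⁻¹).1 _).mp (g⁻¹).2) hx)
      (LinearMap.ext fun x => Subtype.ext (g.1.1.1.apply_symm_apply x.1))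
      (LinearMap.ext fun x => Subtype.ext (g.1.1.1.symm_apply_apply x.1)),
    fun x => g.1.1.2 x.1⟩
  map_one' := Subtype.ext (LinearEquiv.ext fun x => Subtype.ext rfl)
  map_mul' g h := Subtype.ext (LinearEquiv.ext fun x => Subtype.ext rfl)

theorem restr_injective (hm : 3 ≤ m) : Function.Injective (restr m a b) := by
  rw [injective_iff_map_eq_one]
  intro g hg
  have hR : PND (QM F m a b) := formOf_pnd (pnd_plane hab)
  have hfix : ∀ x ∈ perp (QM F m a b) (Submodule.span F {(baseM m a b).1}), g.1.1.1 x = x := fun x hx =>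
    congrArg Subtype.val (LinearEquiv.congr_fun (congrArg Subtype.val hg) ⟨x, hx⟩)
  obtain ⟨w, t, ht, hw⟩ := exists_second hab (m := m)
  have hd : g.1.1.1 w.1 - w.1 ∈ perp (QM F m a b) (perp (QM F m a b) (Submodule.span F {(baseM m a b).1})) := by
    intro x hx
    show polar (QM F m a b) x (g.1.1.1 w.1 - w.1) = 0
    rw [polar_sub_right]
    conv_lhs => arg 1; rw [← hfix x hx, polar_iso g.1.1.2]
    exact sub_self _
  rw [perp_perp hR] at hd
  obtain ⟨r, hr⟩ := Submodule.mem_span_singleton.mp hd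
  have hgw : g.1.1.1 w.1 = w.1 + r • (baseM m a b).1 := by rw [hr, add_sub_cancel]
  obtain ⟨d, hd'⟩ : ∃ d, d = polar (QM F m a b) (baseM m a b).1 w.1 := ⟨_, rfl⟩
  have hd0 : d ≠ 0 := by
    rw [hd', polar_QM, hw]; simp [baseM, Cfsg.Agent.Classical.OrthTwo.bil, a_ne_zero hab, ht]
  have h1 : r * (r + d) = 0 := by
    have h := g.1.1.2 w.1
    rw [hgw, map_two, QuadraticMap.map_smul, (baseM m a b).2, w.2, polar_smul_right,
      polar_comm (QM F m a b) w.1, ← hd', smul_eq_mul, smul_eq_mul] at h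
    linear_combination h
  have hsplit : ∀ x, ∃ s : F, x - s • w.1 ∈ perp (QM F m a b) (Submodule.span F {(baseM m a b).1}) := fun x =>
    ⟨polar (QM F m a b) (baseM m a b).1 x / d, mem_perp_span.mpr fun v hv => by
      rw [Set.mem_singleton_iff.mp hv, polar_sub_right, polar_smul_right, ← hd', smul_eq_mul,
        div_mul_cancel₀ _ hd0, sub_self]⟩
  rcases mul_eq_zero.mp h1 with e | e
  · refine Subtype.ext (Subtype.ext (Subtype.ext (LinearEquiv.ext fun x => ?_)))
    obtain ⟨s, hs⟩ := hsplit x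
    show g.1.1.1 x = x
    conv_lhs => rw [← sub_add_cancel x (s • w.1), map_add, hfix _ hs, map_smul, hgw, e, zero_smul, add_zero,
      sub_add_cancel]
  · exfalso
    have hrd : r = d := by rw [← CharTwo.neg_eq d]; exact eq_neg_of_add_eq_zero_left e
    have hv0 : QM F m a b (baseM m a b).1 ≠ 0 := (baseM m a b).2.symm ▸ one_ne_zero
    refine rf_not_mem hR hv0 ?_
    convert g.1.2 using 1
    refine Subtype.ext (LinearEquiv.ext fun x => ?_)
    obtain ⟨s, hs⟩ := hsplit x
    show refl (QM F m a b) (baseM m a b).1 x = g.1.1.1 x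
    rw [← sub_add_cancel x (s • w.1), map_add, map_add, hfix _ hs, map_smul, map_smul, hgw,
      refl_fix (hs _ (Submodule.mem_span_singleton_self _)), refl_apply, (baseM m a b).2, inv_one, one_mul, ← hd',
      hrd, sub_eq_add_neg w.1, show -(d • (baseM m a b).1) = d • (baseM m a b).1 from funext fun i => CharTwo.neg_eq _]

theorem restr_surjective (hm : 3 ≤ m) : Function.Surjective (restr m a b) := by
  intro k
  classical
  have hR : PND (QM F m a b) := formOf_pnd (pnd_plane hab)
  let W := perp (QM F m a b) (Submodule.span F {(baseM m a b).1})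
  let a' : W := ⟨(baseM m a b).1, base_mem_perp⟩
  have hka : k.1 a' = a' := by
    have hp : (k.1 a').1 ∈ perp (QM F m a b) W := by
      intro x hx
      obtain ⟨y, hy⟩ := k.1.surjective ⟨x, hx⟩
      show polar (QM F m a b) x (k.1 a').1 = 0
      rw [show x = (k.1 y).1 from (congrArg Subtype.val hy).symm, ← sub_polar, polar_iso k.2, sub_polar, polar_comm]
      exact y.2 _ (Submodule.mem_span_singleton_self _)
    replace hp : (k.1 a').1 ∈ Submodule.span F {(baseM m a b).1} := by
      rwa [perp_perp hR] at hp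
    have hv : QM F m a b (k.1 a').1 = 1 := (k.2 a').trans (baseM m a b).2
    refine Subtype.ext ?_
    show ((⟨_, hv⟩ : Vec (QM F m a b)).1) = (baseM m a b).1
    rw [vec_eq_of_mem (a := baseM m a b) (b := ⟨_, hv⟩) hp]
  obtain ⟨g, hg, hgx⟩ := witt hR W (W.subtype.comp k.1.toLinearMap) (W.subtype_injective.comp k.1.injective)
    fun x => k.2 x
  have hga : g (baseM m a b).1 = (baseM m a b).1 := (hgx a').trans (congrArg Subtype.val hka)
  have hidx := index_two hR (by rw [finrank_QM]; omega) (Or.inr (by rw [finrank_QM]; omega))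
  have hv0 : QM F m a b (baseM m a b).1 ≠ 0 := (baseM m a b).2.symm ▸ one_ne_zero
  obtain ⟨h, hh, hha, hhx⟩ : ∃ h : ↥(Iso (QM F m a b)), h ∈ commutator ↥(Iso (QM F m a b)) ∧
      h.1 (baseM m a b).1 = (baseM m a b).1 ∧ ∀ x : W, h.1 x.1 = (k.1 x).1 := by
    by_cases hgm : (⟨g, hg⟩ : ↥(Iso (QM F m a b))) ∈ commutator ↥(Iso (QM F m a b))
    · exact ⟨_, hgm, hga, hgx⟩
    refine ⟨⟨g, hg⟩ * rf (QM F m a b) (baseM m a b).1, ?_, ?_, fun x => ?_⟩
    · rw [Subgroup.mul_mem_iff_of_index_two hidx]; exact iff_of_false hgm (rf_not_mem hR hv0)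
    · show g (refl (QM F m a b) (baseM m a b).1 (baseM m a b).1) = _
      rw [refl_self hv0, map_neg, hga]
      exact funext fun i => CharTwo.neg_eq _
    · show g (refl (QM F m a b) (baseM m a b).1 x.1) = _
      rw [refl_fix (x.2 _ (Submodule.mem_span_singleton_self _))]
      exact hgx x
  exact ⟨⟨⟨h, hh⟩, (fix_iff _ _).mpr hha⟩, Subtype.ext (LinearEquiv.ext fun x => Subtype.ext (hhx x))⟩

/-- The stabiliser of the base vector is the symplectic group. -/
noncomputable def stabSp (hm : 3 ≤ m) :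
    ↥(stabilizer ↥(Gr (QM F m a b)) (baseM m a b)) ≃* Matrix.symplecticGroup (Fin m) F :=
  ((((MulEquiv.ofBijective (restr m a b) ⟨restr_injective hab hm, restr_surjective hab hm⟩).trans
    (simCongr (hypCoord hab) one_ne_zero (hypCoord_value hab)).symm).trans
    (toMat (Cfsg.Agent.Classical.OrthTwo.Qo F m))).trans
      (MulEquiv.subgroupCongr (congrArg (Cfsg.isometryGroup F) (coe_odd (F := F) m)))).trans
    (MulEquiv.ofBijective (Cfsg.Agent.Classical.OrthTwo.hom F m)
      ⟨Cfsg.Agent.Classical.OrthTwo.hom_injective, Cfsg.Agent.Classical.OrthTwo.hom_surjective⟩)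

theorem stabSp_act (hm : 3 ≤ m) (g : ↥(stabilizer ↥(Gr (QM F m a b)) (baseM m a b))) (v : Fin m ⊕ Fin m → F)
    (k : Fin m ⊕ Fin m) :
    ((stabSp hab hm g).1 : Matrix (Fin m ⊕ Fin m) (Fin m ⊕ Fin m) F).mulVec v k =
      g.1.1.1 (Sum.elim v ![0, 0]) (.inl k) := by
  have hsub : ((stabSp hab hm g).1 : Matrix (Fin m ⊕ Fin m) (Fin m ⊕ Fin m) F).mulVec v k =
      (((toMat (Cfsg.Agent.Classical.OrthTwo.Qo F m))
        ((simCongr (hypCoord hab) one_ne_zero (hypCoord_value hab)).symm (restr m a b g))).1 :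
          Matrix (Unit ⊕ (Fin m ⊕ Fin m)) (Unit ⊕ (Fin m ⊕ Fin m)) F).mulVec (Sum.elim (fun _ => 0) v) (.inr k) := by
    simp only [Matrix.mulVec, dotProduct, Fintype.sum_sum_type, Sum.elim_inl, mul_zero, Finset.sum_const_zero,
      zero_add, Sum.elim_inr]
    rfl
  rw [hsub, toMat_apply]
  show (hypCoord hab).symm ((restr m a b g).1 (hypCoord hab (Sum.elim (fun _ => 0) v))) (.inr k) = _
  show g.1.1.1 (hypCoord hab (Sum.elim (fun _ => 0) v)).1 (.inl k) = _
  rw [hypCoord_apply]
  rfl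

end Cfsg.Agent.Small.OrthCover
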