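import Cfsg.Agent.Lib.Small.OrthCover.Even

/-!
Perfection of the stabiliser of a plane with a perpendicular space of plus type, in characteristic two.
-/

set_option autoImplicit false
set_option linter.unusedSectionVars false

namespace Cfsg.Agent.Small.OrthCover

open Module QuadraticMap MulAction Cfsg.Agent.Classical.OCount Cfsg.Agent.Classical.ORefl Cfsg.Agent.Classical.OOmega
open scoped commutatorElement

variable {F : Type*} [Field F] [CharP F 2] [Finite F] {V : Type*} [AddCommGroup V] [Module F V]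
  [FiniteDimensional F V] {Q : QuadraticForm F V}

theorem plane_nondeg_two {c : F} (hc : c ≠ 0) {a w : Vec Q} (h : polar Q a.1 w.1 = c) :
    Submodule.span F {a.1, w.1} ⊓ perp Q (Submodule.span F {a.1, w.1}) = ⊥ := by
  have hwa : polar Q w.1 a.1 = c := by rw [polar_comm]; exact h
  rw [eq_bot_iff]
  rintro y ⟨hy, hp⟩
  obtain ⟨s, t, rfl⟩ := Submodule.mem_span_pair.mp hy
  have e1 : polar Q a.1 (s • a.1 + t • w.1) = 0 := hp a.1 (Submodule.subset_span (by simp))
  have e2 : polar Q w.1 (s • a.1 + t • w.1) = 0 := hp w.1 (Submodule.subset_span (by simp))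
  simp [polar_add_right, polar_smul_right, h, hwa, polar_self_char_two, CharTwo.two_eq_zero, hc] at e1 e2
  simp [e1, e2]

/-- An element of the derived group fixing the perpendicular space comes from the derived group of the
subspace. -/
theorem exists_res_two (hQ : PND Q) {W : Submodule F V} (hW : W ⊓ perp Q W = ⊥) (hn : 5 ≤ finrank F W)
    {h : ↥(Iso Q)} (hh : h ∈ commutator ↥(Iso Q)) (hfix : ∀ u ∈ perp Q W, h.1 u = u) :
    ∃ g ∈ commutator ↥(Iso (sub Q W)), ext hQ hW g = h := by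
  have hmap : ∀ k : ↥(Iso Q), (∀ u ∈ perp Q W, k.1 u = u) → ∀ x ∈ W, k.1 x ∈ W := by
    intro k hk x hx
    rw [← perp_perp hQ W]
    intro u hu
    show polar Q u (k.1 x) = 0
    rw [← hk u hu, polar_iso k.2, polar_comm]
    exact hu x hx
  have hfix' : ∀ u ∈ perp Q W, (h⁻¹).1 u = u := fun u hu => by
    conv_lhs => rw [← hfix u hu]
    exact h.1.symm_apply_apply u
  let g0 : W ≃ₗ[F] W := LinearEquiv.ofLinear (h.1.toLinearMap.restrict (hmap h hfix))
    ((h⁻¹).1.toLinearMap.restrict (hmap h⁻¹ hfix'))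
    (LinearMap.ext fun x => Subtype.ext (h.1.apply_symm_apply x.1))
    (LinearMap.ext fun x => Subtype.ext (h.1.symm_apply_apply x.1))
  let g : ↥(Iso (sub Q W)) := ⟨g0, fun x => h.2 x.1⟩
  have he : ext hQ hW g = h := by
    refine Subtype.ext (LinearEquiv.ext fun z => ?_)
    obtain ⟨x, u, rfl⟩ := split hQ hW z
    rw [map_add, map_add, ext_mem, ext_perp hQ hW _ u.2, hfix _ u.2]
    rfl
  refine ⟨g, ?_, he⟩
  by_contra hg
  obtain ⟨t, ht⟩ := exists_one_perp_two (sub_pnd hW) (⊥ : Submodule F W) (by rw [finrank_bot]; omega)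
  have ht0 : sub Q W t.1 ≠ 0 := t.2.symm ▸ one_ne_zero
  have hidx := index_two (sub_pnd hW) (by omega) (Or.inr (by omega : finrank F W ≠ 4))
  have h1 : g * rf (sub Q W) t.1 ∈ commutator ↥(Iso (sub Q W)) := by
    rw [Subgroup.mul_mem_iff_of_index_two hidx]
    exact iff_of_false hg (rf_not_mem (sub_pnd hW) ht0)
  have h3 := ext_derived hQ hW h1
  rw [map_mul, he, ext_rf, Subgroup.mul_mem_cancel_left _ hh] at h3
  exact rf_not_mem hQ (show Q (t.1 : V) ≠ 0 from ht0) h3

namespace Scalar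

variable {c : F} (K : Scalar Q c)
include K

/-- The stabiliser of an adjacent pair is perfect. -/
theorem perfect2 (a w : Vec Q) (h : polar Q a.1 w.1 = c) :
    stab₂ ↥(Gr Q) a w ≤ ⁅stab₂ ↥(Gr Q) a w, stab₂ ↥(Gr Q) a w⁆ := by
  obtain ⟨P, hP⟩ := K.three a w h
  obtain ⟨U, hU⟩ : ∃ U, U = Submodule.span F {a.1, w.1} := ⟨_, rfl⟩
  have hrad : U ⊓ perp Q U = ⊥ := hU ▸ plane_nondeg_two K.ne h
  have hW : perp Q U ⊓ perp Q (perp Q U) = ⊥ := by rw [perp_perp K.pnd, inf_comm]; exact hrad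
  have hd : 6 ≤ finrank F (perp Q U) := by
    have h2 : finrank F U ≤ 2 := by
      have h3 := span_dim K.pnd [a.1, w.1]
      rw [show {x | x ∈ [a.1, w.1]} = ({a.1, w.1} : Set V) from Set.ext fun x => by simp] at h3
      rw [hU]; exact h3
    have := K.dim
    rw [finrank_perp K.pnd]; omega
  have hm : ∀ x ∈ [P.e, P.f, P.w, P.w', P.u, P.z], x ∈ perp Q U := fun x hx => hU ▸ mem_perp_span.mpr fun v hv => by
    rcases Set.mem_insert_iff.mp hv with rfl | hv
    · exact (hP x hx).1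
    · rw [Set.mem_singleton_iff.mp hv]; exact (hP x hx).2
  let P' : ThreePairs (sub Q (perp Q U)) :=
    { e := ⟨P.e, hm _ (by simp)⟩, f := ⟨P.f, hm _ (by simp)⟩, w := ⟨P.w, hm _ (by simp)⟩,
      w' := ⟨P.w', hm _ (by simp)⟩, u := ⟨P.u, hm _ (by simp)⟩, z := ⟨P.z, hm _ (by simp)⟩,
      hp := ⟨P.hp.1, P.hp.2.1, (sub_polar _ _ _).trans P.hp.2.2⟩
      hq := ⟨P.hq.1, P.hq.2.1, (sub_polar _ _ _).trans P.hq.2.2⟩
      hs := ⟨P.hs.1, P.hs.2.1, (sub_polar _ _ _).trans P.hs.2.2⟩
      ew := (sub_polar _ _ _).trans P.ew, ew' := (sub_polar _ _ _).trans P.ew'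
      fw := (sub_polar _ _ _).trans P.fw, fw' := (sub_polar _ _ _).trans P.fw'
      eu := (sub_polar _ _ _).trans P.eu, ez := (sub_polar _ _ _).trans P.ez
      fu := (sub_polar _ _ _).trans P.fu, fz := (sub_polar _ _ _).trans P.fz
      wu := (sub_polar _ _ _).trans P.wu, wz := (sub_polar _ _ _).trans P.wz
      w'u := (sub_polar _ _ _).trans P.w'u, w'z := (sub_polar _ _ _).trans P.w'z }
  intro g hg
  obtain ⟨k, hk, he⟩ := exists_res_two K.pnd hW (by omega) g.2 (fun u hu => by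
    rw [perp_perp K.pnd, hU] at hu
    obtain ⟨s, t, rfl⟩ := Submodule.mem_span_pair.mp hu
    rw [map_add, map_smul, map_smul, (fix_iff g a).mp hg.1, (fix_iff g w).mp hg.2])
  rw [← Subgroup.mem_map_iff_mem (Gr Q).subtype_injective, Subgroup.map_commutator]
  have hle : (commutator ↥(Iso (sub Q (perp Q U)))).map (ext K.pnd hW) ≤
      (stab₂ ↥(Gr Q) a w).map (Gr Q).subtype := by
    rintro _ ⟨k', hk', rfl⟩
    have hfix : ∀ v ∈ U, (ext K.pnd hW k').1 v = v := fun v hv => ext_perp K.pnd hW _ (by rwa [perp_perp K.pnd])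
    exact ⟨⟨_, ext_derived K.pnd hW hk'⟩, ⟨(fix_iff _ a).mpr (hfix _ (hU ▸ Submodule.subset_span (by simp))),
      (fix_iff _ w).mpr (hfix _ (hU ▸ Submodule.subset_span (by simp)))⟩, rfl⟩
  rw [← commutator_perfect (sub_pnd hW) P'] at hk
  have := Subgroup.mem_map_of_mem (ext K.pnd hW) hk
  rw [Subgroup.map_commutator, he] at this
  exact Subgroup.commutator_mono hle hle this

end Scalar

end Cfsg.Agent.Small.OrthCover
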