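import Cfsg.Agent.Lib.Small.OrthCover.Geometry

/-!
Isometries of a nonsingular subspace extended by the identity: they give exactly the fixers of the
perpendicular space in the derived group.
-/

set_option autoImplicit false
set_option linter.unusedSectionVars false

namespace Cfsg.Agent.Small.OrthCover

open Module QuadraticMap Cfsg.Agent.Classical.OCount Cfsg.Agent.Classical.ORefl Cfsg.Agent.Classical.OOmega
open scoped commutatorElement

variable {F : Type*} [Field F] {V : Type*} [AddCommGroup V] [Module F V] [FiniteDimensional F V]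
  {Q : QuadraticForm F V}

variable (Q) in
/-- The form on a subspace. -/
noncomputable abbrev sub (W : Submodule F V) : QuadraticForm F W := Q.comp W.subtype

theorem sub_polar (W : Submodule F V) (x y : W) : polar (sub Q W) x y = polar Q (x : V) (y : V) := by
  simp only [polar, QuadraticMap.comp_apply, map_add]
  rfl

variable {W : Submodule F V}

theorem sub_pnd (hW : W ⊓ perp Q W = ⊥) : PND (sub Q W) := fun v hv => by
  have hm : (v : V) ∈ W ⊓ perp Q W := ⟨v.2, fun w hw => by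
    show polar Q w (v : V) = 0
    rw [polar_comm]
    have := hv ⟨w, hw⟩
    rwa [sub_polar] at this⟩
  rw [hW, Submodule.mem_bot] at hm
  exact Subtype.ext hm

theorem compl (hQ : PND Q) (hW : W ⊓ perp Q W = ⊥) : IsCompl W (perp Q W) := by
  refine ⟨disjoint_iff.mpr hW, codisjoint_iff.mpr (Submodule.eq_top_of_finrank_eq ?_)⟩
  have h := Submodule.finrank_sup_add_finrank_inf_eq W (perp Q W)
  rw [hW, finrank_bot, add_zero, finrank_perp hQ] at h
  have := Submodule.finrank_le W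
  omega

/-- Extension by the identity. -/
noncomputable def extLin (hQ : PND Q) (hW : W ⊓ perp Q W = ⊥) (g : W ≃ₗ[F] W) : V ≃ₗ[F] V :=
  ((Submodule.prodEquivOfIsCompl W (perp Q W) (compl hQ hW)).symm.trans
    (g.prodCongr (LinearEquiv.refl F (perp Q W)))).trans
    (Submodule.prodEquivOfIsCompl W (perp Q W) (compl hQ hW))

theorem extLin_apply (hQ : PND Q) (hW : W ⊓ perp Q W = ⊥) (g : W ≃ₗ[F] W) (x : W) (u : perp Q W) :
    extLin hQ hW g ((x : V) + u) = (g x : V) + u := by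
  have e : (Submodule.prodEquivOfIsCompl W (perp Q W) (compl hQ hW)).symm ((x : V) + u) = (x, u) := by
    rw [LinearEquiv.symm_apply_eq, Submodule.coe_prodEquivOfIsCompl']
  show Submodule.prodEquivOfIsCompl W (perp Q W) (compl hQ hW)
    (g.prodCongr (LinearEquiv.refl F (perp Q W))
      ((Submodule.prodEquivOfIsCompl W (perp Q W) (compl hQ hW)).symm ((x : V) + u))) = _
  rw [e, Submodule.coe_prodEquivOfIsCompl']
  rfl

theorem split (hQ : PND Q) (hW : W ⊓ perp Q W = ⊥) (z : V) :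
    ∃ (x : W) (u : perp Q W), (x : V) + u = z := by
  obtain ⟨x, hx, u, hu, e⟩ := Submodule.mem_sup.mp
    ((compl hQ hW).sup_eq_top ▸ Submodule.mem_top : z ∈ W ⊔ perp Q W)
  exact ⟨⟨x, hx⟩, ⟨u, hu⟩, e⟩

theorem extLin_mem (hQ : PND Q) (hW : W ⊓ perp Q W = ⊥) (g : ↥(Iso (sub Q W))) :
    extLin hQ hW g.1 ∈ Iso Q := fun z => by
  obtain ⟨x, u, rfl⟩ := split hQ hW z
  have hg : Q (g.1 x : V) = Q (x : V) := g.2 x
  rw [extLin_apply, map_two, map_two, hg]
  congr 1
  rw [show polar Q (g.1 x : V) (u : V) = 0 from u.2 _ (g.1 x).2, show polar Q (x : V) (u : V) = 0 from u.2 _ x.2]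

/-- The extension as a homomorphism. -/
noncomputable def ext (hQ : PND Q) (hW : W ⊓ perp Q W = ⊥) : ↥(Iso (sub Q W)) →* ↥(Iso Q) :=
  MonoidHom.mk' (fun g => ⟨extLin hQ hW g.1, extLin_mem hQ hW g⟩) fun g h => Subtype.ext (LinearEquiv.ext fun z => by
    obtain ⟨x, u, rfl⟩ := split hQ hW z
    show extLin hQ hW (g.1 * h.1) _ = extLin hQ hW g.1 (extLin hQ hW h.1 _)
    rw [extLin_apply, extLin_apply, extLin_apply]
    rfl)

theorem ext_mem (hQ : PND Q) (hW : W ⊓ perp Q W = ⊥) (g : ↥(Iso (sub Q W))) (x : W) :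
    (ext hQ hW g).1 (x : V) = (g.1 x : V) := by
  have := extLin_apply hQ hW g.1 x 0
  rwa [Submodule.coe_zero, add_zero, add_zero] at this

theorem ext_perp (hQ : PND Q) (hW : W ⊓ perp Q W = ⊥) (g : ↥(Iso (sub Q W))) {u : V} (hu : u ∈ perp Q W) :
    (ext hQ hW g).1 u = u := by
  have := extLin_apply hQ hW g.1 0 ⟨u, hu⟩
  rwa [map_zero, Submodule.coe_zero, zero_add] at this

theorem ext_rf (hQ : PND Q) (hW : W ⊓ perp Q W = ⊥) (v : W) :
    ext hQ hW (rf (sub Q W) v) = rf Q (v : V) := by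
  refine Subtype.ext (LinearEquiv.ext fun z => ?_)
  obtain ⟨x, u, rfl⟩ := split hQ hW z
  rw [map_add, ext_mem, ext_perp hQ hW _ u.2]
  show (refl (sub Q W) v x : V) + u = refl Q (v : V) ((x : V) + u)
  rw [map_add, refl_fix (show polar Q (v : V) (u : V) = 0 from u.2 _ v.2), refl_apply, refl_apply, sub_polar]
  rfl

variable [Finite F]

theorem both_ext (h2 : (2 : F) ≠ 0) (hQ : PND Q) (hW : W ⊓ perp Q W = ⊥) (hn : 2 ≤ finrank F W)
    (g : ↥(Iso (sub Q W))) : both Q h2 hQ (ext hQ hW g) = both (sub Q W) h2 (sub_pnd hW) g := by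
  have hV : 2 ≤ finrank F V := hn.trans (Submodule.finrank_le W)
  refine DFunLike.congr_fun (hom_ext (sub_pnd hW) (two_ne h2) (f := (both Q h2 hQ).comp (ext hQ hW))
    (f' := both (sub Q W) h2 (sub_pnd hW)) fun v hv => ?_) g
  rw [MonoidHom.comp_apply, ext_rf]
  have hv' : Q (v : V) ≠ 0 := hv
  refine Prod.ext ((dsign_rf h2 hQ hv').trans (dsign_rf h2 (sub_pnd hW) hv).symm) ?_
  have h1 := spinor_rf h2 hQ hV hv'
  have h3 := spinor_rf h2 (sub_pnd hW) hn hv
  show spinor Q (rf Q (v : V)) = spinor (sub Q W) (rf (sub Q W) v)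
  rcases Int.units_eq_one_or (spinor (sub Q W) (rf (sub Q W) v)) with e | e <;> rw [e]
  · exact h1.mpr (h3.mp e)
  · refine (Int.units_eq_one_or _).resolve_left fun e1 => ?_
    rw [h3.mpr (h1.mp e1)] at e
    exact absurd e (by decide)

/-- An element of the derived group fixing the perpendicular space comes from the subspace. -/
theorem exists_res (h2 : (2 : F) ≠ 0) (hQ : PND Q) (hW : W ⊓ perp Q W = ⊥) (hn : 2 ≤ finrank F W)
    {h : ↥(Iso Q)} (hh : h ∈ commutator ↥(Iso Q)) (hfix : ∀ u ∈ perp Q W, h.1 u = u) :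
    ∃ g ∈ commutator ↥(Iso (sub Q W)), ext hQ hW g = h := by
  have hmap : ∀ k : ↥(Iso Q), (∀ u ∈ perp Q W, k.1 u = u) → ∀ x ∈ W, k.1 x ∈ W := by
    intro k hk x hx
    rw [← perp_perp hQ W]
    intro u hu
    show polar Q u (k.1 x) = 0
    rw [← hk u hu, polar_iso k.2, polar_comm]
    exact hu x hx
  have hfix' : ∀ u ∈ perp Q W, (h⁻¹).1 u = u := fun u hu => by
    conv_lhs => rw [← hfix u hu]
    exact h.1.symm_apply_apply u
  let g0 : W ≃ₗ[F] W := LinearEquiv.ofLinear (h.1.toLinearMap.restrict (hmap h hfix))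
    ((h⁻¹).1.toLinearMap.restrict (hmap h⁻¹ hfix'))
    (LinearMap.ext fun x => Subtype.ext (h.1.apply_symm_apply x.1))
    (LinearMap.ext fun x => Subtype.ext (h.1.symm_apply_apply x.1))
  let g : ↥(Iso (sub Q W)) := ⟨g0, fun x => h.2 x.1⟩
  have he : ext hQ hW g = h := by
    refine Subtype.ext (LinearEquiv.ext fun z => ?_)
    obtain ⟨x, u, rfl⟩ := split hQ hW z
    rw [map_add, map_add, ext_mem, ext_perp hQ hW _ u.2, hfix _ u.2]
    rfl
  refine ⟨g, ?_, he⟩
  rw [commutator_eq h2 (sub_pnd hW) hn, MonoidHom.mem_ker, ← both_ext h2 hQ hW hn, he, ← MonoidHom.mem_ker,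
    ← commutator_eq h2 hQ (hn.trans (Submodule.finrank_le W))]
  exact hh

theorem ext_derived (hQ : PND Q) (hW : W ⊓ perp Q W = ⊥) {g : ↥(Iso (sub Q W))}
    (hg : g ∈ commutator ↥(Iso (sub Q W))) : ext hQ hW g ∈ commutator ↥(Iso Q) := by
  have : ext hQ hW g ∈ (commutator ↥(Iso (sub Q W))).map (ext hQ hW) := ⟨g, hg, rfl⟩
  rw [commutator_def, Subgroup.map_commutator] at this
  exact Subgroup.commutator_mono le_top le_top this

/-- The extension to the derived groups. -/
noncomputable def emb (hQ : PND Q) (hW : W ⊓ perp Q W = ⊥) :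
    ↥(commutator ↥(Iso (sub Q W))) →* ↥(commutator ↥(Iso Q)) :=
  ((ext hQ hW).comp (commutator ↥(Iso (sub Q W))).subtype).codRestrict _ fun g => ext_derived hQ hW g.2

theorem emb_val (hQ : PND Q) (hW : W ⊓ perp Q W = ⊥) (g : ↥(commutator ↥(Iso (sub Q W)))) :
    (emb hQ hW g).1 = ext hQ hW g.1 := rfl

/-- The image of a perfect derived group is in the derived group of anything containing the image. -/
theorem emb_mem_derived (h2 : (2 : F) ≠ 0) (hQ : PND Q) (hW : W ⊓ perp Q W = ⊥) (hn : 5 ≤ finrank F W)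
    (S : Subgroup ↥(commutator ↥(Iso Q)))
    (hS : ∀ g, emb hQ hW g ∈ S) (g : ↥(commutator ↥(Iso (sub Q W)))) : emb hQ hW g ∈ ⁅S, S⁆ := by
  have hg : g ∈ ⁅(⊤ : Subgroup ↥(commutator ↥(Iso (sub Q W)))), (⊤ : Subgroup ↥(commutator ↥(Iso (sub Q W))))⁆ := by
    refine (Subgroup.mem_map_iff_mem (commutator ↥(Iso (sub Q W))).subtype_injective).mp ?_
    rw [Subgroup.map_commutator, ← MonoidHom.range_eq_map, Subgroup.range_subtype]
    exact omega_perfect h2 (sub_pnd hW) hn g.2
  have hle : (⊤ : Subgroup ↥(commutator ↥(Iso (sub Q W)))).map (emb hQ hW) ≤ S := by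
    rintro _ ⟨k, -, rfl⟩; exact hS k
  have : emb hQ hW g ∈ (⁅(⊤ : Subgroup ↥(commutator ↥(Iso (sub Q W)))), (⊤ : Subgroup ↥(commutator ↥(Iso (sub Q W))))⁆ : Subgroup _).map (emb hQ hW) := ⟨g, hg, rfl⟩
  rw [Subgroup.map_commutator] at this
  exact Subgroup.commutator_mono hle hle this

theorem span_nondeg (h2 : (2 : F) ≠ 0) {a : V} (ha : Q a ≠ 0) :
    Submodule.span F {a} ⊓ perp Q (Submodule.span F {a}) = ⊥ := by
  rw [eq_bot_iff]
  rintro x ⟨hx, hp⟩
  obtain ⟨t, rfl⟩ := Submodule.mem_span_singleton.mp hx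
  have h : polar Q a (t • a) = 0 := hp a (Submodule.mem_span_singleton_self a)
  rw [polar_smul_right, polar_self_two, smul_eq_mul] at h
  rw [Submodule.mem_bot, (mul_eq_zero.mp h).resolve_right (mul_ne_zero h2 ha), zero_smul]

/-- The derived group is transitive on vectors of value one. -/
theorem omega_trans (h2 : (2 : F) ≠ 0) (hQ : PND Q) (hn : 3 ≤ finrank F V) {a b : V} (ha : Q a = 1)
    (hb : Q b = 1) : ∃ g ∈ commutator ↥(Iso Q), g.1 a = b := by
  have ha0 : a ≠ 0 := fun e => by rw [e, QuadraticMap.map_zero] at ha; exact zero_ne_one ha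
  have hb0 : b ≠ 0 := fun e => by rw [e, QuadraticMap.map_zero] at hb; exact zero_ne_one hb
  obtain ⟨g, hg⟩ := exists_conj hQ ha0 hb0 (hb.trans ha.symm)
  have hU := span_nondeg h2 (ha.symm ▸ one_ne_zero : Q a ≠ 0)
  let W := perp Q (Submodule.span F {a})
  have hW : W ⊓ perp Q W = ⊥ := by rw [perp_perp hQ, inf_comm]; exact hU
  have hd : 2 ≤ finrank F W := by
    rw [finrank_perp hQ, finrank_span_singleton ha0]; omega
  obtain ⟨k, hk⟩ := both_surjective h2 (sub_pnd hW) hd (both Q h2 hQ g)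
  refine ⟨g * (ext hQ hW k)⁻¹, ?_, ?_⟩
  · rw [commutator_eq h2 hQ (by omega), MonoidHom.mem_ker, map_mul, map_inv, both_ext h2 hQ hW hd, hk,
      mul_inv_cancel]
  · show g.1 (((ext hQ hW k)⁻¹).1 a) = b
    rw [← map_inv, ext_perp hQ hW _ (by rw [perp_perp hQ]; exact Submodule.mem_span_singleton_self a), hg]

end Cfsg.Agent.Small.OrthCover
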