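import Cfsg.Agent.Lib.Classical.OrthPSimple

/-!
Perpendicular spaces in a nonsingular quadratic space over a finite field of odd characteristic,
and perfection and transitivity of the derived orthogonal group.
-/

set_option autoImplicit false
set_option linter.unusedSectionVars false

namespace Cfsg.Agent.Small.OrthCover

open Module QuadraticMap Cfsg.Agent.Classical.OCount Cfsg.Agent.Classical.ORefl Cfsg.Agent.Classical.OOmega
open scoped commutatorElement

variable {F : Type*} [Field F] {V : Type*} [AddCommGroup V] [Module F V] [FiniteDimensional F V]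
  {Q : QuadraticForm F V}

variable (Q) in
/-- The perpendicular space. -/
noncomputable def perp (S : Submodule F V) : Submodule F V :=
  LinearMap.BilinForm.orthogonal (polarBilin Q) S

theorem mem_perp {S : Submodule F V} {x : V} : x ∈ perp Q S ↔ ∀ s ∈ S, polar Q s x = 0 := Iff.rfl

theorem isRefl : (polarBilin Q).IsRefl := fun x y h => by
  rw [polarBilin_apply_apply, polar_comm, ← polarBilin_apply_apply]; exact h

theorem finrank_perp (hQ : PND Q) (S : Submodule F V) :
    finrank F (perp Q S) = finrank F V - finrank F S :=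
  LinearMap.BilinForm.finrank_orthogonal (nondeg hQ) S

theorem perp_perp (hQ : PND Q) (S : Submodule F V) : perp Q (perp Q S) = S :=
  LinearMap.BilinForm.orthogonal_orthogonal (nondeg hQ) isRefl S

theorem mem_perp_span {s : Set V} {x : V} :
    x ∈ perp Q (Submodule.span F s) ↔ ∀ v ∈ s, polar Q v x = 0 := by
  refine ⟨fun h v hv => h v (Submodule.subset_span hv), fun h v hv => ?_⟩
  induction hv using Submodule.span_induction with
  | mem v hv => exact h v hv
  | zero => show polar Q 0 x = 0; rw [polar_zero_left]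
  | add u v _ _ hu hv =>
    show polar Q (u + v) x = 0
    rw [polar_add_left, show polar Q u x = 0 from hu, show polar Q v x = 0 from hv, add_zero]
  | smul c v _ hv =>
    show polar Q (c • v) x = 0
    rw [polar_smul_left, show polar Q v x = 0 from hv, smul_zero]

/-- A subspace with a small radical represents one. -/
theorem exists_one [Finite F] (h2 : (2 : F) ≠ 0) (T : Submodule F V)
    (hT : finrank F ↥(T ⊓ perp Q T) + 2 ≤ finrank F T) : ∃ t ∈ T, Q t = 1 := by
  have iso : ∀ U : Submodule F V, (∀ x ∈ U, Q x = 0) → U ≤ perp Q U := fun U h x hx y hy => by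
    show polar Q y x = 0
    have := h _ (add_mem hy hx)
    rwa [map_two, h y hy, h x hx, zero_add, zero_add] at this
  obtain ⟨t, ht, hd⟩ : ∃ t ∈ T, Q t ≠ 0 := by
    by_contra hc
    push Not at hc
    rw [inf_eq_left.mpr (iso T hc)] at hT
    omega
  let K := LinearMap.ker ((polarBilin Q t).domRestrict T)
  obtain ⟨u, hu, hp, htu⟩ : ∃ u ∈ T, Q u ≠ 0 ∧ polar Q t u = 0 := by
    by_contra hc
    push Not at hc
    have hz : ∀ x ∈ K.map T.subtype, Q x = 0 := by
      rintro _ ⟨x, hx, rfl⟩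
      by_contra hne
      exact hc _ x.2 hne hx
    have hle : K.map T.subtype ≤ T ⊓ perp Q T := by
      refine le_inf (Submodule.map_subtype_le _ _) ?_
      rintro _ ⟨x, hx, rfl⟩ y hy
      show polar Q y (x : V) = 0
      have htx : polar Q t (x : V) = 0 := hx
      obtain ⟨c, hc'⟩ : ∃ c, c = polar Q t y / polar Q t t := ⟨_, rfl⟩
      have htt : polar Q t t ≠ 0 := by rw [polar_self_two]; exact mul_ne_zero h2 hd
      have hy' : (⟨y - c • t, sub_mem hy (T.smul_mem c ht)⟩ : T) ∈ K := by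
        show polar Q t (y - c • t) = 0
        rw [polar_sub_right, polar_smul_right, hc', smul_eq_mul, div_mul_cancel₀ _ htt, sub_self]
      have h0 : polar Q (y - c • t) (x : V) = 0 := iso _ hz ⟨x, hx, rfl⟩ _ ⟨_, hy', rfl⟩
      rw [polar_sub_left, polar_smul_left, htx, smul_zero, sub_zero] at h0
      exact h0
    have h1 := Submodule.finrank_mono hle
    rw [Submodule.finrank_map_subtype_eq] at h1
    have h3 := LinearMap.finrank_range_add_finrank_ker ((polarBilin Q t).domRestrict T)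
    have h4 := Submodule.finrank_le (LinearMap.range ((polarBilin Q t).domRestrict T))
    rw [finrank_self] at h4
    change finrank F K ≤ _ at h1
    change _ + finrank F K = _ at h3
    omega
  obtain ⟨x, y, hxy⟩ := exists_rep h2 hd hp 1
  refine ⟨x • t + y • u, add_mem (T.smul_mem x ht) (T.smul_mem y hu), ?_⟩
  rw [map_two, QuadraticMap.map_smul, QuadraticMap.map_smul, polar_smul_left, polar_smul_right, htu, ← hxy]
  simp only [smul_eq_mul]; ring

/-- A small subspace has a perpendicular vector of value one. -/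
theorem exists_one_perp [Finite F] (h2 : (2 : F) ≠ 0) (hQ : PND Q) (S : Submodule F V)
    (hS : finrank F S + finrank F ↥(S ⊓ perp Q S) + 2 ≤ finrank F V) :
    ∃ t ∈ perp Q S, Q t = 1 := by
  refine exists_one h2 _ ?_
  rw [perp_perp hQ, inf_comm, finrank_perp hQ]
  omega

/-- The radical misses a nonsingular subspace. -/
theorem rad_add_le {U S : Submodule F V} (h : U ≤ S) (hU : U ⊓ perp Q U = ⊥) :
    finrank F ↥(S ⊓ perp Q S) + finrank F U ≤ finrank F S := by
  have hd : S ⊓ perp Q S ⊓ U = ⊥ := by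
    rw [eq_bot_iff, ← hU]
    exact fun x hx => ⟨hx.2, fun y hy => hx.1.2 y (h hy)⟩
  have h1 := Submodule.finrank_sup_add_finrank_inf_eq (S ⊓ perp Q S) U
  rw [hd, finrank_bot, add_zero] at h1
  rw [← h1]
  exact Submodule.finrank_mono (sup_le inf_le_left h)

section Pairs

variable [Finite F]

/-- The commutator of two Siegel transformations along a hyperbolic pair. -/
theorem el_commutator (h2 : (2 : F) ≠ 0) (hQ : PND Q) {e w w' v : V} (he : Q e = 0) (hq : IsHPair Q (w, w'))
    (hew : polar Q e w = 0) (hew' : polar Q e w' = 0) (hev : polar Q e v = 0) (hwv : polar Q w v = 0)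
    (hwv' : polar Q w' v = 0) :
    el he (v := v - Q v • w') (by rw [polar_sub_right, polar_smul_right, hev, hew', smul_zero, sub_zero]) ∈
      ⁅commutator ↥(Iso Q), commutator ↥(Iso Q)⁆ := by
  have hw'w : polar Q w' w = 1 := by rw [polar_comm]; exact hq.2.2
  have m1 : el (e := w') hq.2.1 hwv' ∈ commutator ↥(Iso Q) := siegel_mem_commutator hQ (two_ne h2) _ _
  have m2 : el he hew ∈ commutator ↥(Iso Q) := siegel_mem_commutator hQ (two_ne h2) _ _
  have hm := Subgroup.commutator_mem_commutator m1 m2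
  rw [commutatorElement_def, el_conj, el_inv he hew] at hm
  convert hm using 1
  have hgw : (el (e := w') hq.2.1 hwv').1 w = w + v - Q v • w' := by
    rw [el_apply, hw'w, polar_comm Q v w, hwv, one_smul, mul_one, zero_add]
  have hge : (el (e := w') hq.2.1 hwv').1 e = e := by
    rw [el_apply, polar_comm Q w' e, hew', polar_comm Q v e, hev]; simp
  rw [el_congr _ _ he (v' := w + v - Q v • w')
    (by rw [polar_sub_right, polar_add_right, polar_smul_right, hew, hev, hew']; simp) hge hgw, el_mul]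
  exact el_congr _ _ _ _ rfl (by abel)

/-- Over three elements the torus is not needed. -/
theorem el_derived_three (h2 : (2 : F) ≠ 0) (hQ : PND Q) (hn : 5 ≤ finrank F V) (h3 : Nat.card F = 3)
    {e f : V} (hp : IsHPair Q (e, f)) {v : V} (hev : polar Q e v = 0) :
    el hp.1 hev ∈ ⁅commutator ↥(Iso Q), commutator ↥(Iso Q)⁆ := by
  set N := ⁅commutator ↥(Iso Q), commutator ↥(Iso Q)⁆
  have hR := finrank_comp (p := (e, f)) hp
  have hRQ := res_pnd (p := (e, f)) hQ hp
  obtain ⟨w, hw0, hw⟩ := exists_singular h2 hRQ (by omega)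
  obtain ⟨w', hq⟩ := exists_pair hRQ hw0 hw
  have hS := finrank_comp (p := (w, w')) hq
  have hSQ := res_pnd (p := (w, w')) hRQ hq
  have hq' : IsHPair Q (w.1, w'.1) := hq
  have ew : polar Q e w.1 = 0 := (mem_comp.mp w.2).1
  have ew' : polar Q e w'.1 = 0 := (mem_comp.mp w'.2).1
  let Mem : V → Prop := fun x => ∃ hx : polar Q e x = 0, el hp.1 hx ∈ N
  have mem_add : ∀ x y, Mem x → Mem y → Mem (x + y) := fun x y ⟨hx, hmx⟩ ⟨hy, hmy⟩ =>
    ⟨by rw [polar_add_right, hx, hy, add_zero], by rw [← el_mul hp.1 hx hy]; exact mul_mem hmx hmy⟩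
  have mem_neg : ∀ x, Mem x → Mem (-x) := fun x ⟨hx, hmx⟩ =>
    ⟨by rw [polar_neg_right, hx, neg_zero], by rw [← el_inv hp.1 hx]; exact inv_mem hmx⟩
  have base : ∀ {a b : V}, IsHPair Q (a, b) → polar Q e a = 0 → polar Q e b = 0 → ∀ u, polar Q e u = 0 →
      polar Q a u = 0 → polar Q b u = 0 → Mem (u - Q u • b) := fun hab ha hb u hu hau hbu =>
    ⟨_, el_commutator h2 hQ hp.1 hab ha hb hu hau hbu⟩
  obtain ⟨u₀, hu₀⟩ := exists_nonsing h2 hSQ (by omega)
  obtain ⟨c₀, hc₀⟩ : ∃ c₀, c₀ = 2 * Q u₀.1.1 := ⟨_, rfl⟩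
  have hc₀0 : c₀ ≠ 0 := hc₀ ▸ mul_ne_zero h2 hu₀
  have mem_zero : Mem 0 := by
    have := base hq' ew ew' (0 : V) (by rw [polar_zero_right]) (by rw [polar_zero_right]) (by rw [polar_zero_right])
    simpa using this
  have all : ∀ b : V, Mem (c₀ • b) → ∀ c : F, Mem (c • b) := by
    intro b hb c
    haveI := Fintype.ofFinite F
    have hc : c = 0 ∨ c = c₀ ∨ c = -c₀ := by
      classical
      have hne : c₀ ≠ -c₀ := fun h => mul_ne_zero h2 hc₀0 (by linear_combination h)
      have : ({0, c₀, -c₀} : Finset F) = Finset.univ := by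
        rw [← Finset.card_eq_iff_eq_univ, ← Nat.card_eq_fintype_card, h3]
        exact Finset.card_eq_three.mpr ⟨0, c₀, -c₀, hc₀0.symm, (neg_ne_zero.mpr hc₀0).symm, hne, rfl⟩
      have hm := Finset.mem_univ c
      rw [← this] at hm
      simpa using hm
    rcases hc with rfl | rfl | rfl
    · simpa using mem_zero
    · exact hb
    · simpa using mem_neg _ hb
  have lines : ∀ {a b : V}, IsHPair Q (a, b) → polar Q e a = 0 → polar Q e b = 0 →
      (∃ u, polar Q e u = 0 ∧ polar Q a u = 0 ∧ polar Q b u = 0 ∧ Q u = c₀ / 2) → ∀ c : F, Mem (c • b) := by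
    intro a b hab ha hb hval
    obtain ⟨c, hcd⟩ : ∃ c, c = c₀ := ⟨_, rfl⟩
    rw [← hcd] at hval all
    refine all b ?_
    obtain ⟨u, hu, hau, hbu, hQu⟩ := hval
    have h1 := base hab ha hb u hu hau hbu
    have hab' : IsHPair Q (-a, -b) := ⟨(QuadraticMap.map_neg Q a).trans hab.1,
      (QuadraticMap.map_neg Q b).trans hab.2.1, by rw [polar_neg_left, polar_neg_right, neg_neg]; exact hab.2.2⟩
    have h3 := base hab' (by rw [polar_neg_right, ha, neg_zero]) (by rw [polar_neg_right, hb, neg_zero]) u hu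
      (by rw [polar_neg_left, hau, neg_zero]) (by rw [polar_neg_left, hbu, neg_zero])
    have h4 := mem_add _ _ h3 (mem_neg _ h1)
    rw [hQu, show u - (c / 2) • -b + -(u - (c / 2) • b) = (c / 2 + c / 2) • b by module, ← two_mul, mul_div_cancel₀ _ h2] at h4
    exact h4
  have hv : Q u₀.1.1 = c₀ / 2 := by rw [hc₀, mul_div_cancel_left₀ _ h2]
  have L1 := lines hq' ew ew' ⟨_, (mem_comp.mp u₀.1.2).1, (mem_comp.mp u₀.2).1, (mem_comp.mp u₀.2).2, hv⟩
  have L2 := lines (a := w'.1) (b := w.1) ⟨hq'.2.1, hq'.1, by rw [polar_comm]; exact hq'.2.2⟩ ew' ew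
    ⟨_, (mem_comp.mp u₀.1.2).1, (mem_comp.mp u₀.2).2, (mem_comp.mp u₀.2).1, hv⟩
  obtain ⟨r, hr⟩ : ∃ r, r = v - polar Q w'.1 v • w.1 - polar Q w.1 v • w'.1 := ⟨_, rfl⟩
  have hrc := mem_comp.mp (hr ▸ exists_split (p := (w.1, w'.1)) hq' v : r ∈ comp Q (w.1, w'.1))
  have her : polar Q e r = 0 := by
    rw [hr, polar_sub_right, polar_sub_right, polar_smul_right, polar_smul_right, hev, ew, ew']; simp
  have h1 := mem_add _ _ (mem_add _ _ (base hq' ew ew' r her hrc.1 hrc.2) (L1 (Q r + polar Q w.1 v)))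
    (L2 (polar Q w'.1 v))
  rw [show r - Q r • w'.1 + (Q r + polar Q w.1 v) • w'.1 + polar Q w'.1 v • w.1 = v by rw [hr]; module] at h1
  obtain ⟨hx, h⟩ := h1
  exact h

/-- A torus contracts every Siegel group when there are at least five scalars. -/
theorem el_derived_five (h2 : (2 : F) ≠ 0) (hQ : PND Q) (hn : 5 ≤ finrank F V) (hq : 5 ≤ Nat.card F)
    {e f : V} (hp : IsHPair Q (e, f)) {v : V} (hev : polar Q e v = 0) :
    el hp.1 hev ∈ ⁅commutator ↥(Iso Q), commutator ↥(Iso Q)⁆ := by
  classical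
  haveI := Fintype.ofFinite F
  rw [Nat.card_eq_fintype_card] at hq
  obtain ⟨r, hr0, hr1⟩ : ∃ r : F, r ≠ 0 ∧ r * r ≠ 1 := by
    obtain ⟨r, -, hr⟩ := Finset.exists_mem_notMem_of_card_lt_card (s := ({0, 1, -1} : Finset F)) (t := Finset.univ)
      (lt_of_le_of_lt Finset.card_le_three (by rw [Finset.card_univ]; omega))
    simp only [Finset.mem_insert, Finset.mem_singleton, not_or] at hr
    exact ⟨r, hr.1, fun h => (mul_self_eq_one_iff.mp h).elim hr.2.1 hr.2.2⟩
  obtain ⟨s, hs⟩ : ∃ s, s = r * r := ⟨_, rfl⟩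
  have hs0 : s ≠ 0 := hs ▸ mul_ne_zero hr0 hr0
  have hef : polar Q e f = 1 := hp.2.2
  have hfe : polar Q f e = 1 := by rw [polar_comm]; exact hef
  have hee : polar Q e e = 0 := polar_self_zero hp.1
  have hff : polar Q f f = 0 := polar_self_zero hp.2.1
  have hQe : Q e = 0 := hp.1
  have hQf : Q f = 0 := hp.2.1
  have hA : Q (e + f) = 1 := by rw [map_two, hQe, hQf, hef]; ring
  have hB : Q (e + s • f) = s := by
    rw [map_two, hQe, QuadraticMap.map_smul, hQf, polar_smul_right, hef]
    simp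
  have hn2 : 2 ≤ finrank F V := by omega
  obtain ⟨h, hh⟩ : ∃ h, h = rf Q (e + s • f) * rf Q (e + f) := ⟨_, rfl⟩
  have hhmem : h ∈ commutator ↥(Iso Q) := by
    rw [commutator_eq h2 hQ hn2, MonoidHom.mem_ker, hh, map_mul]
    have b1 : both Q h2 hQ (rf Q (e + s • f)) = (-1, 1) :=
      Prod.ext (dsign_rf h2 hQ (hB.symm ▸ hs0))
        ((spinor_rf h2 hQ hn2 (hB.symm ▸ hs0)).mpr (by rw [hB, hs]; exact ⟨r, rfl⟩))
    have b2 : both Q h2 hQ (rf Q (e + f)) = (-1, 1) :=
      Prod.ext (dsign_rf h2 hQ (hA.symm ▸ one_ne_zero))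
        ((spinor_rf h2 hQ hn2 (hA.symm ▸ one_ne_zero)).mpr (by rw [hA]; exact IsSquare.one))
    rw [b1, b2]; decide
  have he : h.1 e = s⁻¹ • e := by
    rw [hh]
    show refl Q (e + s • f) (refl Q (e + f) e) = _
    rw [refl_apply (e + f), hA, polar_add_left, hee, hfe, zero_add, inv_one, one_mul, one_smul,
      sub_add_cancel_left, map_neg, refl_apply, hB, polar_add_left, polar_smul_left, hef, hff]
    simp only [smul_eq_mul, mul_zero, add_zero, mul_one]
    rw [neg_sub, smul_add, smul_smul, inv_mul_cancel₀ hs0, one_smul, add_sub_cancel_right]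
  have hfix : ∀ x, polar Q e x = 0 → polar Q f x = 0 → h.1 x = x := fun x h1 h3 => by
    rw [hh]
    show refl Q (e + s • f) (refl Q (e + f) x) = x
    rw [refl_fix (v := e + f) (by rw [polar_add_left, h1, h3, add_zero]),
      refl_fix (by rw [polar_add_left, polar_smul_left, h1, h3]; simp)]
  obtain ⟨c, hc⟩ : ∃ c, c = polar Q f v := ⟨_, rfl⟩
  obtain ⟨d, hd⟩ : ∃ d, d = s⁻¹ - 1 := ⟨_, rfl⟩
  have hd0 : d ≠ 0 := hd ▸ sub_ne_zero.mpr fun h => hr1 (hs.symm.trans (inv_eq_one.mp h))
  obtain ⟨y, hy⟩ : ∃ y, y = d⁻¹ • (v - c • e) := ⟨_, rfl⟩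
  have hey : polar Q e y = 0 := by
    rw [hy, polar_smul_right, polar_sub_right, polar_smul_right, hev, hee]; simp
  have hfy : polar Q f y = 0 := by
    rw [hy, polar_smul_right, polar_sub_right, polar_smul_right, hfe, ← hc]; simp
  have hsy : polar Q e (s⁻¹ • y) = 0 := by rw [polar_smul_right, hey, smul_zero]
  have e1 : h * el hp.1 hey * h⁻¹ = el hp.1 hsy := by
    rw [el_conj]
    exact (el_congr _ _ (by rw [QuadraticMap.map_smul, hQe, smul_zero])
      (by rw [polar_smul_left, hey, smul_zero]) he (hfix y hey hfy)).trans (el_scale _ hp.1 hey)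
  have hdy : polar Q e (d • y) = 0 := by rw [polar_smul_right, hey, smul_zero]
  have hny : polar Q e (-y) = 0 := by rw [polar_neg_right, hey, neg_zero]
  have e2 : ⁅h, el hp.1 hey⁆ = el hp.1 hdy := by
    rw [commutatorElement_def, e1, el_inv, el_mul]
    exact el_congr _ _ _ _ rfl (by rw [hd, sub_smul, one_smul, sub_eq_add_neg])
  have hm : ⁅h, el hp.1 hey⁆ ∈ ⁅commutator ↥(Iso Q), commutator ↥(Iso Q)⁆ :=
    Subgroup.commutator_mem_commutator hhmem (siegel_mem_commutator hQ (two_ne h2) hp.1 hey)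
  rw [e2] at hm
  have hce : polar Q e (c • e) = 0 := by rw [polar_smul_right, hee, smul_zero]
  have hone : el hp.1 hce = 1 := Subtype.ext (LinearEquiv.ext fun x => by
    rw [el_apply, polar_smul_left, QuadraticMap.map_smul, hp.1]
    simp only [smul_eq_mul, mul_zero, zero_mul, zero_smul]
    show _ = x
    module)
  convert hm using 1
  rw [show el hp.1 hdy = el hp.1 hdy * el hp.1 hce by rw [hone, mul_one], el_mul]
  exact el_congr _ _ _ _ rfl (by rw [hy, smul_smul, mul_inv_cancel₀ hd0, one_smul, sub_add_cancel])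

/-- The derived orthogonal group is perfect. -/
theorem omega_perfect (h2 : (2 : F) ≠ 0) (hQ : PND Q) (hn : 5 ≤ finrank F V) :
    commutator ↥(Iso Q) ≤ ⁅commutator ↥(Iso Q), commutator ↥(Iso Q)⁆ := by
  intro g hg
  rw [commutator_eq_root h2 hQ hn] at hg
  refine (Subgroup.closure_le _).mpr ?_ hg
  rintro g ⟨a, v, ha, hv, -, hg⟩
  rw [SetLike.mem_coe, show g = el ha hv from Subtype.ext hg]
  by_cases ha0 : a = 0
  · rw [show el ha hv = 1 from Subtype.ext (LinearEquiv.ext fun x => by rw [el_apply, ha0]; simp)]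
    exact one_mem _
  obtain ⟨f, hp⟩ := exists_pair hQ ha0 ha
  by_cases hq : 5 ≤ Nat.card F
  · exact el_derived_five h2 hQ hn hq hp hv
  · refine el_derived_three h2 hQ hn ?_ hp hv
    haveI := Fintype.ofFinite F
    have h1 := Finite.one_lt_card (α := F)
    have hodd : Fintype.card F % 2 = 1 := FiniteField.odd_card_of_char_ne_two fun h => h2 (by
      haveI := ringChar.of_eq h
      exact CharTwo.two_eq_zero)
    rw [Nat.card_eq_fintype_card] at hq h1 ⊢
    omega

end Pairs

end Cfsg.Agent.Small.OrthCover
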