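import Cfsg.Agent.Lib.Small.OrthCover.Minus
import Cfsg.Prelude.Def_KGroupFacts

/-!
The bound in minus type in dimension eight over three elements: the exceptional part of the cover of
the stabiliser is inverted by an element of the group that exchanges two common neighbours.
-/

set_option autoImplicit false
set_option linter.unusedSectionVars false

namespace Cfsg.Agent.Small.OrthCover

open Module QuadraticMap MulAction Cfsg.Agent.Classical.OCount Cfsg.Agent.Classical.ORefl Cfsg.Agent.Classical.OOmega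
open Cfsg.Agent.Small.SchurLifts
open scoped commutatorElement

universe u

section Neighbours

variable {F : Type*} [Field F] {V : Type*} [AddCommGroup V] [Module F V] [FiniteDimensional F V]
  {Q : QuadraticForm F V}

/-- The neighbours of a vector. -/
def Nbr (a : Vec Q) : Type _ := {x : Vec Q // polar Q a.1 x.1 = 0}

instance nbrAction (a : Vec Q) : MulAction ↥(stabilizer ↥(Gr Q) a) (Nbr a) where
  smul g x := ⟨g.1 • x.1, by
    have h := x.2
    rw [← polar_iso g.1.1.2] at h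
    rwa [(fix_iff g.1 a).mp g.2] at h⟩
  one_smul x := Subtype.ext (one_smul ↥(Gr Q) x.1)
  mul_smul g h x := Subtype.ext (mul_smul g.1 h.1 x.1)

theorem nbr_fix {a : Vec Q} (g : ↥(stabilizer ↥(Gr Q) a)) (x : Nbr a) : g • x = x ↔ g.1 • x.1 = x.1 :=
  ⟨fun h => congrArg Subtype.val h, fun h => Subtype.ext h⟩

theorem stab_eq_of_smul {x y : Vec Q} {p : F} (hp : p ≠ 0) (h : x.1 = p • y.1) :
    stabilizer ↥(Gr Q) x = stabilizer ↥(Gr Q) y := by
  ext g
  rw [fix_iff, fix_iff, h, map_smul]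
  exact ⟨fun e => smul_right_injective V hp e, fun e => by rw [e]⟩

/-- Perfection inside a subgroup. -/
theorem derived_sub {G : Type*} [Group G] (K : Subgroup G) {S : Subgroup G} (hS : S ≤ K) {g : ↥K}
    (h : g.1 ∈ ⁅S, S⁆) : g ∈ ⁅S.subgroupOf K, S.subgroupOf K⁆ := by
  refine (Subgroup.mem_map_iff_mem K.subtype_injective).mp ?_
  rw [Subgroup.map_commutator, Subgroup.map_subgroupOf_eq_of_le hS]
  exact h

variable [Finite F] (h2 : (2 : F) ≠ 0) (hQ : PND Q)
include h2 hQ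

theorem triple_perfect (h8 : 8 ≤ finrank F V) {u v w : Vec Q} (huv : polar Q u.1 v.1 = 0)
    (huw : polar Q u.1 w.1 = 0) (hvw : polar Q v.1 w.1 = 0) :
    stab₂ ↥(Gr Q) u v ⊓ stabilizer ↥(Gr Q) w ≤
      ⁅stab₂ ↥(Gr Q) u v ⊓ stabilizer ↥(Gr Q) w, stab₂ ↥(Gr Q) u v ⊓ stabilizer ↥(Gr Q) w⁆ := by
  intro g hg
  have hv : Pairwise fun i j => polar Q ((![u, v, w] : Fin 3 → Vec Q) i).1 ((![u, v, w] : Fin 3 → Vec Q) j).1 = 0 := by
    intro i j hij
    fin_cases i <;> fin_cases j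
    all_goals first
      | exact absurd rfl hij
      | simpa using huv
      | simpa using huw
      | simpa using hvw
      | (rw [polar_comm]; simpa using huv)
      | (rw [polar_comm]; simpa using huw)
      | (rw [polar_comm]; simpa using hvw)
  have hd : finrank F (Submodule.span F (Set.range fun i => ((![u, v, w] : Fin 3 → Vec Q) i).1)) ≤ 3 :=
    (finrank_range_le_card _).trans (le_of_eq (Fintype.card_fin _))
  refine mem_derived h2 hQ (orth_nondeg h2 _ hv) (by omega) _ (fun k hk => ?_) g (fix_span h2 hQ ?_)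
  · exact ⟨⟨(fix_iff k u).mpr (hk _ (Submodule.subset_span ⟨0, rfl⟩)),
      (fix_iff k v).mpr (hk _ (Submodule.subset_span ⟨1, rfl⟩))⟩,
      (fix_iff k w).mpr (hk _ (Submodule.subset_span ⟨2, rfl⟩))⟩
  · rintro _ ⟨i, rfl⟩
    fin_cases i
    · exact (fix_iff g u).mp hg.1.1
    · exact (fix_iff g v).mp hg.1.2
    · exact (fix_iff g w).mp hg.2

theorem edge_perfect (h8 : 8 ≤ finrank F V) {u v : Vec Q} (huv : polar Q u.1 v.1 = 0) :
    stab₂ ↥(Gr Q) u v ≤ ⁅stab₂ ↥(Gr Q) u v, stab₂ ↥(Gr Q) u v⁆ :=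
  (frame h2 hQ (by omega) (Or.inr h8)).perfect2 u v huv

/-- The frame of the neighbours of a vector. -/
noncomputable def nbrFrame (h8 : 8 ≤ finrank F V) (a : Vec Q) : Frame ↥(stabilizer ↥(Gr Q) a) (Nbr a) where
  adj x y := polar Q x.1.1 y.1.1 = 0
  symm x y h := by rw [polar_comm]; exact h
  inv g x y h := by
    show polar Q (g.1 • x.1).1 (g.1 • y.1).1 = 0
    rw [smul_val, smul_val, polar_iso g.1.1.2]; exact h
  tr x y := by
    have h1 := finrank_span_singleton (K := F) (ne_zero a)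
    have hm : ∀ z : Nbr a, z.1.1 ∈ perp Q (Submodule.span F {a.1}) :=
      fun z => mem_perp_span.mpr fun v hv => by rw [Set.mem_singleton_iff.mp hv]; exact z.2
    obtain ⟨g, hg, e⟩ := exists_move h2 hQ (span_nondeg h2 (a.2.symm ▸ one_ne_zero)) (by omega) (hm x) (hm y)
    exact ⟨⟨g, (fix_iff g a).mpr (hg _ (Submodule.mem_span_singleton_self _))⟩, Subtype.ext e⟩
  perfect1 x g hg := by
    have h := derived_sub (stabilizer ↥(Gr Q) a) (S := stab₂ ↥(Gr Q) a x.1) inf_le_left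
      (edge_perfect h2 hQ h8 x.2 (show g.1 ∈ stab₂ ↥(Gr Q) a x.1 from ⟨g.2, (nbr_fix g x).mp hg⟩))
    refine Subgroup.commutator_mono ?_ ?_ h <;> exact fun k hk => (nbr_fix k x).mpr hk.2
  perfect2 x w hxw g hg := by
    have h := derived_sub (stabilizer ↥(Gr Q) a) (S := stab₂ ↥(Gr Q) a x.1 ⊓ stabilizer ↥(Gr Q) w.1)
      (inf_le_left.trans inf_le_left)
      (triple_perfect h2 hQ h8 x.2 w.2 hxw
        (show g.1 ∈ stab₂ ↥(Gr Q) a x.1 ⊓ stabilizer ↥(Gr Q) w.1 from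
          ⟨⟨g.2, (nbr_fix g x).mp hg.1⟩, (nbr_fix g w).mp hg.2⟩))
    refine Subgroup.commutator_mono ?_ ?_ h <;>
      exact fun k hk => ⟨(nbr_fix k x).mpr hk.1.2, (nbr_fix k w).mpr hk.2⟩
  trans w x y hx hy := by
    have hd := pair_dim h2 hQ a w.1
    have hm : ∀ z : Nbr a, polar Q w.1.1 z.1.1 = 0 → z.1.1 ∈ perp Q (Submodule.span F {a.1, w.1.1}) :=
      fun z e => mem_perp_span.mpr fun v hv => by
        rcases Set.mem_insert_iff.mp hv with rfl | hv
        · exact z.2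
        · rw [Set.mem_singleton_iff.mp hv]; exact e
    obtain ⟨g, hg, e⟩ := exists_move h2 hQ (pair_nondeg h2 hQ w.2) (by omega) (hm x hx) (hm y hy)
    exact ⟨⟨g, (fix_iff g a).mpr (hg _ (Submodule.subset_span (by simp)))⟩,
      Subtype.ext (Subtype.ext (hg _ (Submodule.subset_span (by simp)))), Subtype.ext e⟩
  common x y z := by
    set S := Submodule.span F {v | v ∈ [a.1, x.1.1, y.1.1, z.1.1]}
    have hd : finrank F S ≤ 4 := span_dim hQ [a.1, x.1.1, y.1.1, z.1.1]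
    have hrad : finrank F ↥(S ⊓ perp Q S) + 2 ≤ finrank F S := by
      have := rad_add_le (S := S) (U := Submodule.span F {a.1, x.1.1})
        (Submodule.span_mono (by simp [Set.insert_subset_iff])) (pair_nondeg h2 hQ x.2)
      rwa [pair_dim_eq h2 hQ x.2] at this
    obtain ⟨t, ht⟩ := exists_vec h2 hQ (S := S) (by omega)
    have hp : ∀ v ∈ [a.1, x.1.1, y.1.1, z.1.1], polar Q v t.1 = 0 := fun v hv => ht v (Submodule.subset_span hv)
    have hp' : ∀ v ∈ [a.1, x.1.1, y.1.1, z.1.1], polar Q t.1 v = 0 := fun v hv => by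
      rw [polar_comm]; exact hp v hv
    exact ⟨⟨t, hp _ (by simp)⟩, hp' _ (by simp), hp' _ (by simp), hp' _ (by simp)⟩

/-- An element exchanging two common neighbours up to sign. -/
theorem exists_swap (h4 : (4 : F) = 1) (hn : 2 ≤ finrank F V) {o x y w w' : Vec Q} (how : polar Q o.1 w.1 = 0)
    (how' : polar Q o.1 w'.1 = 0) (hox : polar Q o.1 x.1 = 0) (hoy : polar Q o.1 y.1 = 0)
    (h1 : polar Q w.1 x.1 = 0) (h3 : polar Q w.1 y.1 = 0) (h4' : polar Q w'.1 x.1 = 0) (h5 : polar Q w'.1 y.1 = 0)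
    (hp : polar Q w.1 w'.1 * polar Q w.1 w'.1 = 1) :
    ∃ g : ↥(Gr Q), g • x = x ∧ g • y = y ∧ stabilizer ↥(Gr Q) (g • o) = stabilizer ↥(Gr Q) o ∧
      stabilizer ↥(Gr Q) (g • w) = stabilizer ↥(Gr Q) w' ∧ stabilizer ↥(Gr Q) (g • w') = stabilizer ↥(Gr Q) w := by
  obtain ⟨p, hpd⟩ : ∃ p, p = polar Q w.1 w'.1 := ⟨_, rfl⟩
  rw [← hpd] at hp
  have hp0 : p ≠ 0 := fun e => by rw [e, mul_zero] at hp; exact zero_ne_one hp
  let u : Vec Q := ⟨w.1 - p • w'.1, by
    rw [map_sub_two, QuadraticMap.map_smul, w.2, w'.2, polar_smul_right, ← hpd]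
    simp only [smul_eq_mul]
    linear_combination (0 : F) * h4⟩
  have huo : polar Q u.1 o.1 = 0 := by
    show polar Q (w.1 - p • w'.1) o.1 = 0
    rw [polar_sub_left, polar_smul_left, polar_comm Q w.1, polar_comm Q w'.1, how, how']; simp
  have hux : polar Q u.1 x.1 = 0 := by
    show polar Q (w.1 - p • w'.1) x.1 = 0
    rw [polar_sub_left, polar_smul_left, h1, h4']; simp
  have huy : polar Q u.1 y.1 = 0 := by
    show polar Q (w.1 - p • w'.1) y.1 = 0
    rw [polar_sub_left, polar_smul_left, h3, h5]; simp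
  obtain ⟨e1, e2, e3⟩ := pair_apply h2 hQ hn huo
  have ew : (pairEl h2 hQ hn u o).1.1 w.1 = p • w'.1 := by
    show refl Q u.1 (refl Q o.1 w.1) = _
    rw [refl_fix how, refl_apply, u.2, inv_one, one_mul]
    show w.1 - polar Q (w.1 - p • w'.1) w.1 • (w.1 - p • w'.1) = _
    rw [polar_sub_left, polar_smul_left, polar_self_two, w.2, polar_comm Q w'.1, ← hpd, smul_eq_mul, hp]
    module
  have ew' : (pairEl h2 hQ hn u o).1.1 w'.1 = p • w.1 := by
    show refl Q u.1 (refl Q o.1 w'.1) = _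
    rw [refl_fix how', refl_apply, u.2, inv_one, one_mul]
    show w'.1 - polar Q (w.1 - p • w'.1) w'.1 • (w.1 - p • w'.1) = _
    rw [polar_sub_left, polar_smul_left, polar_self_two, w'.2, ← hpd, smul_eq_mul, mul_one]
    rw [show p - p * 2 = -p by ring, smul_sub, smul_smul, neg_mul, hp]
    module
  exact ⟨pairEl h2 hQ hn u o, Subtype.ext (e3 _ hux hox), Subtype.ext (e3 _ huy hoy),
    stab_eq_of_smul (neg_ne_zero.mpr one_ne_zero) (p := -1) (by rw [smul_val, e2, neg_smul, one_smul]),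
    stab_eq_of_smul hp0 (by rw [smul_val, ew]), stab_eq_of_smul hp0 (by rw [smul_val, ew'])⟩

end Neighbours

section Levels

variable {G X : Type*} [Group G] [MulAction G X] (D : Frame G X) {Γ : Type*} [Group Γ] (C : Central Γ G)

/-- The derived preimage of a perfect subgroup covers it. -/
theorem exists_derived_lift {S : Subgroup G} (hS : S ≤ ⁅S, S⁆) {q : G} (hq : q ∈ S) :
    ∃ x ∈ ⁅S.comap C.π, S.comap C.π⁆, C.π x = q := by
  have h := hS hq
  rw [← Subgroup.map_comap_eq_self_of_surjective C.surj S, ← Subgroup.map_commutator] at h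
  obtain ⟨x, hx, e⟩ := h
  exact ⟨x, hx, e⟩

/-- The derived preimage of a stabiliser as an extension of it. -/
noncomputable def stabC (o : X) : Central ↥(D.H C o) ↥(stabilizer G o) where
  π := (C.π.comp (D.H C o).subtype).codRestrict _ fun x => D.π_mem C x.2
  surj y := by
    obtain ⟨x, hx, e⟩ := exists_derived_lift C (D.perfect1 o) y.2
    exact ⟨⟨x, hx⟩, Subtype.ext e⟩
  central x hx := by
    rw [Subgroup.mem_center_iff]
    exact fun y => Subtype.ext (Subgroup.mem_center_iff.1 (C.central (congrArg Subtype.val hx)) y.1)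

theorem stabC_val (o : X) (x : ↥(D.H C o)) : ((stabC D C o).π x).1 = C.π x.1 := rfl

/-- Derived preimages inside the stabiliser agree with those in the whole extension. -/
theorem stabC_mem (o : X) (T : Subgroup G) (hT : T ≤ stabilizer G o) (y : ↥(D.H C o)) :
    y ∈ ⁅(T.subgroupOf (stabilizer G o)).comap (stabC D C o).π, (T.subgroupOf (stabilizer G o)).comap (stabC D C o).π⁆ ↔
      y.1 ∈ ⁅T.comap C.π, T.comap C.π⁆ := by
  rw [← Subgroup.mem_map_iff_mem (D.H C o).subtype_injective]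
  suffices e : ∀ K K' : Subgroup Γ, K = K' → (y.1 ∈ K ↔ y.1 ∈ K') from e _ _ ?_
  swap
  · rintro _ _ rfl; exact Iff.rfl
  rw [Subgroup.map_commutator]
  refine le_antisymm (Subgroup.commutator_mono ?_ ?_) ?_
  iterate 2
    rintro _ ⟨z, hz, rfl⟩
    exact hz
  refine Subgroup.commutator_le.mpr fun u hu v hv => ?_
  obtain ⟨u', hu'⟩ := (stabC D C o).surj ⟨C.π u, hT hu⟩
  obtain ⟨v', hv'⟩ := (stabC D C o).surj ⟨C.π v, hT hv⟩
  rw [C.comm_indep (a' := u'.1) (b' := v'.1) (congrArg Subtype.val hu').symm (congrArg Subtype.val hv').symm]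
  refine Subgroup.commutator_mem_commutator ⟨u', ?_, rfl⟩ ⟨v', ?_, rfl⟩
  · show ((stabC D C o).π u').1 ∈ T
    rw [hu']; exact hu
  · show ((stabC D C o).π v').1 ∈ T
    rw [hv']; exact hv

/-- An automorphism exchanging two lifts inverts their discrepancy. -/
theorem discrepancy_sq {Γ' : Type*} [Group Γ'] (H : Subgroup Γ') (cj : Γ' → Γ') (h X1 X2 ζ : Γ')
    (hζc : ∀ y, y * ζ = ζ * y) (hζ : X2⁻¹ * X1 = h * ζ) (e1 : cj h * ζ = (cj X2)⁻¹ * cj X1)
    (m0 : h ∈ H) (m1 : X2⁻¹ * cj X1 ∈ H) (m2 : X1⁻¹ * cj X2 ∈ H) (m3 : cj h ∈ H) : ζ * ζ ∈ H := by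
  have hinv : X1⁻¹ * X2 = ζ⁻¹ * h⁻¹ := by rw [← mul_inv_rev, ← hζ, mul_inv_rev, inv_inv]
  have e3 : (cj X2)⁻¹ * cj X1 = (X1⁻¹ * cj X2)⁻¹ * (ζ⁻¹ * h⁻¹) * (X2⁻¹ * cj X1) := by rw [← hinv]; group
  have e2 : cj h * (ζ * ζ) = (X1⁻¹ * cj X2)⁻¹ * h⁻¹ * (X2⁻¹ * cj X1) := by
    rw [← mul_assoc, hζc (cj h * ζ), e1, e3, ← mul_assoc ζ, ← mul_assoc ζ, ← hζc (X1⁻¹ * cj X2)⁻¹,
      mul_assoc _ ζ (ζ⁻¹ * h⁻¹), mul_inv_cancel_left]
  have hm := mul_mem (inv_mem m3) (mul_mem (mul_mem (inv_mem m2) (inv_mem m0)) m1)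
  rwa [← e2, inv_mul_cancel_left] at hm

/-- A cyclic kernel of exponent four dividing six has two elements. -/
theorem two_of_six {A : Type*} [Group A] (π6 : Multiplicative (ZMod 6) →* A) (hπ : Function.Surjective π6)
    (h4 : ∀ k : A, k * k * (k * k) = 1) : ∃ g : A, g * g = 1 ∧ ∀ k, k = 1 ∨ k = g := by
  set g := π6 (Multiplicative.ofAdd 1) with hg
  have h6 : g ^ 6 = 1 := by
    rw [hg, ← map_pow, ← ofAdd_nsmul, show 6 • (1 : ZMod 6) = 0 from by decide, ofAdd_zero, map_one]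
  have h2 : g * g = 1 := by
    have e := h4 g
    rw [show g * g * (g * g) = g ^ 4 by simp [pow_succ, mul_assoc]] at e
    rw [show (6 : ℕ) = 4 + 2 from rfl, pow_add, e, one_mul, pow_two] at h6
    exact h6
  refine ⟨g, h2, fun k => ?_⟩
  obtain ⟨j, rfl⟩ := hπ k
  obtain ⟨i, hi⟩ := ZMod.intCast_surjective (Multiplicative.toAdd j)
  have hgi : g ^ i = π6 j := by rw [hg, ← map_zpow, ← ofAdd_zsmul, zsmul_one, hi, ofAdd_toAdd]
  rcases Int.even_or_odd' i with ⟨t, rfl | rfl⟩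
  · left; rw [← hgi, _root_.zpow_mul, _root_.zpow_two, h2, _root_.one_zpow]
  · right; rw [← hgi, _root_.zpow_add, _root_.zpow_mul, _root_.zpow_two, h2, _root_.one_zpow, one_mul, _root_.zpow_one]

/-- The bound from a multiplier of order six. -/
theorem two_of_multiplier {Γ S P : Type u} [Group Γ] [Group S] [Group P] [Finite S] (C : Central Γ S)
    (hΓ : commutator Γ = ⊤) (e : S ≃* P) (hmult : Cfsg.HasCyclicSchurMultiplier P 6)
    (h4 : ∀ z, C.π z = 1 → z * z * (z * z) = 1) :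
    ∃ g, C.π g = 1 ∧ g * g = 1 ∧ ∀ k, C.π k = 1 → k = 1 ∨ k = g := by
  haveI : Finite (commutatorSet Γ) := by
    have hsub : commutatorSet Γ ⊆ Set.range fun p : S × S => ⁅C.L p.1, C.L p.2⁆ := by
      rintro _ ⟨s, t, rfl⟩
      exact ⟨(C.π s, C.π t), C.comm_indep (C.π_L _) (C.π_L _)⟩
    exact (Set.finite_range _).subset hsub
  haveI : Finite Γ := Finite.of_equiv ↥(commutator Γ) ((MulEquiv.subgroupCongr hΓ).trans Subgroup.topEquiv).toEquiv
  have hk : ∀ z, (e.toMonoidHom.comp C.π) z = 1 → C.π z = 1 := fun z hz => e.injective (hz.trans (map_one e).symm)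
  obtain ⟨π6, hπ6⟩ := hmult.2 Γ (e.toMonoidHom.comp C.π)
    ⟨e.surjective.comp C.surj, fun z hz => C.central (hk z hz), hΓ.symm ▸ le_top⟩
  obtain ⟨g, hgg, hall⟩ := two_of_six π6 hπ6 fun k => Subtype.ext (h4 k.1 (hk _ k.2))
  refine ⟨g.1, hk _ g.2, congrArg Subtype.val hgg, fun k hk' => ?_⟩
  have hk1 : k ∈ (e.toMonoidHom.comp C.π).ker := by
    show e (C.π k) = 1
    rw [hk', map_one]
  exact (hall ⟨k, hk1⟩).imp (congrArg Subtype.val) (congrArg Subtype.val)

end Levels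

section Quotient

variable {G X : Type*} [Group G] [MulAction G X] (D : Frame G X) {Γ : Type*} [Group Γ] (C : Central Γ G)

variable (M : Subgroup Γ) [M.Normal] (hM : M ≤ C.π.ker)

/-- The quotient extension. -/
noncomputable def quotC : Central (Γ ⧸ M) G where
  π := QuotientGroup.lift M C.π hM
  surj q := by obtain ⟨x, rfl⟩ := C.surj q; exact ⟨x, rfl⟩
  central x hx := by
    obtain ⟨x, rfl⟩ := QuotientGroup.mk'_surjective M x
    rw [Subgroup.mem_center_iff]
    intro y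
    obtain ⟨y, rfl⟩ := QuotientGroup.mk'_surjective M y
    rw [← map_mul, ← map_mul, Subgroup.mem_center_iff.1 (C.central (show C.π x = 1 from hx)) y]

theorem quot_H (a : X) : D.H (quotC C M hM) a = (D.H C a).map (QuotientGroup.mk' M) := by
  rw [Frame.H, Frame.H, Subgroup.map_commutator]
  have e : (stabilizer G a).comap (quotC C M hM).π = ((stabilizer G a).comap C.π).map (QuotientGroup.mk' M) := by
    refine le_antisymm (fun x hx => ?_) ?_
    · obtain ⟨x, rfl⟩ := QuotientGroup.mk'_surjective M x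
      exact ⟨x, hx, rfl⟩
    · rintro _ ⟨x, hx, rfl⟩; exact hx
  rw [e]

end Quotient

variable {F : Type u} [Field F] [Fintype F]

/-- The perpendicular space of two vectors in dimension eight over three elements is of plus type. -/
noncomputable def sixCoord (h2 : (2 : F) ≠ 0) (a b : F) :
    (Fin 3 ⊕ Fin 3 → F) ≃ₗ[F] perp (QM F 3 a b) (Submodule.span F
      {(baseM 3 a b).1, Pi.single (Sum.inl (Sum.inl 0)) 1 + Pi.single (Sum.inl (Sum.inr 0)) 1}) where
  toFun x := ⟨Sum.elim (Sum.elim ![(x (.inr 0) - x (.inl 0)) / 2, x (.inl 1), x (.inl 2)]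
      ![-((x (.inr 0) - x (.inl 0)) / 2), x (.inr 1), x (.inr 2)])
    ![-(a / 2) * ((x (.inl 0) + x (.inr 0)) / 2), (x (.inl 0) + x (.inr 0)) / 2], by
    rw [mem_perp_span]
    intro v hv
    rcases Set.mem_insert_iff.mp hv with rfl | hv
    · rw [polar_baseM]; simp; field_simp; ring
    · rw [Set.mem_singleton_iff.mp hv]
      simp only [polar, QM_apply, Fin.sum_univ_three]
      simp [Pi.add_apply]
      ring⟩
  map_add' x y := Subtype.ext (funext fun k => by
    rcases k with (i | i) | j <;> [fin_cases i; fin_cases i; fin_cases j] <;> simp <;> ring)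
  map_smul' c x := Subtype.ext (funext fun k => by
    rcases k with (i | i) | j <;> [fin_cases i; fin_cases i; fin_cases j] <;> simp <;> ring)
  invFun y := Sum.elim ![y.1 (.inr 1) - y.1 (.inl (.inl 0)), y.1 (.inl (.inl 1)), y.1 (.inl (.inl 2))]
    ![y.1 (.inr 1) + y.1 (.inl (.inl 0)), y.1 (.inl (.inr 1)), y.1 (.inl (.inr 2))]
  left_inv x := funext fun k => by
    rcases k with i | i <;> fin_cases i <;> simp <;> field_simp <;> ring
  right_inv y := Subtype.ext (funext fun k => by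
    have h1 := mem_perp_span.mp y.2 _ (Set.mem_insert _ _)
    have h3 := mem_perp_span.mp y.2 _ (Set.mem_insert_of_mem _ (Set.mem_singleton _))
    rw [polar_baseM] at h1
    simp only [polar, QM_apply, Fin.sum_univ_three] at h3
    simp [Pi.add_apply] at h3
    rcases k with (i | i) | j <;> [fin_cases i; fin_cases i; fin_cases j] <;> simp
    · field_simp; ring
    · field_simp; linear_combination -2 * h3
    · field_simp; linear_combination -2 * h1
    · field_simp; ring)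

/-- Over three elements the binary part is determined. -/
theorem disc_one (h3 : Fintype.card F = 3) {a b : F}
    (hab : ∀ z₁ z₂ : F, z₁ ^ 2 + a * z₁ * z₂ + b * z₂ ^ 2 = 0 → z₁ = 0 ∧ z₂ = 0) :
    (2 : F) ≠ 0 ∧ (4 : F) = 1 ∧ (∀ x : F, x ≠ 0 → x * x = 1) ∧ b - a ^ 2 / 4 = 1 := by
  haveI : Fact (Nat.Prime 3) := ⟨Nat.prime_three⟩
  haveI : CharP F 3 := charP_of_card_eq_prime h3
  have h2 : (2 : F) ≠ 0 := two_ne_of_odd (by rw [h3]; decide)
  have h30 : (3 : F) = 0 := by exact_mod_cast CharP.cast_eq_zero F 3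
  have h4 : (4 : F) = 1 := by linear_combination h30
  have hsq : ∀ x : F, x ≠ 0 → x * x = 1 := fun x hx => by
    have := FiniteField.pow_card_sub_one_eq_one x hx
    rwa [h3, pow_two] at this
  refine ⟨h2, h4, hsq, ?_⟩
  have hd := disc_ne h2 hab
  obtain ⟨d, hdd⟩ : ∃ d, d = b - a ^ 2 / 4 := ⟨_, rfl⟩
  rw [← hdd] at hd ⊢
  by_contra hne
  have hd1 : d = -1 := (mul_self_eq_one_iff.mp (hsq d hd)).resolve_left hne
  have hb : b = d + a ^ 2 / 4 := by rw [hdd]; ring
  refine one_ne_zero (hab (1 - a / 2) 1 ?_).2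
  have h40 : (4 : F) ≠ 0 := h4 ▸ one_ne_zero
  rw [hb, hd1]
  field_simp
  linear_combination (0 : F) * h4

set_option maxHeartbeats 2000000 in
/-- The bound in dimension eight over three elements. -/
theorem minus_bound_three (h3 : Fintype.card F = 3)
    (hmult : Cfsg.HasCyclicSchurMultiplier (Cfsg.POmega F (Cfsg.quadFormOdd 3 F)) 6) {a b : F}
    (hab : ∀ z₁ z₂ : F, z₁ ^ 2 + a * z₁ * z₂ + b * z₂ ^ 2 = 0 → z₁ = 0 ∧ z₂ = 0) {Γ : Type u} [Group Γ]
    (C : Central Γ ↥(Gr (QM F 3 a b))) (hΓ : commutator Γ = ⊤) :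
    ∃ g ∈ C.π.ker, g * g = 1 ∧ ∀ k ∈ C.π.ker, k = 1 ∨ k = g := by
  classical
  obtain ⟨h2, h4, hsq, hd1⟩ := disc_one h3 hab
  have hR : PND (QM F 3 a b) := formOf_pnd (pnd_plane hab)
  have h8 : 8 ≤ finrank F ((Fin 3 ⊕ Fin 3) ⊕ Fin 2 → F) := by rw [finrank_QM]
  have hn2 : 2 ≤ finrank F ((Fin 3 ⊕ Fin 3) ⊕ Fin 2 → F) := by omega
  let o : Vec (QM F 3 a b) := baseM 3 a b
  let D := frame h2 hR (by omega) (Or.inr h8)
  have hle := D.ker_le C (frame_linked h2 hR (by omega) (Or.inr h8) C) hΓ o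
  let C1 := stabC D C o
  have hΓ1 : commutator ↥(D.H C o) = ⊤ := derived_preimage_perfect C (D.perfect1 o)
  let D1 := nbrFrame h2 hR h8 o
  -- the neighbours' derived preimages inside the ambient group
  have hK : ∀ (x : Nbr o) (y : ↥(D.H C o)), y ∈ D1.H C1 x ↔
      y.1 ∈ ⁅(stab₂ ↥(Gr (QM F 3 a b)) o x.1).comap C.π, (stab₂ ↥(Gr (QM F 3 a b)) o x.1).comap C.π⁆ := by
    intro x y
    rw [← stabC_mem D C o (stab₂ ↥(Gr (QM F 3 a b)) o x.1) inf_le_left y]
    have e : stabilizer ↥(stabilizer ↥(Gr (QM F 3 a b)) o) x = (stab₂ ↥(Gr (QM F 3 a b)) o x.1).subgroupOf (stabilizer ↥(Gr (QM F 3 a b)) o) := by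
      ext k
      exact ⟨fun hk => ⟨k.2, (nbr_fix k x).mp hk⟩, fun hk => (nbr_fix k x).mpr hk.2⟩
    show y ∈ ⁅(stabilizer ↥(stabilizer ↥(Gr (QM F 3 a b)) o) x).comap C1.π, (stabilizer ↥(stabilizer ↥(Gr (QM F 3 a b)) o) x).comap C1.π⁆ ↔ _
    rw [e]
  have hx0 : (QM F 3 a b) (Pi.single (Sum.inl (Sum.inl 0)) 1 + Pi.single (Sum.inl (Sum.inr 0)) 1) = 1 := by
    rw [QM_apply, Fin.sum_univ_three]; simp [Pi.add_apply]
  let x₀ : Nbr o := ⟨⟨_, hx0⟩, by rw [polar_baseM]; simp [Pi.add_apply]⟩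
  -- the central elements whose squares lie below a neighbour
  let M : Subgroup ↥(D.H C o) :=
    { carrier := {z | C1.π z = 1 ∧ z * z ∈ D1.H C1 x₀}
      one_mem' := ⟨map_one _, by rw [one_mul]; exact one_mem _⟩
      mul_mem' := fun {y z} hy hz => ⟨by rw [map_mul, hy.1, hz.1, one_mul], by
        have hc := Subgroup.mem_center_iff.1 (C1.central hy.1)
        rw [show y * z * (y * z) = (y * y) * (z * z) by rw [mul_assoc, ← mul_assoc z, hc z]; simp only [mul_assoc]]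
        exact mul_mem hy.2 hz.2⟩
      inv_mem' := fun {y} hy => ⟨by rw [map_inv, hy.1, inv_one], by
        rw [← mul_inv_rev]; exact inv_mem hy.2⟩ }
  haveI : M.Normal := ⟨fun z hz y => by
    rw [Subgroup.mem_center_iff.1 (C1.central hz.1) y, mul_inv_cancel_right]; exact hz⟩
  have hMk : M ≤ C1.π.ker := fun z hz => hz.1
  let C1' := quotC C1 M hMk
  have hL : D1.Linked C1' := by
    intro x y w w' h1 h3' h4' h5 z hz
    obtain ⟨xb, hxb, hmv, hxz⟩ := hz
    rw [quot_H D1 C1 M hMk] at hxb hxz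
    obtain ⟨X1, hX1, rfl⟩ := hxb
    have hmv1 : C1.π X1 • x = y := hmv
    obtain ⟨g', hg'w, hg'x⟩ := D1.trans w' x y h4' h5
    obtain ⟨X2, hX2e, hX2m⟩ := D1.lift_sub C1 (D1.perfect1 w' hg'w)
    have hX2 := hX2m w' le_rfl
    have hmv2 : C1.π X2 • x = y := by rw [hX2e, hg'x]
    refine ⟨QuotientGroup.mk' M X2, by rw [quot_H D1 C1 M hMk]; exact ⟨X2, hX2, rfl⟩, hmv2, ?_⟩
    rw [quot_H D1 C1 M hMk]
    have hfix : C1.π (X2⁻¹ * X1) • x = x := by rw [map_mul, map_inv, mul_smul, hmv1, inv_smul_eq_iff, hmv2]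
    obtain ⟨h, hhe, hhm⟩ := D1.lift_sub C1 (D1.perfect1 x hfix)
    have hh := hhm x le_rfl
    obtain ⟨ζ, hζ⟩ : ∃ ζ, ζ = h⁻¹ * (X2⁻¹ * X1) := ⟨_, rfl⟩
    have hζ1 : C1.π ζ = 1 := by rw [hζ, map_mul C1.π h⁻¹, map_inv, hhe, inv_mul_cancel]
    suffices hsq2 : ζ * ζ ∈ D1.H C1 x by
      have hζM : ζ ∈ M := ⟨hζ1, D1.ker_mem C1 hsq2 (by rw [map_mul, hζ1, one_mul]) x₀⟩
      have hmem : QuotientGroup.mk' M (X2⁻¹ * X1) ∈ (D1.H C1 x).map (QuotientGroup.mk' M) :=
        ⟨h, hh, by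
          rw [show X2⁻¹ * X1 = h * ζ by rw [hζ, mul_inv_cancel_left], map_mul,
            show QuotientGroup.mk' M ζ = 1 from (QuotientGroup.eq_one_iff ζ).mpr hζM, mul_one]⟩
      have := mul_mem hmem hxz
      rwa [map_mul, map_inv, mul_assoc, mul_inv_cancel_left] at this
    by_cases hp : polar (QM F 3 a b) w.1.1 w'.1.1 = 0
    · -- perpendicular neighbours need no squaring
      obtain ⟨u, v⟩ : (∀ k, k ∈ stab₂ ↥(stabilizer ↥(Gr (QM F 3 a b)) o) w w' →
          k ∈ ⁅stab₂ ↥(stabilizer ↥(Gr (QM F 3 a b)) o) w w', stab₂ ↥(stabilizer ↥(Gr (QM F 3 a b)) o) w w'⁆) ∧ True :=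
        ⟨fun k hk => D1.perfect2 w w' hp hk, trivial⟩
      obtain ⟨g, hgf, hgm⟩ : ∃ g : ↥(stabilizer ↥(Gr (QM F 3 a b)) o), g ∈ stab₂ ↥(stabilizer ↥(Gr (QM F 3 a b)) o) w w' ∧ g • x = y := by
        have hv : Pairwise fun i j => polar (QM F 3 a b) ((![o, w.1, w'.1] : Fin 3 → Vec (QM F 3 a b)) i).1
            ((![o, w.1, w'.1] : Fin 3 → Vec (QM F 3 a b)) j).1 = 0 := by
          intro i j hij
          fin_cases i <;> fin_cases j
          all_goals first
            | exact absurd rfl hij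
            | simpa using w.2
            | simpa using w'.2
            | simpa using hp
            | (rw [polar_comm]; simpa using w.2)
            | (rw [polar_comm]; simpa using w'.2)
            | (rw [polar_comm]; simpa using hp)
        have hd : finrank F (Submodule.span F (Set.range fun i => ((![o, w.1, w'.1] : Fin 3 → Vec (QM F 3 a b)) i).1)) ≤ 3 :=
          (finrank_range_le_card _).trans (le_of_eq (Fintype.card_fin _))
        have hm : ∀ t : Nbr o, polar (QM F 3 a b) w.1.1 t.1.1 = 0 → polar (QM F 3 a b) w'.1.1 t.1.1 = 0 →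
            t.1.1 ∈ perp (QM F 3 a b) (Submodule.span F (Set.range fun i => ((![o, w.1, w'.1] : Fin 3 → Vec (QM F 3 a b)) i).1)) :=
          fun t e1 e2 => mem_perp_span.mpr fun v hv => by
            obtain ⟨i, rfl⟩ := hv
            fin_cases i
            · exact t.2
            · exact e1
            · exact e2
        obtain ⟨g, hg, e⟩ := exists_move h2 hR (orth_nondeg h2 _ hv) (by omega) (hm x h1 h4') (hm y h3' h5)
        exact ⟨⟨g, (fix_iff g o).mpr (hg _ (Submodule.subset_span ⟨0, rfl⟩))⟩,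
          ⟨Subtype.ext ((fix_iff g w.1).mpr (hg _ (Submodule.subset_span ⟨1, rfl⟩))),
            Subtype.ext ((fix_iff g w'.1).mpr (hg _ (Submodule.subset_span ⟨2, rfl⟩)))⟩, Subtype.ext e⟩
      obtain ⟨X0, hX0e, hX0m⟩ := D1.lift_sub C1 (u g hgf)
      have m1 : X0⁻¹ * X1 ∈ D1.H C1 x := D1.key C1 (D1.symm _ _ h1) (mul_mem (inv_mem (hX0m w inf_le_left)) hX1)
        (by rw [map_mul, map_inv, mul_smul, hmv1, hX0e, inv_smul_eq_iff, hgm])
      have m2 : X2⁻¹ * X0 ∈ D1.H C1 x := D1.key C1 (D1.symm _ _ h4') (mul_mem (inv_mem hX2) (hX0m w' inf_le_right))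
        (by rw [map_mul, map_inv, mul_smul, hX0e, hgm, inv_smul_eq_iff, hmv2])
      have hζH : ζ ∈ D1.H C1 x := by
        rw [hζ, show X2⁻¹ * X1 = (X2⁻¹ * X0) * (X0⁻¹ * X1) by group]
        exact mul_mem (inv_mem hh) (mul_mem m2 m1)
      exact mul_mem hζH hζH
    -- otherwise an element exchanging them inverts the discrepancy
    obtain ⟨g, hgx, hgy, hgo, hgw, hgw'⟩ := exists_swap h2 hR h4 hn2 w.2 w'.2 x.2 y.2 h1 h3' h4' h5
      (hsq _ hp)
    obtain ⟨γ, hγ⟩ := C.surj g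
    have hconj : ∀ (t t' : Nbr o), stabilizer ↥(Gr (QM F 3 a b)) (g • t.1) = stabilizer ↥(Gr (QM F 3 a b)) t'.1 →
        ∀ z ∈ ⁅(stab₂ ↥(Gr (QM F 3 a b)) o t.1).comap C.π, (stab₂ ↥(Gr (QM F 3 a b)) o t.1).comap C.π⁆,
          γ * z * γ⁻¹ ∈ ⁅(stab₂ ↥(Gr (QM F 3 a b)) o t'.1).comap C.π, (stab₂ ↥(Gr (QM F 3 a b)) o t'.1).comap C.π⁆ := by
      intro t t' ht z hz
      have hle' : ((stab₂ ↥(Gr (QM F 3 a b)) o t.1).comap C.π).map (MulAut.conj γ).toMonoidHom ≤
          (stab₂ ↥(Gr (QM F 3 a b)) o t'.1).comap C.π := by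
        rintro _ ⟨k, hk, rfl⟩
        show C.π (γ * k * γ⁻¹) ∈ stab₂ ↥(Gr (QM F 3 a b)) o t'.1
        rw [map_mul, map_mul, map_inv, hγ, stab₂, ← hgo, ← ht]
        constructor
        · show (g * C.π k * g⁻¹) • g • o = g • o
          rw [← mul_smul, inv_mul_cancel_right, mul_smul, show C.π k • o = o from hk.1]
        · show (g * C.π k * g⁻¹) • g • t.1 = g • t.1
          rw [← mul_smul, inv_mul_cancel_right, mul_smul, show C.π k • t.1 = t.1 from hk.2]
      have : γ * z * γ⁻¹ ∈ (⁅(stab₂ ↥(Gr (QM F 3 a b)) o t.1).comap C.π, (stab₂ ↥(Gr (QM F 3 a b)) o t.1).comap C.π⁆).map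
          (MulAut.conj γ).toMonoidHom := ⟨z, hz, rfl⟩
      rw [Subgroup.map_commutator] at this
      exact Subgroup.commutator_mono hle' hle' this
    have hH0 : ∀ z : ↥(D.H C o), γ * z.1 * γ⁻¹ ∈ D.H C o := fun z => by
      have := D.conj_mem C z.2 γ
      rw [hγ] at this
      show γ * z.1 * γ⁻¹ ∈ ⁅(stabilizer ↥(Gr (QM F 3 a b)) o).comap C.π, (stabilizer ↥(Gr (QM F 3 a b)) o).comap C.π⁆
      rw [← hgo]
      exact this
    let cj : ↥(D.H C o) → ↥(D.H C o) := fun z => ⟨γ * z.1 * γ⁻¹, hH0 z⟩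
    have cj_mem : ∀ (t t' : Nbr o) (z : ↥(D.H C o)), stabilizer ↥(Gr (QM F 3 a b)) (g • t.1) = stabilizer ↥(Gr (QM F 3 a b)) t'.1 →
        z ∈ D1.H C1 t → cj z ∈ D1.H C1 t' := fun t t' z ht hz => (hK t' _).mpr (hconj t t' ht _ ((hK t z).mp hz))
    have cj_move : ∀ z : ↥(D.H C o), C1.π z • x = y → C1.π (cj z) • x = y := fun z hz => by
      refine Subtype.ext ?_
      show C.π (γ * z.1 * γ⁻¹) • x.1 = y.1
      rw [map_mul, map_mul, map_inv, hγ, mul_smul, inv_smul_eq_iff.mpr hgx.symm, mul_smul,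
        show C.π z.1 • x.1 = y.1 from congrArg Subtype.val hz, hgy]
    have m1 : X2⁻¹ * cj X1 ∈ D1.H C1 x :=
      D1.key C1 (D1.symm _ _ h4') (mul_mem (inv_mem hX2) (cj_mem w w' X1 hgw hX1))
        (by rw [map_mul, map_inv, mul_smul, cj_move X1 hmv1, inv_smul_eq_iff, hmv2])
    have m2 : X1⁻¹ * cj X2 ∈ D1.H C1 x :=
      D1.key C1 (D1.symm _ _ h1) (mul_mem (inv_mem hX1) (cj_mem w' w X2 hgw' hX2))
        (by rw [map_mul, map_inv, mul_smul, cj_move X2 hmv2, inv_smul_eq_iff, hmv1])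
    have m3 : cj h ∈ D1.H C1 x := cj_mem x x h (by rw [hgx]) hh
    have hζc := Subgroup.mem_center_iff.1 (C1.central hζ1)
    have hζC : C.π ζ.1 = 1 := congrArg Subtype.val hζ1
    have e1 : cj h * ζ = (cj X2)⁻¹ * cj X1 := by
      have hz := Subgroup.mem_center_iff.1 (C.central hζC) γ⁻¹
      refine Subtype.ext ?_
      show γ * h.1 * γ⁻¹ * ζ.1 = (γ * X2.1 * γ⁻¹)⁻¹ * (γ * X1.1 * γ⁻¹)
      rw [mul_assoc (γ * h.1), hz, show h.1 = X2.1⁻¹ * X1.1 * ζ.1⁻¹ by rw [hζ]; push_cast; group]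
      group
    exact discrepancy_sq (D1.H C1 x) cj h X1 X2 ζ hζc (by rw [hζ, mul_inv_cancel_left]) e1 hh m1 m2 m3
  have hΓ1' : commutator (↥(D.H C o) ⧸ M) = ⊤ := by
    rw [← top_le_iff, ← Subgroup.map_top_of_surjective _ (QuotientGroup.mk'_surjective M), ← hΓ1, commutator_def,
      commutator_def, Subgroup.map_commutator]
    exact Subgroup.commutator_mono le_top le_top
  have hle1 := D1.ker_le C1' hL hΓ1' x₀
  -- the derived preimage of an edge has at most two central elements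
  have hsub : perp (QM F 3 a b) (Submodule.span F {o.1, x₀.1.1}) ⊓ perp (QM F 3 a b) (perp (QM F 3 a b) (Submodule.span F {o.1, x₀.1.1})) = ⊥ := by
    rw [perp_perp hR, inf_comm]; exact pair_nondeg h2 hR x₀.2
  let L6 := sixCoord h2 a b
  have hL6 : ∀ v, sub (QM F 3 a b) (perp (QM F 3 a b) (Submodule.span F {o.1, x₀.1.1})) (L6 v) = (1 : F) * QP F 3 v := fun v => by
    show (QM F 3 a b) (L6 v).1 = _
    rw [QM_apply, QP_apply, Fin.sum_univ_three, Fin.sum_univ_three, one_mul]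
    simp [L6, sixCoord]
    have hb : b = 1 + a ^ 2 / 4 := by linear_combination hd1
    have h22 : (4 : F) ≠ 0 := h4 ▸ one_ne_zero
    rw [hb]
    field_simp
    ring
  let J : ↥(Gr (QP F 3)) →* ↥(Gr (QM F 3 a b)) :=
    (emb hR hsub).comp (simGr (R := sub (QM F 3 a b) (perp (QM F 3 a b) (Submodule.span F {o.1, x₀.1.1}))) L6 one_ne_zero hL6).toMonoidHom
  have hJi : Function.Injective J := fun g g' e => by
    refine (simGr (R := sub (QM F 3 a b) (perp (QM F 3 a b) (Submodule.span F {o.1, x₀.1.1}))) L6 one_ne_zero hL6).injective ?_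
    refine Subtype.ext (Subtype.ext (LinearEquiv.ext fun v => Subtype.ext ?_))
    have e' := congrArg (fun k : ↥(Gr (QM F 3 a b)) => k.1.1 v.1) e
    exact ((ext_mem hR hsub _ v).symm.trans e').trans (ext_mem hR hsub _ v)
  have hJr : J.range = stab₂ ↥(Gr (QM F 3 a b)) o x₀.1 := by
    refine le_antisymm ?_ fun g hg => ?_
    · rintro _ ⟨g, rfl⟩
      constructor <;>
      · refine (fix_iff _ _).mpr (ext_perp hR hsub _ ?_)
        rw [perp_perp hR]
        exact Submodule.subset_span (by simp)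
    · obtain ⟨k, hk, he⟩ := exists_res h2 hR hsub (by
          rw [← L6.finrank_eq, Module.finrank_fintype_fun_eq_card]; simp) g.2
        fun u hu => fix_span h2 hR (fun v hv => by
          rcases Set.mem_insert_iff.mp hv with rfl | hv
          · exact (fix_iff g o).mp hg.1
          · rw [Set.mem_singleton_iff.mp hv]; exact (fix_iff g x₀.1).mp hg.2) u (by rwa [perp_perp hR] at hu)
      obtain ⟨k0, hk0⟩ := (simGr (R := sub (QM F 3 a b) (perp (QM F 3 a b) (Submodule.span F {o.1, x₀.1.1}))) L6 one_ne_zero hL6).surjective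
        ⟨k, hk⟩
      refine ⟨k0, Subtype.ext ?_⟩
      show ext hR hsub (simGr (R := sub (QM F 3 a b) (perp (QM F 3 a b) (Submodule.span F {o.1, x₀.1.1}))) L6 one_ne_zero hL6 k0).1 = g.1
      rw [hk0]
      exact he
  let eJ : ↥(Gr (QP F 3)) ≃* ↥(stab₂ ↥(Gr (QM F 3 a b)) o x₀.1) :=
    (MonoidHom.ofInjective hJi).trans (MulEquiv.subgroupCongr hJr)
  set K := ⁅(stab₂ ↥(Gr (QM F 3 a b)) o x₀.1).comap C.π, (stab₂ ↥(Gr (QM F 3 a b)) o x₀.1).comap C.π⁆ with hKdef
  have hedge := edge_perfect h2 hR h8 x₀.2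
  let σK : ↥K →* ↥(stab₂ ↥(Gr (QM F 3 a b)) o x₀.1) :=
    (C.π.comp K.subtype).codRestrict _ fun z =>
      (Subgroup.commutator_le_self ((stab₂ ↥(Gr (QM F 3 a b)) o x₀.1).comap C.π) z.2 :)
  let CK : Central ↥K ↥(Gr (QP F 3)) :=
    ⟨eJ.symm.toMonoidHom.comp σK, eJ.symm.surjective.comp fun y => by
      obtain ⟨z, hz, e⟩ := exists_derived_lift C hedge y.2
      exact ⟨⟨z, hz⟩, Subtype.ext e⟩,
    fun z hz => by
      rw [Subgroup.mem_center_iff]
      have h1 : C.π z.1 = 1 := congrArg Subtype.val (eJ.symm.injective (hz.trans (map_one eJ.symm).symm))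
      exact fun y => Subtype.ext (Subgroup.mem_center_iff.1 (C.central h1) y.1)⟩
  obtain ⟨g2, hg2, -, hg2k⟩ := plus_ker_le_two h2 le_rfl CK (derived_preimage_perfect C hedge)
  have hKsq : ∀ z : ↥(D.H C o), z ∈ D1.H C1 x₀ → C1.π z = 1 → z * z = 1 := by
    intro z hz hz1
    have hzK := (hK x₀ z).mp hz
    have hz' : CK.π ⟨z.1, hzK⟩ = 1 := by
      show eJ.symm (σK ⟨z.1, hzK⟩) = 1
      have e : (σK ⟨z.1, hzK⟩).1 = 1 := by
        show C.π z.1 = 1
        exact congrArg Subtype.val hz1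
      rw [show σK ⟨z.1, hzK⟩ = 1 from Subtype.ext e, map_one]
    refine Subtype.ext ?_
    rcases hg2k _ hz' with e | e
    · rw [Subgroup.coe_mul, show z.1 = 1 from congrArg Subtype.val e]; simp
    · rw [Subgroup.coe_mul, show z.1 = g2.1 from congrArg Subtype.val e]
      exact congrArg Subtype.val hg2
  have h4k : ∀ z : ↥(D.H C o), C1.π z = 1 → (z * z) * (z * z) = 1 := by
    intro z hz
    have hz' : (z : ↥(D.H C o) ⧸ M) ∈ D1.H C1' x₀ := hle1 hz
    rw [quot_H D1 C1 M hMk] at hz'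
    obtain ⟨h, hh, hhz⟩ := hz'
    obtain ⟨μ, hμ, rfl⟩ : ∃ μ ∈ M, z = h * μ :=
      ⟨h⁻¹ * z, QuotientGroup.eq.mp hhz, (mul_inv_cancel_left h z).symm⟩
    have hh1 : C1.π h = 1 := by rw [map_mul, hμ.1, mul_one] at hz; exact hz
    have hc := Subgroup.mem_center_iff.1 (C1.central hh1)
    rw [show h * μ * (h * μ) = (h * h) * (μ * μ) by rw [mul_assoc, ← mul_assoc μ, hc μ]; simp only [mul_assoc],
      hKsq h hh hh1, one_mul]
    exact hKsq _ hμ.2 (by rw [map_mul, hμ.1, one_mul])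
  -- the multiplier of the stabiliser
  have hd := disc_ne h2 hab
  let e1 := stabEquiv h2 hR o (by omega) (minusCoord h2 a b hd) hd (P := QO F 3) (fun x => by
    refine Eq.trans ?_ (show (1 : F) * QO F 3 x = _ from congrArg (· * QO F 3 x) hd1.symm)
    rw [one_mul, QM_apply, QO_apply]
    simp [minusCoord, hd1]
    have hb : b = 1 + a ^ 2 / 4 := by linear_combination hd1
    have h22 : (4 : F) ≠ 0 := h4 ▸ one_ne_zero
    rw [hb, add_comm]
    congr 1
    field_simp; ring)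
  have hodd : Odd (Fintype.card F) := by rw [h3]; decide
  let ε : ↥(Gr (QO F 3)) ≃* Cfsg.POmega F (Cfsg.quadFormOdd 3 F) :=
    ((QuotientGroup.quotientBot (G := ↥(Gr (QO F 3)))).symm.trans
      (QuotientGroup.quotientMulEquivOfEq (center_bot hodd (by norm_num)).symm)).trans
      (coe_odd (F := F) 3 ▸ pOmegaEquiv (QO F 3))
  haveI : Finite ↥(Iso (QM F 3 a b)) :=
    Finite.of_injective (fun g => (⇑g.1 : ((Fin 3 ⊕ Fin 3) ⊕ Fin 2 → F) → _))
      fun g g' e => Subtype.ext (LinearEquiv.ext (congrFun e))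
  haveI : Finite ↥(Gr (QM F 3 a b)) := Subtype.finite
  haveI : Finite ↥(stabilizer ↥(Gr (QM F 3 a b)) o) := Subtype.finite
  obtain ⟨g, hg, hgg, hall⟩ := two_of_multiplier C1 hΓ1 (e1.symm.trans ε) hmult h4k
  exact ⟨g.1, congrArg Subtype.val hg, congrArg Subtype.val hgg, fun k hk =>
    (hall ⟨k, hle hk⟩ (Subtype.ext hk)).imp (congrArg Subtype.val) (congrArg Subtype.val)⟩

end Cfsg.Agent.Small.OrthCover
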