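import Cfsg.Agent.Lib.Small.OrthCover.Vectors
import Cfsg.Agent.Lib.Small.SpinCover.Universal
import Cfsg.Agent.Lib.Small.SchurSLFinal
import Cfsg.Agent.Lib.Classical.KleinQuadric

/-!
Perfect central extensions of the derived orthogonal group in odd dimension have kernel of order at
most two.
-/

set_option autoImplicit false
set_option linter.unusedSectionVars false

namespace Cfsg.Agent.Small.OrthCover

open Module QuadraticMap MulAction Cfsg.Agent.Classical.OCount Cfsg.Agent.Classical.ORefl Cfsg.Agent.Classical.OOmega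
open Cfsg.Agent.Small.SchurLifts
open scoped commutatorElement

variable {F : Type*} [Field F]

variable (F) in
/-- The form in odd dimension. -/
noncomputable abbrev QO (m : ℕ) : QuadraticForm F (Unit ⊕ (Fin m ⊕ Fin m) → F) :=
  formOf m (Equiv.sumComm Unit (Fin m ⊕ Fin m)) (lineForm F)

variable (F) in
/-- The form of plus type. -/
noncomputable abbrev QP (m : ℕ) : QuadraticForm F (Fin m ⊕ Fin m → F) :=
  formOf m (Equiv.sumEmpty (Fin m ⊕ Fin m) Empty).symm (0 : QuadraticForm F (Empty → F))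

variable {m : ℕ}

theorem QO_apply (x : Unit ⊕ (Fin m ⊕ Fin m) → F) :
    QO F m x = x (.inl ()) ^ 2 + ∑ i : Fin m, x (.inr (.inl i)) * x (.inr (.inr i)) :=
  congrFun (coe_odd m) x

theorem QP_apply (x : Fin m ⊕ Fin m → F) : QP F m x = ∑ i : Fin m, x (.inl i) * x (.inr i) :=
  congrFun (coe_plus m) x

theorem finrank_QO : finrank F (Unit ⊕ (Fin m ⊕ Fin m) → F) = 2 * m + 1 := by
  rw [Module.finrank_fintype_fun_eq_card]; simp; omega

/-- The base vector. -/
noncomputable def base (F : Type*) [Field F] (m : ℕ) : Vec (QO F m) :=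
  ⟨Pi.single (.inl ()) 1, by rw [QO_apply]; simp⟩

theorem polar_base (x : Unit ⊕ (Fin m ⊕ Fin m) → F) : polar (QO F m) (base F m).1 x = 2 * x (.inl ()) := by
  show QO F m ((base F m).1 + x) - QO F m (base F m).1 - QO F m x = _
  rw [(base F m).2, QO_apply, QO_apply]
  simp [base]
  ring

/-- Conjugation of isometry groups by an isometry. -/
noncomputable def isoCongr {V W : Type*} [AddCommGroup V] [Module F V] [AddCommGroup W] [Module F W]
    {P : QuadraticForm F V} {R : QuadraticForm F W} (L : V ≃ₗ[F] W) (h : ∀ x, R (L x) = P x) :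
    ↥(Iso P) ≃* ↥(Iso R) where
  toFun g := ⟨(L.symm.trans g.1).trans L, fun y => by
    obtain ⟨x, rfl⟩ := L.surjective y
    show R (L (g.1 (L.symm (L x)))) = R (L x)
    rw [h, h, L.symm_apply_apply]; exact g.2 x⟩
  invFun g := ⟨(L.trans g.1).trans L.symm, fun x => by
    show P (L.symm (g.1 (L x))) = P x
    rw [← h, L.apply_symm_apply, ← h x]; exact g.2 _⟩
  left_inv g := Subtype.ext (LinearEquiv.ext fun x => by
    show L.symm (L (g.1 (L.symm (L x)))) = g.1 x
    rw [L.symm_apply_apply, L.symm_apply_apply])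
  right_inv g := Subtype.ext (LinearEquiv.ext fun x => by
    show L (L.symm (g.1 (L (L.symm x)))) = g.1 x
    rw [L.apply_symm_apply, L.apply_symm_apply])
  map_mul' g g' := Subtype.ext (LinearEquiv.ext fun x => by
    show L ((g.1 * g'.1) (L.symm x)) = L (g.1 (L.symm (L (g'.1 (L.symm x)))))
    rw [L.symm_apply_apply]; rfl)

theorem isoCongr_apply {V W : Type*} [AddCommGroup V] [Module F V] [AddCommGroup W] [Module F W]
    {P : QuadraticForm F V} {R : QuadraticForm F W} (L : V ≃ₗ[F] W) (h : ∀ x, R (L x) = P x) (g : ↥(Iso P))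
    (x : V) : (isoCongr L h g).1 (L x) = L (g.1 x) := by
  show L (g.1 (L.symm (L x))) = _
  rw [L.symm_apply_apply]

variable [Finite F] (h2 : (2 : F) ≠ 0)
include h2

theorem QO_pnd : PND (QO F m) := formOf_pnd (pnd_line h2)

theorem base_nondeg :
    perp (QO F m) (Submodule.span F {(base F m).1}) ⊓
      perp (QO F m) (perp (QO F m) (Submodule.span F {(base F m).1})) = ⊥ := by
  rw [perp_perp (QO_pnd h2), inf_comm]
  exact span_nondeg h2 ((base F m).2.symm ▸ one_ne_zero)

theorem mem_base_perp {x : Unit ⊕ (Fin m ⊕ Fin m) → F} :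
    x ∈ perp (QO F m) (Submodule.span F {(base F m).1}) ↔ x (.inl ()) = 0 := by
  rw [mem_perp_span]
  simp [polar_base, h2]

/-- The coordinates of the perpendicular space of the base vector. -/
noncomputable def coordEquiv :
    (Fin m ⊕ Fin m → F) ≃ₗ[F] perp (QO F m) (Submodule.span F {(base F m).1}) where
  toFun x := ⟨Sum.elim 0 x, (mem_base_perp h2).mpr rfl⟩
  map_add' x y := Subtype.ext (funext fun k => by rcases k with u | k <;> simp)
  map_smul' c x := Subtype.ext (funext fun k => by rcases k with u | k <;> simp)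
  invFun y := y.1 ∘ Sum.inr
  left_inv x := rfl
  right_inv y := Subtype.ext (funext fun k => by
    rcases k with u | k
    · exact ((mem_base_perp h2).mp y.2).symm
    · rfl)

/-- The isometries of plus type as those fixing the base vector. -/
noncomputable def plusIso :
    ↥(Iso (QP F m)) ≃* ↥(Iso (sub (QO F m) (perp (QO F m) (Submodule.span F {(base F m).1})))) :=
  isoCongr (coordEquiv h2) fun x => by
    show QO F m (Sum.elim 0 x) = _
    rw [QO_apply, QP_apply]
    simp

/-- The derived group of plus type inside that of odd dimension. -/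
noncomputable def plusEmb : ↥(Gr (QP F m)) →* ↥(Gr (QO F m)) :=
  (emb (QO_pnd h2) (base_nondeg h2)).comp
    (((Gr (QP F m)).equivMapOfInjective _ (plusIso h2).injective).trans
      (MulEquiv.subgroupCongr (map_commutator_equiv (plusIso h2)))).toMonoidHom

theorem plusEmb_val (g : ↥(Gr (QP F m))) :
    (plusEmb h2 g).1 = ext (QO_pnd h2) (base_nondeg h2) (plusIso h2 g.1) := rfl

theorem plusEmb_injective : Function.Injective (plusEmb (F := F) (m := m) h2) := fun g g' e => by
  refine Subtype.ext ((plusIso h2).injective (Subtype.ext (LinearEquiv.ext fun x => Subtype.ext ?_)))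
  have e' := congrArg (fun k : ↥(Gr (QO F m)) => k.1.1 (x : Unit ⊕ (Fin m ⊕ Fin m) → F)) e
  simp only [plusEmb_val, ext_mem] at e'
  exact e'

theorem plusEmb_range (hm : 1 ≤ m) : (plusEmb (F := F) (m := m) h2).range = stabilizer ↥(Gr (QO F m)) (base F m) := by
  refine le_antisymm ?_ fun g hg => ?_
  · rintro _ ⟨g, rfl⟩
    rw [fix_iff, plusEmb_val, ext_perp]
    rw [perp_perp (QO_pnd h2)]
    exact Submodule.mem_span_singleton_self _
  · have hd : 2 ≤ finrank F (perp (QO F m) (Submodule.span F {(base F m).1})) := by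
      rw [← (coordEquiv h2).finrank_eq, Module.finrank_fintype_fun_eq_card]; simp; omega
    obtain ⟨k, hk, he⟩ := exists_res h2 (QO_pnd h2) (base_nondeg h2) hd g.2 fun u hu => by
      rw [perp_perp (QO_pnd h2)] at hu
      obtain ⟨c, rfl⟩ := Submodule.mem_span_singleton.mp hu
      rw [map_smul, (fix_iff g _).mp hg]
    have hk' : (plusIso h2).symm k ∈ Gr (QP F m) := by
      exact (map_commutator_equiv (plusIso (F := F) (m := m) h2).symm).le ⟨k, hk, rfl⟩
    refine ⟨⟨_, hk'⟩, Subtype.ext ?_⟩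
    rw [plusEmb_val, MulEquiv.apply_symm_apply]
    exact he

omit h2 in
/-- The derived group in matrices. -/
noncomputable def omegaEquiv {ι : Type} [Fintype ι] [DecidableEq ι] (Q : QuadraticForm F (ι → F))
    {f : (ι → F) → F} (h : ⇑Q = f) : ↥(Gr Q) ≃* ↥(Cfsg.Omega F f) :=
  ((Gr Q).equivMapOfInjective _ (toMat Q).injective).trans
    (MulEquiv.subgroupCongr ((omega_eq_map (Q := Q)).symm) |>.trans (h ▸ MulEquiv.refl _))

omit h2 in
/-- A perfect central extension covered by a group with a kernel of two elements. -/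
theorem ker_le_two {A H Q : Type*} [Group A] [Group H] [Group Q] (C : Central H Q) (hH : commutator H = ⊤)
    (ι : A →* Q) (hι : Function.Surjective ι) (z : A) (hzz : z * z = 1) (hz : ι z = 1)
    (hker : ∀ a, ι a = 1 → a = 1 ∨ a = z) (θ : A →* H) (hθ : C.π.comp θ = ι) :
    ∃ g : H, g * g = 1 ∧ C.π g = 1 ∧ ∀ k, C.π k = 1 → k = 1 ∨ k = g := by
  refine ⟨θ z, by rw [← map_mul, hzz, map_one], (DFunLike.congr_fun hθ z).trans hz, fun k hk => ?_⟩
  obtain ⟨a, rfl⟩ : k ∈ θ.range := SchurSLFinal.commutator_le_range C ι hι θ hθ (hH ▸ Subgroup.mem_top k)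
  rcases hker a ((DFunLike.congr_fun hθ a).symm.trans hk) with rfl | rfl
  · exact Or.inl (map_one θ)
  · exact Or.inr rfl

omit h2 in
/-- The derived group of the preimage of a perfect subgroup is perfect. -/
theorem derived_preimage_perfect {Γ G : Type*} [Group Γ] [Group G] (C : Central Γ G) {S : Subgroup G}
    (hS : S ≤ ⁅S, S⁆) : commutator ↥⁅S.comap C.π, S.comap C.π⁆ = ⊤ := by
  set H := ⁅S.comap C.π, S.comap C.π⁆
  rw [eq_top_iff, ← Subgroup.map_le_map_iff_of_injective H.subtype_injective, commutator_def,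
    Subgroup.map_commutator, ← MonoidHom.range_eq_map, Subgroup.range_subtype]
  have hle : H ≤ S.comap C.π := Subgroup.commutator_le_self _
  refine Subgroup.commutator_le.mpr fun x hx y hy => ?_
  have hl : ∀ q ∈ S, ∃ a ∈ H, C.π a = q := fun q hq => by
    have := hS hq
    rw [← Subgroup.map_comap_eq_self_of_surjective C.surj S, ← Subgroup.map_commutator] at this
    obtain ⟨a, ha, e⟩ := this
    exact ⟨a, ha, e⟩
  obtain ⟨a, ha, ea⟩ := hl _ hx
  obtain ⟨b, hb, eb⟩ := hl _ hy
  rw [C.comm_indep ea.symm eb.symm]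
  exact Subgroup.commutator_mem_commutator ha hb

omit h2 in
/-- Central extensions of the derived group of plus type are covered by two-element kernels. -/
theorem plus_ker_le_two [Fintype F] (h2 : (2 : F) ≠ 0) (hm : 3 ≤ m) {H : Type*} [Group H]
    (C : Central H ↥(Gr (QP F m))) (hH : commutator H = ⊤) :
    ∃ g : H, g * g = 1 ∧ C.π g = 1 ∧ ∀ k, C.π k = 1 → k = 1 ∨ k = g := by
  by_cases h3 : m = 3
  · subst h3
    let ι : Matrix.SpecialLinearGroup (Fin 4) F →* ↥(Gr (QP F 3)) :=
      (Cfsg.Agent.Classical.Klein.hom F).codRestrict _ fun g => Cfsg.Agent.Classical.Klein.hom_range_le ⟨g, rfl⟩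
    have hι : Function.Surjective ι := fun y => by
      obtain ⟨g, hg⟩ : y.1 ∈ (Cfsg.Agent.Classical.Klein.hom F).range := by
        rw [Cfsg.Agent.Classical.Klein.hom_range]; exact y.2
      exact ⟨g, Subtype.ext hg⟩
    have hq : Fintype.card F ≠ 2 := fun h => h2 (by
      have := FiniteField.cast_card_eq_zero F
      rw [h] at this
      exact_mod_cast this)
    obtain ⟨θ, hθ⟩ := SchurSLFinal.exists_hom 4 (Or.inr (Or.inr (Or.inl ⟨rfl, hq⟩))) C ι
    obtain ⟨z, hz⟩ : ∃ z : Matrix.SpecialLinearGroup (Fin 4) F, z.1 = -1 :=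
      ⟨⟨-1, by rw [Matrix.det_neg, Matrix.det_one]; simp; norm_num⟩, rfl⟩
    refine ker_le_two C hH ι hι z ?_ ?_ (fun a ha => ?_) θ hθ
    · refine Subtype.ext ?_
      rw [Matrix.SpecialLinearGroup.coe_mul, hz, neg_mul_neg, one_mul, Matrix.SpecialLinearGroup.coe_one]
    · exact Subtype.ext (Cfsg.Agent.Classical.Klein.mem_ker_iff.mpr (Or.inr hz))
    · rcases Cfsg.Agent.Classical.Klein.mem_ker_iff.mp (congrArg Subtype.val ha) with h | h
      · exact Or.inl (Subtype.ext h)
      · exact Or.inr (Subtype.ext (h.trans hz.symm))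
  obtain ⟨l, rfl⟩ : ∃ l, m = l + 2 := ⟨m - 2, by omega⟩
  have hl : 2 ≤ l := by omega
  have hexc : l = 2 → Fintype.card F ≠ 2 := fun _ h => h2 (by
    have := FiniteField.cast_card_eq_zero F
    rw [h] at this
    exact_mod_cast this)
  let e : ↥(Gr (QP F (l + 2))) ≃* ↥(SpinCover.OM F l) :=
    (omegaEquiv (QP F (l + 2)) (coe_plus (l + 2))).trans (SpinCover.omEquiv F l hl).symm
  let C' : Central H ↥(SpinCover.OM F l) :=
    ⟨e.toMonoidHom.comp C.π, e.surjective.comp C.surj, fun x hx => C.central (e.injective (hx.trans (map_one e).symm))⟩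
  obtain ⟨ρ, hρ⟩ := SpinCover.spin_universal hl hexc C'
  obtain ⟨z, hzz, hz, -, -, hker⟩ := SpinCover.spin_ker (F := F) hl hexc
  obtain ⟨g, hgg, hg, hg'⟩ := ker_le_two C' hH (SpinCover.CS F l).π (SpinCover.CS F l).surj z hzz
    (Subtype.ext hz) (fun a ha => hker a (congrArg Subtype.val ha)) ρ hρ
  exact ⟨g, hgg, e.injective (hg.trans (map_one e).symm), fun k hk => hg' k ((congrArg e hk).trans (map_one e))⟩

/-- The kernel of a perfect central extension has at most two elements. -/
theorem odd_ker_le_two (hm : 3 ≤ m) (hq : 5 ≤ Nat.card F ∨ 4 ≤ m) {Γ : Type*} [Group Γ]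
    (C : Central Γ ↥(Gr (QO F m))) (hΓ : commutator Γ = ⊤) :
    ∃ g ∈ C.π.ker, g * g = 1 ∧ ∀ k ∈ C.π.ker, k = 1 ∨ k = g := by
  haveI := Fintype.ofFinite F
  have hn : 7 ≤ finrank F (Unit ⊕ (Fin m ⊕ Fin m) → F) := by rw [finrank_QO]; omega
  have hq' : 5 ≤ Nat.card F ∨ 8 ≤ finrank F (Unit ⊕ (Fin m ⊕ Fin m) → F) :=
    hq.imp_right fun h => by rw [finrank_QO]; omega
  let D := frame h2 (QO_pnd h2) hn hq'
  have hle := D.ker_le C (frame_linked h2 _ hn hq' C) hΓ (base F m)
  set H := D.H C (base F m) with hHdef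
  let e : ↥(Gr (QP F m)) ≃* ↥(stabilizer ↥(Gr (QO F m)) (base F m)) :=
    (MonoidHom.ofInjective (plusEmb_injective h2)).trans (MulEquiv.subgroupCongr (plusEmb_range h2 (by omega)))
  let σ : ↥H →* ↥(stabilizer ↥(Gr (QO F m)) (base F m)) :=
    (C.π.comp H.subtype).codRestrict _ fun x => D.π_mem C x.2
  let C' : Central ↥H ↥(Gr (QP F m)) :=
    ⟨e.symm.toMonoidHom.comp σ, e.symm.surjective.comp fun y => by
      obtain ⟨x, hx, hmem⟩ := D.lift_sub C (D.perfect1 _ y.2)
      exact ⟨⟨x, hmem _ le_rfl⟩, Subtype.ext hx⟩,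
    fun x hx => by
      rw [Subgroup.mem_center_iff]
      have h1 : C.π x.1 = 1 := congrArg Subtype.val (e.symm.injective (hx.trans (map_one e.symm).symm))
      exact fun y => Subtype.ext (Subgroup.mem_center_iff.1 (C.central h1) y.1)⟩
  obtain ⟨g, hgg, hg, hker⟩ := plus_ker_le_two h2 hm C' (derived_preimage_perfect C (D.perfect1 _))
  refine ⟨g.1, ?_, congrArg Subtype.val hgg, fun k hk => ?_⟩
  · exact congrArg Subtype.val (e.symm.injective (hg.trans (map_one e.symm).symm))
  · rcases hker ⟨k, hle hk⟩ (by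
      show e.symm (σ ⟨k, hle hk⟩) = 1
      rw [show σ ⟨k, hle hk⟩ = 1 from Subtype.ext hk, map_one]) with h | h
    · exact Or.inl (congrArg Subtype.val h)
    · exact Or.inr (congrArg Subtype.val h)

end Cfsg.Agent.Small.OrthCover
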