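import Cfsg.Agent.Lib.Small.OrthCover.Odd

/-!
Moving bounds and embeddings between orthogonal spaces, and the universality of a cover whose kernel
is as large as the bound.
-/

set_option autoImplicit false
set_option linter.unusedSectionVars false

namespace Cfsg.Agent.Small.OrthCover

open Module QuadraticMap MulAction Cfsg.Agent.Classical.OCount Cfsg.Agent.Classical.ORefl Cfsg.Agent.Classical.OOmega
open Cfsg.Agent.Small.SchurLifts
open scoped commutatorElement

universe u

variable {F : Type*} [Field F] {V W : Type*} [AddCommGroup V] [Module F V] [AddCommGroup W] [Module F W]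
  {P : QuadraticForm F V} {R : QuadraticForm F W}

/-- Conjugation of isometry groups by a similarity. -/
noncomputable def simCongr (L : V ≃ₗ[F] W) {c : F} (hc : c ≠ 0) (h : ∀ x, R (L x) = c * P x) :
    ↥(Iso P) ≃* ↥(Iso R) where
  toFun g := ⟨(L.symm.trans g.1).trans L, fun y => by
    obtain ⟨x, rfl⟩ := L.surjective y
    show R (L (g.1 (L.symm (L x)))) = R (L x)
    rw [h, h, L.symm_apply_apply, g.2 x]⟩
  invFun g := ⟨(L.trans g.1).trans L.symm, fun x => by
    show P (L.symm (g.1 (L x))) = P x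
    refine mul_left_cancel₀ hc ?_
    rw [← h, L.apply_symm_apply, ← h x]; exact g.2 _⟩
  left_inv g := Subtype.ext (LinearEquiv.ext fun x => by
    show L.symm (L (g.1 (L.symm (L x)))) = g.1 x
    rw [L.symm_apply_apply, L.symm_apply_apply])
  right_inv g := Subtype.ext (LinearEquiv.ext fun x => by
    show L (L.symm (g.1 (L (L.symm x)))) = g.1 x
    rw [L.apply_symm_apply, L.apply_symm_apply])
  map_mul' g g' := Subtype.ext (LinearEquiv.ext fun x => by
    show L ((g.1 * g'.1) (L.symm x)) = L (g.1 (L.symm (L (g'.1 (L.symm x)))))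
    rw [L.symm_apply_apply]; rfl)

theorem simCongr_apply (L : V ≃ₗ[F] W) {c : F} (hc : c ≠ 0) (h : ∀ x, R (L x) = c * P x) (g : ↥(Iso P)) (x : V) :
    (simCongr L hc h g).1 (L x) = L (g.1 x) := by
  show L (g.1 (L.symm (L x))) = _
  rw [L.symm_apply_apply]

theorem simCongr_rf (L : V ≃ₗ[F] W) {c : F} (hc : c ≠ 0) (h : ∀ x, R (L x) = c * P x) (v : V) :
    simCongr L hc h (rf P v) = rf R (L v) := by
  refine Subtype.ext (LinearEquiv.ext fun y => ?_)
  obtain ⟨x, rfl⟩ := L.surjective y
  rw [simCongr_apply]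
  show L (refl P v x) = refl R (L v) (L x)
  have hp : polar R (L v) (L x) = c * polar P v x := by simp only [polar, ← map_add, h]; ring
  rw [refl_apply, refl_apply, map_sub, map_smul, h, hp, mul_inv_rev, mul_assoc, inv_mul_cancel_left₀ hc]

/-- The derived groups of similar spaces. -/
noncomputable def simGr (L : V ≃ₗ[F] W) {c : F} (hc : c ≠ 0) (h : ∀ x, R (L x) = c * P x) :
    ↥(Gr P) ≃* ↥(Gr R) :=
  ((Gr P).equivMapOfInjective _ (simCongr L hc h).injective).trans
    (MulEquiv.subgroupCongr (map_commutator_equiv (simCongr L hc h)))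

theorem simGr_val (L : V ≃ₗ[F] W) {c : F} (hc : c ≠ 0) (h : ∀ x, R (L x) = c * P x) (g : ↥(Gr P)) :
    (simGr L hc h g).1 = simCongr L hc h g.1 := rfl

section Isometric

variable [FiniteDimensional F W] [Finite F] (hR : PND R) (hP : PND P) (L : V →ₗ[F] W) (hL : Function.Injective L)
  (h : ∀ x, R (L x) = P x)
include hP h

theorem range_nondeg : LinearMap.range L ⊓ perp R (LinearMap.range L) = ⊥ := by
  rw [eq_bot_iff]
  rintro _ ⟨⟨y, rfl⟩, hp⟩
  rw [Submodule.mem_bot]
  refine (congrArg L (hP y fun z => ?_)).trans (map_zero L)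
  have h1 : polar R (L z) (L y) = 0 := hp _ ⟨z, rfl⟩
  rw [polar_comm]
  simp only [polar, ← map_add, h] at h1
  exact h1

include hR hL

omit hR hP in
theorem range_value (x : V) : sub R (LinearMap.range L) (LinearEquiv.ofInjective L hL x) = 1 * P x :=
  (h x).trans (one_mul _).symm

/-- The derived group of an isometric image. -/
noncomputable def isoEmb : ↥(Gr P) →* ↥(Gr R) :=
  (emb hR (range_nondeg hP L h)).comp
    (simGr (LinearEquiv.ofInjective L hL) (one_ne_zero (α := F)) (range_value L hL h)).toMonoidHom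

theorem isoEmb_apply (g : ↥(Gr P)) (x : V) : (isoEmb hR hP L hL h g).1.1 (L x) = L (g.1.1 x) := by
  refine (ext_mem hR (range_nondeg hP L h) _ (LinearEquiv.ofInjective L hL x)).trans ?_
  refine congrArg Subtype.val (simCongr_apply (LinearEquiv.ofInjective L hL) (one_ne_zero (α := F)) (range_value L hL h) g.1 x)

theorem isoEmb_injective : Function.Injective (isoEmb hR hP L hL h) := fun g g' e => by
  refine Subtype.ext (Subtype.ext (LinearEquiv.ext fun x => hL ?_))
  rw [← isoEmb_apply hR hP L hL h, e, isoEmb_apply]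

theorem isoEmb_rf {g : ↥(Gr P)} {a b : V} (hg : g.1 = rf P a * rf P b) :
    (isoEmb hR hP L hL h g).1 = rf R (L a) * rf R (L b) := by
  show ext hR (range_nondeg hP L h) (simCongr (LinearEquiv.ofInjective L hL) (one_ne_zero (α := F)) (range_value L hL h) g.1) = _
  rw [hg, map_mul, map_mul, simCongr_rf, simCongr_rf, ext_rf, ext_rf]
  rfl

end Isometric

section Stab

variable [FiniteDimensional F W] [Finite F] (h2 : (2 : F) ≠ 0) (hR : PND R) (a : Vec R) (hd : 3 ≤ finrank F W)
  (L : V ≃ₗ[F] perp R (Submodule.span F {a.1})) {c : F} (hc : c ≠ 0)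
  (h : ∀ x, R (L x : W) = c * P x)
include h2 hR hd

theorem vec_nondeg : perp R (Submodule.span F {a.1}) ⊓ perp R (perp R (Submodule.span F {a.1})) = ⊥ := by
  rw [perp_perp hR, inf_comm]
  exact span_nondeg h2 (a.2.symm ▸ one_ne_zero)

/-- The derived group of a similar space as a stabiliser. -/
noncomputable def stabEmb : ↥(Gr P) →* ↥(Gr R) :=
  (emb hR (vec_nondeg h2 hR a hd)).comp (simGr (R := sub R (perp R (Submodule.span F {a.1}))) L hc h).toMonoidHom

theorem stabEmb_injective : Function.Injective (stabEmb h2 hR a hd L hc h) := fun g g' e => by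
  refine (simGr (R := sub R (perp R (Submodule.span F {a.1}))) L hc h).injective ?_
  refine Subtype.ext (Subtype.ext (LinearEquiv.ext fun x => Subtype.ext ?_))
  have e' := congrArg (fun k : ↥(Gr R) => k.1.1 (x : W)) e
  refine ((ext_mem hR (vec_nondeg h2 hR a hd) _ x).symm.trans e').trans ?_
  exact ext_mem hR (vec_nondeg h2 hR a hd) _ x

theorem stabEmb_range : (stabEmb h2 hR a hd L hc h).range = stabilizer ↥(Gr R) a := by
  refine le_antisymm ?_ fun g hg => ?_
  · rintro _ ⟨g, rfl⟩
    rw [fix_iff]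
    refine ext_perp hR (vec_nondeg h2 hR a hd) _ ?_
    rw [perp_perp hR]
    exact Submodule.mem_span_singleton_self _
  · have hd' : 2 ≤ finrank F (perp R (Submodule.span F {a.1})) := by
      rw [finrank_perp hR, finrank_span_singleton (ne_zero a)]; omega
    obtain ⟨k, hk, he⟩ := exists_res h2 hR (vec_nondeg h2 hR a hd) hd' g.2 fun u hu => by
      rw [perp_perp hR] at hu
      obtain ⟨t, rfl⟩ := Submodule.mem_span_singleton.mp hu
      rw [map_smul, (fix_iff g _).mp hg]
    obtain ⟨k0, hk0⟩ := (simGr (R := sub R (perp R (Submodule.span F {a.1}))) L hc h).surjective ⟨k, hk⟩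
    refine ⟨k0, Subtype.ext ?_⟩
    show ext hR (vec_nondeg h2 hR a hd) (simGr (R := sub R (perp R (Submodule.span F {a.1}))) L hc h k0).1 = g.1
    rw [hk0]
    exact he

/-- The derived group of a similar space is a stabiliser. -/
noncomputable def stabEquiv : ↥(Gr P) ≃* ↥(stabilizer ↥(Gr R) a) :=
  (MonoidHom.ofInjective (stabEmb_injective h2 hR a hd L hc h)).trans
    (MulEquiv.subgroupCongr (stabEmb_range h2 hR a hd L hc h))

end Stab

/-- A bound on the extensions of a stabiliser bounds those of the whole group. -/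
theorem ker_le_of_stab [FiniteDimensional F W] [Finite F] (h2 : (2 : F) ≠ 0) (hR : PND R) (a : Vec R)
    (hn : 7 ≤ finrank F W) (hq : 5 ≤ Nat.card F ∨ 8 ≤ finrank F W) {S : Type*} [Group S]
    (e : S ≃* ↥(stabilizer ↥(Gr R) a))
    (bound : ∀ {H : Type u} [Group H] (C : Central H S), commutator H = ⊤ →
      ∃ g ∈ C.π.ker, g * g = 1 ∧ ∀ k ∈ C.π.ker, k = 1 ∨ k = g)
    {Γ : Type u} [Group Γ] (C : Central Γ ↥(Gr R)) (hΓ : commutator Γ = ⊤) :
    ∃ g ∈ C.π.ker, g * g = 1 ∧ ∀ k ∈ C.π.ker, k = 1 ∨ k = g := by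
  let D := frame h2 hR hn hq
  have hle := D.ker_le C (frame_linked h2 hR hn hq C) hΓ a
  let σ : ↥(D.H C a) →* ↥(stabilizer ↥(Gr R) a) :=
    (C.π.comp (D.H C a).subtype).codRestrict _ fun x => D.π_mem C x.2
  let C' : Central ↥(D.H C a) S :=
    ⟨e.symm.toMonoidHom.comp σ, e.symm.surjective.comp fun y => by
      obtain ⟨x, hx, hmem⟩ := D.lift_sub C (D.perfect1 _ y.2)
      exact ⟨⟨x, hmem _ le_rfl⟩, Subtype.ext hx⟩,
    fun x hx => by
      rw [Subgroup.mem_center_iff]
      have h1 : C.π x.1 = 1 := congrArg Subtype.val (e.symm.injective (hx.trans (map_one e.symm).symm))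
      exact fun y => Subtype.ext (Subgroup.mem_center_iff.1 (C.central h1) y.1)⟩
  obtain ⟨g, hg, hgg, hker⟩ := bound C' (derived_preimage_perfect C (D.perfect1 _))
  refine ⟨g.1, ?_, congrArg Subtype.val hgg, fun k hk => ?_⟩
  · exact congrArg Subtype.val (e.symm.injective ((show e.symm (σ g) = 1 from hg).trans (map_one e.symm).symm))
  · rcases hker ⟨k, hle hk⟩ (by
      show e.symm (σ ⟨k, hle hk⟩) = 1
      rw [show σ ⟨k, hle hk⟩ = 1 from Subtype.ext hk, map_one]) with h | h
    · exact Or.inl (congrArg Subtype.val h)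
    · exact Or.inr (congrArg Subtype.val h)

/-- A cover as large as the bound maps to every central extension. -/
theorem cover_universal {A Q : Type u} [Group A] [Group Q] (C₀ : Central A Q) (hA : commutator A = ⊤) (z : A)
    (hz : C₀.π z = 1) (hz1 : z ≠ 1)
    (bound : ∀ {Γ : Type u} [Group Γ] (C : Central Γ Q), commutator Γ = ⊤ →
      ∃ g ∈ C.π.ker, g * g = 1 ∧ ∀ k ∈ C.π.ker, k = 1 ∨ k = g)
    {Γ : Type u} [Group Γ] (C : Central Γ Q) : ∃ f : A →* Γ, C.π.comp f = C₀.π := by
  let E0 : Subgroup (Γ × A) := (C.π.comp (MonoidHom.fst _ _)).eqLocus (C₀.π.comp (MonoidHom.snd _ _))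
  let CE : Central ↥E0 Q :=
  { π := (C₀.π.comp (MonoidHom.snd _ _)).comp E0.subtype
    surj := fun q => by
      obtain ⟨a, ha⟩ := C.surj q
      obtain ⟨b, hb⟩ := C₀.surj q
      exact ⟨⟨(a, b), show C.π a = C₀.π b by rw [ha, hb]⟩, hb⟩
    central := fun x hx => by
      have h2 : C₀.π x.1.2 = 1 := hx
      have h1 : C.π x.1.1 = 1 := (show C.π x.1.1 = C₀.π x.1.2 from x.2).trans h2
      rw [Subgroup.mem_center_iff]
      exact fun y => Subtype.ext (Prod.ext (Subgroup.mem_center_iff.1 (C.central h1) _)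
        (Subgroup.mem_center_iff.1 (C₀.central h2) _)) }
  let E := ⁅(⊤ : Subgroup Q).comap CE.π, (⊤ : Subgroup Q).comap CE.π⁆
  have hQ : (⊤ : Subgroup Q) ≤ ⁅(⊤ : Subgroup Q), (⊤ : Subgroup Q)⁆ := by
    rw [← Subgroup.map_top_of_surjective C₀.π C₀.surj, ← Subgroup.map_commutator, ← commutator_def, hA]
  have hsurjE : ∀ q, ∃ x ∈ E, CE.π x = q := fun q => by
    have h : q ∈ ⁅(⊤ : Subgroup Q), (⊤ : Subgroup Q)⁆ := hQ (Subgroup.mem_top q)
    rw [← Subgroup.map_comap_eq_self_of_surjective CE.surj (⊤ : Subgroup Q), ← Subgroup.map_commutator] at h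
    obtain ⟨x, hx, e⟩ := h
    exact ⟨x, hx, e⟩
  let CE' : Central ↥E Q :=
    ⟨CE.π.comp E.subtype, fun q => by
      obtain ⟨x, hx, e⟩ := hsurjE q
      exact ⟨⟨x, hx⟩, e⟩,
    fun x hx => by
      rw [Subgroup.mem_center_iff]
      exact fun y => Subtype.ext (Subgroup.mem_center_iff.1 (CE.central (show CE.π x.1 = 1 from hx)) y.1)⟩
  obtain ⟨g, -, -, hker⟩ := bound CE' (derived_preimage_perfect CE hQ)
  let sn : ↥E →* A := ((MonoidHom.snd _ _).comp E0.subtype).comp E.subtype
  have hs : Function.Surjective sn := by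
    rw [← MonoidHom.range_eq_top]
    refine SpinCover.cover_top C₀ hA _ fun q => ?_
    obtain ⟨x, hx, e⟩ := hsurjE q
    exact ⟨sn ⟨x, hx⟩, ⟨_, rfl⟩, e⟩
  obtain ⟨k, hk⟩ := hs z
  have hkg : k = g := (hker k (show C₀.π (sn k) = 1 by rw [hk, hz])).resolve_left fun e => hz1 (by
    rw [← hk, e, map_one])
  have hinj : Function.Injective sn := by
    rw [injective_iff_map_eq_one]
    intro x hx
    refine (hker x (show C₀.π (sn x) = 1 by rw [hx, map_one])).resolve_right fun e => hz1 ?_
    rw [← hk, hkg, ← e, hx]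
  let eq := MulEquiv.ofBijective sn ⟨hinj, hs⟩
  refine ⟨(((MonoidHom.fst _ _).comp E0.subtype).comp E.subtype).comp eq.symm.toMonoidHom, MonoidHom.ext fun x => ?_⟩
  obtain ⟨y, rfl⟩ := eq.surjective x
  show C.π (eq.symm (eq y)).1.1.1 = C₀.π (sn y)
  rw [eq.symm_apply_apply]
  exact y.1.2

end Cfsg.Agent.Small.OrthCover
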